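import Cfsg.Agent.Lib.Helper5.Fi23TC.A1D
import Cfsg.Agent.Lib.Helper4.TC.Strict

set_option autoImplicit false
set_option maxRecDepth 100000
set_option linter.unusedVariables false
set_option Elab.async false

namespace Cfsg.Agent.Lib.Helper5.Fi23TC.A1

open Cfsg.Agent.Helper4.TC

theorem e0_c0 : edgeRange data 0 20 0 = true := edgeRange_strict data 0 20 0 (by decide +kernel)
theorem e0_c1 : edgeRange data 0 12 20 = true := edgeRange_strict data 0 12 20 (by decide +kernel)
theorem e1_c0 : edgeRange data 1 20 0 = true := edgeRange_strict data 1 20 0 (by decide +kernel)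
theorem e1_c1 : edgeRange data 1 12 20 = true := edgeRange_strict data 1 12 20 (by decide +kernel)
theorem e2_c0 : edgeRange data 2 20 0 = true := edgeRange_strict data 2 20 0 (by decide +kernel)
theorem e2_c1 : edgeRange data 2 12 20 = true := edgeRange_strict data 2 12 20 (by decide +kernel)
theorem e3_c0 : edgeRange data 3 20 0 = true := edgeRange_strict data 3 20 0 (by decide +kernel)
theorem e3_c1 : edgeRange data 3 12 20 = true := edgeRange_strict data 3 12 20 (by decide +kernel)
theorem e4_c0 : edgeRange data 4 20 0 = true := edgeRange_strict data 4 20 0 (by decide +kernel)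
theorem e4_c1 : edgeRange data 4 12 20 = true := edgeRange_strict data 4 12 20 (by decide +kernel)
theorem e5_c0 : edgeRange data 5 20 0 = true := edgeRange_strict data 5 20 0 (by decide +kernel)
theorem e5_c1 : edgeRange data 5 12 20 = true := edgeRange_strict data 5 12 20 (by decide +kernel)
theorem e6_c0 : edgeRange data 6 20 0 = true := edgeRange_strict data 6 20 0 (by decide +kernel)
theorem e6_c1 : edgeRange data 6 12 20 = true := edgeRange_strict data 6 12 20 (by decide +kernel)
theorem e7_c0 : edgeRange data 7 20 0 = true := edgeRange_strict data 7 20 0 (by decide +kernel)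
theorem e7_c1 : edgeRange data 7 12 20 = true := edgeRange_strict data 7 12 20 (by decide +kernel)
theorem e8_c0 : edgeRange data 8 20 0 = true := edgeRange_strict data 8 20 0 (by decide +kernel)
theorem e8_c1 : edgeRange data 8 12 20 = true := edgeRange_strict data 8 12 20 (by decide +kernel)
theorem e9_c0 : edgeRange data 9 20 0 = true := edgeRange_strict data 9 20 0 (by decide +kernel)
theorem e9_c1 : edgeRange data 9 12 20 = true := edgeRange_strict data 9 12 20 (by decide +kernel)
theorem e10_c0 : edgeRange data 10 20 0 = true := edgeRange_strict data 10 20 0 (by decide +kernel)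
theorem e10_c1 : edgeRange data 10 12 20 = true := edgeRange_strict data 10 12 20 (by decide +kernel)
theorem e11_c0 : edgeRange data 11 20 0 = true := edgeRange_strict data 11 20 0 (by decide +kernel)
theorem e11_c1 : edgeRange data 11 12 20 = true := edgeRange_strict data 11 12 20 (by decide +kernel)
theorem e12_c0 : edgeRange data 12 20 0 = true := edgeRange_strict data 12 20 0 (by decide +kernel)
theorem e12_c1 : edgeRange data 12 12 20 = true := edgeRange_strict data 12 12 20 (by decide +kernel)
theorem e13_c0 : edgeRange data 13 20 0 = true := edgeRange_strict data 13 20 0 (by decide +kernel)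
theorem e13_c1 : edgeRange data 13 12 20 = true := edgeRange_strict data 13 12 20 (by decide +kernel)
theorem e14_c0 : edgeRange data 14 20 0 = true := edgeRange_strict data 14 20 0 (by decide +kernel)
theorem e14_c1 : edgeRange data 14 12 20 = true := edgeRange_strict data 14 12 20 (by decide +kernel)
theorem e15_c0 : edgeRange data 15 20 0 = true := edgeRange_strict data 15 20 0 (by decide +kernel)
theorem e15_c1 : edgeRange data 15 12 20 = true := edgeRange_strict data 15 12 20 (by decide +kernel)
theorem e16_c0 : edgeRange data 16 20 0 = true := edgeRange_strict data 16 20 0 (by decide +kernel)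
theorem e16_c1 : edgeRange data 16 12 20 = true := edgeRange_strict data 16 12 20 (by decide +kernel)
theorem e17_c0 : edgeRange data 17 20 0 = true := edgeRange_strict data 17 20 0 (by decide +kernel)
theorem e17_c1 : edgeRange data 17 12 20 = true := edgeRange_strict data 17 12 20 (by decide +kernel)
theorem e18_c0 : edgeRange data 18 20 0 = true := edgeRange_strict data 18 20 0 (by decide +kernel)
theorem e18_c1 : edgeRange data 18 12 20 = true := edgeRange_strict data 18 12 20 (by decide +kernel)
theorem e19_c0 : edgeRange data 19 20 0 = true := edgeRange_strict data 19 20 0 (by decide +kernel)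
theorem e19_c1 : edgeRange data 19 12 20 = true := edgeRange_strict data 19 12 20 (by decide +kernel)

end Cfsg.Agent.Lib.Helper5.Fi23TC.A1
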