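import Cfsg.Agent.Lib.Helper4.TC.Std

/-! Letter coding for ten generators (codes 2i, 2i+1 = generator i and its inverse). -/

set_option autoImplicit false
set_option linter.unusedVariables false

namespace Cfsg.Agent.Lib.Helper5.Fi23TC.Cod10

open Cfsg.Agent.Helper4.TC

def gens : List (Fin 10) := [0, 1, 2, 3, 4, 5, 6, 7, 8, 9]

abbrev dec : ℕ → Letter (Fin 10) := stdDec gens 0
abbrev enc : Fin 10 → ℕ := stdEnc gens

theorem coding : Coding dec enc 20 :=
  std_coding gens 0 (by decide) (by decide) 20 (by decide)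

end Cfsg.Agent.Lib.Helper5.Fi23TC.Cod10
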