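import Cfsg.Agent.Lib.Helper5.Fi23TC.BD
import Cfsg.Agent.Lib.Helper4.TC.Strict

set_option autoImplicit false
set_option maxRecDepth 100000
set_option linter.unusedVariables false
set_option Elab.async false

namespace Cfsg.Agent.Lib.Helper5.Fi23TC.B

open Cfsg.Agent.Helper4.TC

theorem rows6 : rowsRange data 85618 8192 49152 = true := rowsRange_strict data 85618 8192 49152 (by decide +kernel)
theorem rows7 : rowsRange data 85618 8192 57344 = true := rowsRange_strict data 85618 8192 57344 (by decide +kernel)
theorem rows8 : rowsRange data 85618 8192 65536 = true := rowsRange_strict data 85618 8192 65536 (by decide +kernel)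
theorem rows9 : rowsRange data 85618 8192 73728 = true := rowsRange_strict data 85618 8192 73728 (by decide +kernel)
theorem rows10 : rowsRange data 85618 3698 81920 = true := rowsRange_strict data 85618 3698 81920 (by decide +kernel)

end Cfsg.Agent.Lib.Helper5.Fi23TC.B
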