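import Cfsg.Agent.Lib.Helper4.TC.Perm
import Cfsg.Agent.Lib.Helper5.Fi23TC.Cod10
import Cfsg.Agent.Lib.Helper5.Fi23TC.BFin
import Cfsg.Agent.Lib.Helper5.Fi23TC.BCM0
import Cfsg.Agent.Lib.Helper5.Fi23TC.BCM1
import Cfsg.Agent.Lib.Helper5.Fi23TC.BCE0x0
import Cfsg.Agent.Lib.Helper5.Fi23TC.BCE0x1
import Cfsg.Agent.Lib.Helper5.Fi23TC.BCE1x0
import Cfsg.Agent.Lib.Helper5.Fi23TC.BCE1x1
import Cfsg.Agent.Lib.Helper5.Fi23TC.BCE2x0
import Cfsg.Agent.Lib.Helper5.Fi23TC.BCE2x1
import Cfsg.Agent.Lib.Helper5.Fi23TC.BCE3x0
import Cfsg.Agent.Lib.Helper5.Fi23TC.BCE3x1
import Cfsg.Agent.Lib.Helper5.Fi23TC.BCE4x0
import Cfsg.Agent.Lib.Helper5.Fi23TC.BCE4x1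
import Cfsg.Agent.Lib.Helper5.Fi23TC.BCE5x0
import Cfsg.Agent.Lib.Helper5.Fi23TC.BCE5x1
import Cfsg.Agent.Lib.Helper5.Fi23TC.BCE6x0
import Cfsg.Agent.Lib.Helper5.Fi23TC.BCE6x1
import Cfsg.Agent.Lib.Helper5.Fi23TC.BCE7x0
import Cfsg.Agent.Lib.Helper5.Fi23TC.BCE7x1
import Cfsg.Agent.Lib.Helper5.Fi23TC.BCE8x0
import Cfsg.Agent.Lib.Helper5.Fi23TC.BCE8x1
import Cfsg.Agent.Lib.Helper5.Fi23TC.BCE9x0
import Cfsg.Agent.Lib.Helper5.Fi23TC.BCE9x1
import Cfsg.Agent.Lib.Helper5.Fi23TC.BCE10x0
import Cfsg.Agent.Lib.Helper5.Fi23TC.BCE10x1
import Cfsg.Agent.Lib.Helper5.Fi23TC.BCE11x0
import Cfsg.Agent.Lib.Helper5.Fi23TC.BCE11x1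
import Cfsg.Agent.Lib.Helper5.Fi23TC.BCE12x0
import Cfsg.Agent.Lib.Helper5.Fi23TC.BCE12x1
import Cfsg.Agent.Lib.Helper5.Fi23TC.BCE13x0
import Cfsg.Agent.Lib.Helper5.Fi23TC.BCE13x1
import Cfsg.Agent.Lib.Helper5.Fi23TC.BCE14x0
import Cfsg.Agent.Lib.Helper5.Fi23TC.BCE14x1
import Cfsg.Agent.Lib.Helper5.Fi23TC.BCE15x0
import Cfsg.Agent.Lib.Helper5.Fi23TC.BCE15x1
import Cfsg.Agent.Lib.Helper5.Fi23TC.BCE16x0
import Cfsg.Agent.Lib.Helper5.Fi23TC.BCE16x1
import Cfsg.Agent.Lib.Helper5.Fi23TC.BCE17x0
import Cfsg.Agent.Lib.Helper5.Fi23TC.BCE17x1
import Cfsg.Agent.Lib.Helper5.Fi23TC.BCE18x0
import Cfsg.Agent.Lib.Helper5.Fi23TC.BCE18x1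
import Cfsg.Agent.Lib.Helper5.Fi23TC.BCE19x0
import Cfsg.Agent.Lib.Helper5.Fi23TC.BCE19x1
import Cfsg.Agent.Lib.Helper5.Fi23TC.BCF0
import Cfsg.Agent.Lib.Helper5.Fi23TC.BCF1

set_option autoImplicit false
set_option maxRecDepth 100000
set_option linter.unusedVariables false

namespace Cfsg.Agent.Lib.Helper5.Fi23TC.B

open Cfsg.Agent.Helper4.TC

theorem allE0 : ∀ k, k < 131072 → justE data 0 k = true := by
  intro k hk
  by_cases hh1 : k < 49152
  · skip
    by_cases hh2 : k < 24576
    · skip
      by_cases hh3 : k < 8192
      · skip
        exact edgeRange_sound data 0 8192 0 e0_c0 k (by omega) (by omega)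
      · skip
        by_cases hh4 : k < 16384
        · skip
          exact edgeRange_sound data 0 8192 8192 e0_c1 k (by omega) (by omega)
        · skip
          exact edgeRange_sound data 0 8192 16384 e0_c2 k (by omega) (by omega)
    · skip
      by_cases hh5 : k < 32768
      · skip
        exact edgeRange_sound data 0 8192 24576 e0_c3 k (by omega) (by omega)
      · skip
        by_cases hh6 : k < 40960
        · skip
          exact edgeRange_sound data 0 8192 32768 e0_c4 k (by omega) (by omega)
        · skip
          exact edgeRange_sound data 0 8192 40960 e0_c5 k (by omega) (by omega)
  · skip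
    by_cases hh7 : k < 73728
    · skip
      by_cases hh8 : k < 57344
      · skip
        exact edgeRange_sound data 0 8192 49152 e0_c6 k (by omega) (by omega)
      · skip
        by_cases hh9 : k < 65536
        · skip
          exact edgeRange_sound data 0 8192 57344 e0_c7 k (by omega) (by omega)
        · skip
          exact edgeRange_sound data 0 8192 65536 e0_c8 k (by omega) (by omega)
    · skip
      by_cases hh10 : k < 81920
      · skip
        exact edgeRange_sound data 0 8192 73728 e0_c9 k (by omega) (by omega)
      · skip
        by_cases hh11 : k < 85618
        · skip
          exact edgeRange_sound data 0 3698 81920 e0_c10 k (by omega) (by omega)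
        · skip
          exact edgeRange_sound data 0 45454 85618 e0_c11 k (by omega) (by omega)

theorem allE1 : ∀ k, k < 131072 → justE data 1 k = true := by
  intro k hk
  by_cases hh1 : k < 49152
  · skip
    by_cases hh2 : k < 24576
    · skip
      by_cases hh3 : k < 8192
      · skip
        exact edgeRange_sound data 1 8192 0 e1_c0 k (by omega) (by omega)
      · skip
        by_cases hh4 : k < 16384
        · skip
          exact edgeRange_sound data 1 8192 8192 e1_c1 k (by omega) (by omega)
        · skip
          exact edgeRange_sound data 1 8192 16384 e1_c2 k (by omega) (by omega)
    · skip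
      by_cases hh5 : k < 32768
      · skip
        exact edgeRange_sound data 1 8192 24576 e1_c3 k (by omega) (by omega)
      · skip
        by_cases hh6 : k < 40960
        · skip
          exact edgeRange_sound data 1 8192 32768 e1_c4 k (by omega) (by omega)
        · skip
          exact edgeRange_sound data 1 8192 40960 e1_c5 k (by omega) (by omega)
  · skip
    by_cases hh7 : k < 73728
    · skip
      by_cases hh8 : k < 57344
      · skip
        exact edgeRange_sound data 1 8192 49152 e1_c6 k (by omega) (by omega)
      · skip
        by_cases hh9 : k < 65536
        · skip
          exact edgeRange_sound data 1 8192 57344 e1_c7 k (by omega) (by omega)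
        · skip
          exact edgeRange_sound data 1 8192 65536 e1_c8 k (by omega) (by omega)
    · skip
      by_cases hh10 : k < 81920
      · skip
        exact edgeRange_sound data 1 8192 73728 e1_c9 k (by omega) (by omega)
      · skip
        by_cases hh11 : k < 85618
        · skip
          exact edgeRange_sound data 1 3698 81920 e1_c10 k (by omega) (by omega)
        · skip
          exact edgeRange_sound data 1 45454 85618 e1_c11 k (by omega) (by omega)

theorem allE2 : ∀ k, k < 131072 → justE data 2 k = true := by
  intro k hk
  by_cases hh1 : k < 49152
  · skip
    by_cases hh2 : k < 24576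
    · skip
      by_cases hh3 : k < 8192
      · skip
        exact edgeRange_sound data 2 8192 0 e2_c0 k (by omega) (by omega)
      · skip
        by_cases hh4 : k < 16384
        · skip
          exact edgeRange_sound data 2 8192 8192 e2_c1 k (by omega) (by omega)
        · skip
          exact edgeRange_sound data 2 8192 16384 e2_c2 k (by omega) (by omega)
    · skip
      by_cases hh5 : k < 32768
      · skip
        exact edgeRange_sound data 2 8192 24576 e2_c3 k (by omega) (by omega)
      · skip
        by_cases hh6 : k < 40960
        · skip
          exact edgeRange_sound data 2 8192 32768 e2_c4 k (by omega) (by omega)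
        · skip
          exact edgeRange_sound data 2 8192 40960 e2_c5 k (by omega) (by omega)
  · skip
    by_cases hh7 : k < 73728
    · skip
      by_cases hh8 : k < 57344
      · skip
        exact edgeRange_sound data 2 8192 49152 e2_c6 k (by omega) (by omega)
      · skip
        by_cases hh9 : k < 65536
        · skip
          exact edgeRange_sound data 2 8192 57344 e2_c7 k (by omega) (by omega)
        · skip
          exact edgeRange_sound data 2 8192 65536 e2_c8 k (by omega) (by omega)
    · skip
      by_cases hh10 : k < 81920
      · skip
        exact edgeRange_sound data 2 8192 73728 e2_c9 k (by omega) (by omega)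
      · skip
        by_cases hh11 : k < 85618
        · skip
          exact edgeRange_sound data 2 3698 81920 e2_c10 k (by omega) (by omega)
        · skip
          exact edgeRange_sound data 2 45454 85618 e2_c11 k (by omega) (by omega)

theorem allE3 : ∀ k, k < 131072 → justE data 3 k = true := by
  intro k hk
  by_cases hh1 : k < 49152
  · skip
    by_cases hh2 : k < 24576
    · skip
      by_cases hh3 : k < 8192
      · skip
        exact edgeRange_sound data 3 8192 0 e3_c0 k (by omega) (by omega)
      · skip
        by_cases hh4 : k < 16384
        · skip
          exact edgeRange_sound data 3 8192 8192 e3_c1 k (by omega) (by omega)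
        · skip
          exact edgeRange_sound data 3 8192 16384 e3_c2 k (by omega) (by omega)
    · skip
      by_cases hh5 : k < 32768
      · skip
        exact edgeRange_sound data 3 8192 24576 e3_c3 k (by omega) (by omega)
      · skip
        by_cases hh6 : k < 40960
        · skip
          exact edgeRange_sound data 3 8192 32768 e3_c4 k (by omega) (by omega)
        · skip
          exact edgeRange_sound data 3 8192 40960 e3_c5 k (by omega) (by omega)
  · skip
    by_cases hh7 : k < 73728
    · skip
      by_cases hh8 : k < 57344
      · skip
        exact edgeRange_sound data 3 8192 49152 e3_c6 k (by omega) (by omega)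
      · skip
        by_cases hh9 : k < 65536
        · skip
          exact edgeRange_sound data 3 8192 57344 e3_c7 k (by omega) (by omega)
        · skip
          exact edgeRange_sound data 3 8192 65536 e3_c8 k (by omega) (by omega)
    · skip
      by_cases hh10 : k < 81920
      · skip
        exact edgeRange_sound data 3 8192 73728 e3_c9 k (by omega) (by omega)
      · skip
        by_cases hh11 : k < 85618
        · skip
          exact edgeRange_sound data 3 3698 81920 e3_c10 k (by omega) (by omega)
        · skip
          exact edgeRange_sound data 3 45454 85618 e3_c11 k (by omega) (by omega)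

theorem allE4 : ∀ k, k < 131072 → justE data 4 k = true := by
  intro k hk
  by_cases hh1 : k < 49152
  · skip
    by_cases hh2 : k < 24576
    · skip
      by_cases hh3 : k < 8192
      · skip
        exact edgeRange_sound data 4 8192 0 e4_c0 k (by omega) (by omega)
      · skip
        by_cases hh4 : k < 16384
        · skip
          exact edgeRange_sound data 4 8192 8192 e4_c1 k (by omega) (by omega)
        · skip
          exact edgeRange_sound data 4 8192 16384 e4_c2 k (by omega) (by omega)
    · skip
      by_cases hh5 : k < 32768
      · skip
        exact edgeRange_sound data 4 8192 24576 e4_c3 k (by omega) (by omega)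
      · skip
        by_cases hh6 : k < 40960
        · skip
          exact edgeRange_sound data 4 8192 32768 e4_c4 k (by omega) (by omega)
        · skip
          exact edgeRange_sound data 4 8192 40960 e4_c5 k (by omega) (by omega)
  · skip
    by_cases hh7 : k < 73728
    · skip
      by_cases hh8 : k < 57344
      · skip
        exact edgeRange_sound data 4 8192 49152 e4_c6 k (by omega) (by omega)
      · skip
        by_cases hh9 : k < 65536
        · skip
          exact edgeRange_sound data 4 8192 57344 e4_c7 k (by omega) (by omega)
        · skip
          exact edgeRange_sound data 4 8192 65536 e4_c8 k (by omega) (by omega)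
    · skip
      by_cases hh10 : k < 81920
      · skip
        exact edgeRange_sound data 4 8192 73728 e4_c9 k (by omega) (by omega)
      · skip
        by_cases hh11 : k < 85618
        · skip
          exact edgeRange_sound data 4 3698 81920 e4_c10 k (by omega) (by omega)
        · skip
          exact edgeRange_sound data 4 45454 85618 e4_c11 k (by omega) (by omega)

theorem allE5 : ∀ k, k < 131072 → justE data 5 k = true := by
  intro k hk
  by_cases hh1 : k < 49152
  · skip
    by_cases hh2 : k < 24576
    · skip
      by_cases hh3 : k < 8192
      · skip
        exact edgeRange_sound data 5 8192 0 e5_c0 k (by omega) (by omega)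
      · skip
        by_cases hh4 : k < 16384
        · skip
          exact edgeRange_sound data 5 8192 8192 e5_c1 k (by omega) (by omega)
        · skip
          exact edgeRange_sound data 5 8192 16384 e5_c2 k (by omega) (by omega)
    · skip
      by_cases hh5 : k < 32768
      · skip
        exact edgeRange_sound data 5 8192 24576 e5_c3 k (by omega) (by omega)
      · skip
        by_cases hh6 : k < 40960
        · skip
          exact edgeRange_sound data 5 8192 32768 e5_c4 k (by omega) (by omega)
        · skip
          exact edgeRange_sound data 5 8192 40960 e5_c5 k (by omega) (by omega)
  · skip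
    by_cases hh7 : k < 73728
    · skip
      by_cases hh8 : k < 57344
      · skip
        exact edgeRange_sound data 5 8192 49152 e5_c6 k (by omega) (by omega)
      · skip
        by_cases hh9 : k < 65536
        · skip
          exact edgeRange_sound data 5 8192 57344 e5_c7 k (by omega) (by omega)
        · skip
          exact edgeRange_sound data 5 8192 65536 e5_c8 k (by omega) (by omega)
    · skip
      by_cases hh10 : k < 81920
      · skip
        exact edgeRange_sound data 5 8192 73728 e5_c9 k (by omega) (by omega)
      · skip
        by_cases hh11 : k < 85618
        · skip
          exact edgeRange_sound data 5 3698 81920 e5_c10 k (by omega) (by omega)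
        · skip
          exact edgeRange_sound data 5 45454 85618 e5_c11 k (by omega) (by omega)

theorem allE6 : ∀ k, k < 131072 → justE data 6 k = true := by
  intro k hk
  by_cases hh1 : k < 49152
  · skip
    by_cases hh2 : k < 24576
    · skip
      by_cases hh3 : k < 8192
      · skip
        exact edgeRange_sound data 6 8192 0 e6_c0 k (by omega) (by omega)
      · skip
        by_cases hh4 : k < 16384
        · skip
          exact edgeRange_sound data 6 8192 8192 e6_c1 k (by omega) (by omega)
        · skip
          exact edgeRange_sound data 6 8192 16384 e6_c2 k (by omega) (by omega)
    · skip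
      by_cases hh5 : k < 32768
      · skip
        exact edgeRange_sound data 6 8192 24576 e6_c3 k (by omega) (by omega)
      · skip
        by_cases hh6 : k < 40960
        · skip
          exact edgeRange_sound data 6 8192 32768 e6_c4 k (by omega) (by omega)
        · skip
          exact edgeRange_sound data 6 8192 40960 e6_c5 k (by omega) (by omega)
  · skip
    by_cases hh7 : k < 73728
    · skip
      by_cases hh8 : k < 57344
      · skip
        exact edgeRange_sound data 6 8192 49152 e6_c6 k (by omega) (by omega)
      · skip
        by_cases hh9 : k < 65536
        · skip
          exact edgeRange_sound data 6 8192 57344 e6_c7 k (by omega) (by omega)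
        · skip
          exact edgeRange_sound data 6 8192 65536 e6_c8 k (by omega) (by omega)
    · skip
      by_cases hh10 : k < 81920
      · skip
        exact edgeRange_sound data 6 8192 73728 e6_c9 k (by omega) (by omega)
      · skip
        by_cases hh11 : k < 85618
        · skip
          exact edgeRange_sound data 6 3698 81920 e6_c10 k (by omega) (by omega)
        · skip
          exact edgeRange_sound data 6 45454 85618 e6_c11 k (by omega) (by omega)

theorem allE7 : ∀ k, k < 131072 → justE data 7 k = true := by
  intro k hk
  by_cases hh1 : k < 49152
  · skip
    by_cases hh2 : k < 24576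
    · skip
      by_cases hh3 : k < 8192
      · skip
        exact edgeRange_sound data 7 8192 0 e7_c0 k (by omega) (by omega)
      · skip
        by_cases hh4 : k < 16384
        · skip
          exact edgeRange_sound data 7 8192 8192 e7_c1 k (by omega) (by omega)
        · skip
          exact edgeRange_sound data 7 8192 16384 e7_c2 k (by omega) (by omega)
    · skip
      by_cases hh5 : k < 32768
      · skip
        exact edgeRange_sound data 7 8192 24576 e7_c3 k (by omega) (by omega)
      · skip
        by_cases hh6 : k < 40960
        · skip
          exact edgeRange_sound data 7 8192 32768 e7_c4 k (by omega) (by omega)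
        · skip
          exact edgeRange_sound data 7 8192 40960 e7_c5 k (by omega) (by omega)
  · skip
    by_cases hh7 : k < 73728
    · skip
      by_cases hh8 : k < 57344
      · skip
        exact edgeRange_sound data 7 8192 49152 e7_c6 k (by omega) (by omega)
      · skip
        by_cases hh9 : k < 65536
        · skip
          exact edgeRange_sound data 7 8192 57344 e7_c7 k (by omega) (by omega)
        · skip
          exact edgeRange_sound data 7 8192 65536 e7_c8 k (by omega) (by omega)
    · skip
      by_cases hh10 : k < 81920
      · skip
        exact edgeRange_sound data 7 8192 73728 e7_c9 k (by omega) (by omega)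
      · skip
        by_cases hh11 : k < 85618
        · skip
          exact edgeRange_sound data 7 3698 81920 e7_c10 k (by omega) (by omega)
        · skip
          exact edgeRange_sound data 7 45454 85618 e7_c11 k (by omega) (by omega)

theorem allE8 : ∀ k, k < 131072 → justE data 8 k = true := by
  intro k hk
  by_cases hh1 : k < 49152
  · skip
    by_cases hh2 : k < 24576
    · skip
      by_cases hh3 : k < 8192
      · skip
        exact edgeRange_sound data 8 8192 0 e8_c0 k (by omega) (by omega)
      · skip
        by_cases hh4 : k < 16384
        · skip
          exact edgeRange_sound data 8 8192 8192 e8_c1 k (by omega) (by omega)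
        · skip
          exact edgeRange_sound data 8 8192 16384 e8_c2 k (by omega) (by omega)
    · skip
      by_cases hh5 : k < 32768
      · skip
        exact edgeRange_sound data 8 8192 24576 e8_c3 k (by omega) (by omega)
      · skip
        by_cases hh6 : k < 40960
        · skip
          exact edgeRange_sound data 8 8192 32768 e8_c4 k (by omega) (by omega)
        · skip
          exact edgeRange_sound data 8 8192 40960 e8_c5 k (by omega) (by omega)
  · skip
    by_cases hh7 : k < 73728
    · skip
      by_cases hh8 : k < 57344
      · skip
        exact edgeRange_sound data 8 8192 49152 e8_c6 k (by omega) (by omega)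
      · skip
        by_cases hh9 : k < 65536
        · skip
          exact edgeRange_sound data 8 8192 57344 e8_c7 k (by omega) (by omega)
        · skip
          exact edgeRange_sound data 8 8192 65536 e8_c8 k (by omega) (by omega)
    · skip
      by_cases hh10 : k < 81920
      · skip
        exact edgeRange_sound data 8 8192 73728 e8_c9 k (by omega) (by omega)
      · skip
        by_cases hh11 : k < 85618
        · skip
          exact edgeRange_sound data 8 3698 81920 e8_c10 k (by omega) (by omega)
        · skip
          exact edgeRange_sound data 8 45454 85618 e8_c11 k (by omega) (by omega)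

theorem allE9 : ∀ k, k < 131072 → justE data 9 k = true := by
  intro k hk
  by_cases hh1 : k < 49152
  · skip
    by_cases hh2 : k < 24576
    · skip
      by_cases hh3 : k < 8192
      · skip
        exact edgeRange_sound data 9 8192 0 e9_c0 k (by omega) (by omega)
      · skip
        by_cases hh4 : k < 16384
        · skip
          exact edgeRange_sound data 9 8192 8192 e9_c1 k (by omega) (by omega)
        · skip
          exact edgeRange_sound data 9 8192 16384 e9_c2 k (by omega) (by omega)
    · skip
      by_cases hh5 : k < 32768
      · skip
        exact edgeRange_sound data 9 8192 24576 e9_c3 k (by omega) (by omega)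
      · skip
        by_cases hh6 : k < 40960
        · skip
          exact edgeRange_sound data 9 8192 32768 e9_c4 k (by omega) (by omega)
        · skip
          exact edgeRange_sound data 9 8192 40960 e9_c5 k (by omega) (by omega)
  · skip
    by_cases hh7 : k < 73728
    · skip
      by_cases hh8 : k < 57344
      · skip
        exact edgeRange_sound data 9 8192 49152 e9_c6 k (by omega) (by omega)
      · skip
        by_cases hh9 : k < 65536
        · skip
          exact edgeRange_sound data 9 8192 57344 e9_c7 k (by omega) (by omega)
        · skip
          exact edgeRange_sound data 9 8192 65536 e9_c8 k (by omega) (by omega)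
    · skip
      by_cases hh10 : k < 81920
      · skip
        exact edgeRange_sound data 9 8192 73728 e9_c9 k (by omega) (by omega)
      · skip
        by_cases hh11 : k < 85618
        · skip
          exact edgeRange_sound data 9 3698 81920 e9_c10 k (by omega) (by omega)
        · skip
          exact edgeRange_sound data 9 45454 85618 e9_c11 k (by omega) (by omega)

theorem allE10 : ∀ k, k < 131072 → justE data 10 k = true := by
  intro k hk
  by_cases hh1 : k < 49152
  · skip
    by_cases hh2 : k < 24576
    · skip
      by_cases hh3 : k < 8192
      · skip
        exact edgeRange_sound data 10 8192 0 e10_c0 k (by omega) (by omega)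
      · skip
        by_cases hh4 : k < 16384
        · skip
          exact edgeRange_sound data 10 8192 8192 e10_c1 k (by omega) (by omega)
        · skip
          exact edgeRange_sound data 10 8192 16384 e10_c2 k (by omega) (by omega)
    · skip
      by_cases hh5 : k < 32768
      · skip
        exact edgeRange_sound data 10 8192 24576 e10_c3 k (by omega) (by omega)
      · skip
        by_cases hh6 : k < 40960
        · skip
          exact edgeRange_sound data 10 8192 32768 e10_c4 k (by omega) (by omega)
        · skip
          exact edgeRange_sound data 10 8192 40960 e10_c5 k (by omega) (by omega)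
  · skip
    by_cases hh7 : k < 73728
    · skip
      by_cases hh8 : k < 57344
      · skip
        exact edgeRange_sound data 10 8192 49152 e10_c6 k (by omega) (by omega)
      · skip
        by_cases hh9 : k < 65536
        · skip
          exact edgeRange_sound data 10 8192 57344 e10_c7 k (by omega) (by omega)
        · skip
          exact edgeRange_sound data 10 8192 65536 e10_c8 k (by omega) (by omega)
    · skip
      by_cases hh10 : k < 81920
      · skip
        exact edgeRange_sound data 10 8192 73728 e10_c9 k (by omega) (by omega)
      · skip
        by_cases hh11 : k < 85618
        · skip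
          exact edgeRange_sound data 10 3698 81920 e10_c10 k (by omega) (by omega)
        · skip
          exact edgeRange_sound data 10 45454 85618 e10_c11 k (by omega) (by omega)

theorem allE11 : ∀ k, k < 131072 → justE data 11 k = true := by
  intro k hk
  by_cases hh1 : k < 49152
  · skip
    by_cases hh2 : k < 24576
    · skip
      by_cases hh3 : k < 8192
      · skip
        exact edgeRange_sound data 11 8192 0 e11_c0 k (by omega) (by omega)
      · skip
        by_cases hh4 : k < 16384
        · skip
          exact edgeRange_sound data 11 8192 8192 e11_c1 k (by omega) (by omega)
        · skip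
          exact edgeRange_sound data 11 8192 16384 e11_c2 k (by omega) (by omega)
    · skip
      by_cases hh5 : k < 32768
      · skip
        exact edgeRange_sound data 11 8192 24576 e11_c3 k (by omega) (by omega)
      · skip
        by_cases hh6 : k < 40960
        · skip
          exact edgeRange_sound data 11 8192 32768 e11_c4 k (by omega) (by omega)
        · skip
          exact edgeRange_sound data 11 8192 40960 e11_c5 k (by omega) (by omega)
  · skip
    by_cases hh7 : k < 73728
    · skip
      by_cases hh8 : k < 57344
      · skip
        exact edgeRange_sound data 11 8192 49152 e11_c6 k (by omega) (by omega)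
      · skip
        by_cases hh9 : k < 65536
        · skip
          exact edgeRange_sound data 11 8192 57344 e11_c7 k (by omega) (by omega)
        · skip
          exact edgeRange_sound data 11 8192 65536 e11_c8 k (by omega) (by omega)
    · skip
      by_cases hh10 : k < 81920
      · skip
        exact edgeRange_sound data 11 8192 73728 e11_c9 k (by omega) (by omega)
      · skip
        by_cases hh11 : k < 85618
        · skip
          exact edgeRange_sound data 11 3698 81920 e11_c10 k (by omega) (by omega)
        · skip
          exact edgeRange_sound data 11 45454 85618 e11_c11 k (by omega) (by omega)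

theorem allE12 : ∀ k, k < 131072 → justE data 12 k = true := by
  intro k hk
  by_cases hh1 : k < 49152
  · skip
    by_cases hh2 : k < 24576
    · skip
      by_cases hh3 : k < 8192
      · skip
        exact edgeRange_sound data 12 8192 0 e12_c0 k (by omega) (by omega)
      · skip
        by_cases hh4 : k < 16384
        · skip
          exact edgeRange_sound data 12 8192 8192 e12_c1 k (by omega) (by omega)
        · skip
          exact edgeRange_sound data 12 8192 16384 e12_c2 k (by omega) (by omega)
    · skip
      by_cases hh5 : k < 32768
      · skip
        exact edgeRange_sound data 12 8192 24576 e12_c3 k (by omega) (by omega)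
      · skip
        by_cases hh6 : k < 40960
        · skip
          exact edgeRange_sound data 12 8192 32768 e12_c4 k (by omega) (by omega)
        · skip
          exact edgeRange_sound data 12 8192 40960 e12_c5 k (by omega) (by omega)
  · skip
    by_cases hh7 : k < 73728
    · skip
      by_cases hh8 : k < 57344
      · skip
        exact edgeRange_sound data 12 8192 49152 e12_c6 k (by omega) (by omega)
      · skip
        by_cases hh9 : k < 65536
        · skip
          exact edgeRange_sound data 12 8192 57344 e12_c7 k (by omega) (by omega)
        · skip
          exact edgeRange_sound data 12 8192 65536 e12_c8 k (by omega) (by omega)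
    · skip
      by_cases hh10 : k < 81920
      · skip
        exact edgeRange_sound data 12 8192 73728 e12_c9 k (by omega) (by omega)
      · skip
        by_cases hh11 : k < 85618
        · skip
          exact edgeRange_sound data 12 3698 81920 e12_c10 k (by omega) (by omega)
        · skip
          exact edgeRange_sound data 12 45454 85618 e12_c11 k (by omega) (by omega)

theorem allE13 : ∀ k, k < 131072 → justE data 13 k = true := by
  intro k hk
  by_cases hh1 : k < 49152
  · skip
    by_cases hh2 : k < 24576
    · skip
      by_cases hh3 : k < 8192
      · skip
        exact edgeRange_sound data 13 8192 0 e13_c0 k (by omega) (by omega)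
      · skip
        by_cases hh4 : k < 16384
        · skip
          exact edgeRange_sound data 13 8192 8192 e13_c1 k (by omega) (by omega)
        · skip
          exact edgeRange_sound data 13 8192 16384 e13_c2 k (by omega) (by omega)
    · skip
      by_cases hh5 : k < 32768
      · skip
        exact edgeRange_sound data 13 8192 24576 e13_c3 k (by omega) (by omega)
      · skip
        by_cases hh6 : k < 40960
        · skip
          exact edgeRange_sound data 13 8192 32768 e13_c4 k (by omega) (by omega)
        · skip
          exact edgeRange_sound data 13 8192 40960 e13_c5 k (by omega) (by omega)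
  · skip
    by_cases hh7 : k < 73728
    · skip
      by_cases hh8 : k < 57344
      · skip
        exact edgeRange_sound data 13 8192 49152 e13_c6 k (by omega) (by omega)
      · skip
        by_cases hh9 : k < 65536
        · skip
          exact edgeRange_sound data 13 8192 57344 e13_c7 k (by omega) (by omega)
        · skip
          exact edgeRange_sound data 13 8192 65536 e13_c8 k (by omega) (by omega)
    · skip
      by_cases hh10 : k < 81920
      · skip
        exact edgeRange_sound data 13 8192 73728 e13_c9 k (by omega) (by omega)
      · skip
        by_cases hh11 : k < 85618
        · skip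
          exact edgeRange_sound data 13 3698 81920 e13_c10 k (by omega) (by omega)
        · skip
          exact edgeRange_sound data 13 45454 85618 e13_c11 k (by omega) (by omega)

theorem allE14 : ∀ k, k < 131072 → justE data 14 k = true := by
  intro k hk
  by_cases hh1 : k < 49152
  · skip
    by_cases hh2 : k < 24576
    · skip
      by_cases hh3 : k < 8192
      · skip
        exact edgeRange_sound data 14 8192 0 e14_c0 k (by omega) (by omega)
      · skip
        by_cases hh4 : k < 16384
        · skip
          exact edgeRange_sound data 14 8192 8192 e14_c1 k (by omega) (by omega)
        · skip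
          exact edgeRange_sound data 14 8192 16384 e14_c2 k (by omega) (by omega)
    · skip
      by_cases hh5 : k < 32768
      · skip
        exact edgeRange_sound data 14 8192 24576 e14_c3 k (by omega) (by omega)
      · skip
        by_cases hh6 : k < 40960
        · skip
          exact edgeRange_sound data 14 8192 32768 e14_c4 k (by omega) (by omega)
        · skip
          exact edgeRange_sound data 14 8192 40960 e14_c5 k (by omega) (by omega)
  · skip
    by_cases hh7 : k < 73728
    · skip
      by_cases hh8 : k < 57344
      · skip
        exact edgeRange_sound data 14 8192 49152 e14_c6 k (by omega) (by omega)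
      · skip
        by_cases hh9 : k < 65536
        · skip
          exact edgeRange_sound data 14 8192 57344 e14_c7 k (by omega) (by omega)
        · skip
          exact edgeRange_sound data 14 8192 65536 e14_c8 k (by omega) (by omega)
    · skip
      by_cases hh10 : k < 81920
      · skip
        exact edgeRange_sound data 14 8192 73728 e14_c9 k (by omega) (by omega)
      · skip
        by_cases hh11 : k < 85618
        · skip
          exact edgeRange_sound data 14 3698 81920 e14_c10 k (by omega) (by omega)
        · skip
          exact edgeRange_sound data 14 45454 85618 e14_c11 k (by omega) (by omega)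

theorem allE15 : ∀ k, k < 131072 → justE data 15 k = true := by
  intro k hk
  by_cases hh1 : k < 49152
  · skip
    by_cases hh2 : k < 24576
    · skip
      by_cases hh3 : k < 8192
      · skip
        exact edgeRange_sound data 15 8192 0 e15_c0 k (by omega) (by omega)
      · skip
        by_cases hh4 : k < 16384
        · skip
          exact edgeRange_sound data 15 8192 8192 e15_c1 k (by omega) (by omega)
        · skip
          exact edgeRange_sound data 15 8192 16384 e15_c2 k (by omega) (by omega)
    · skip
      by_cases hh5 : k < 32768
      · skip
        exact edgeRange_sound data 15 8192 24576 e15_c3 k (by omega) (by omega)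
      · skip
        by_cases hh6 : k < 40960
        · skip
          exact edgeRange_sound data 15 8192 32768 e15_c4 k (by omega) (by omega)
        · skip
          exact edgeRange_sound data 15 8192 40960 e15_c5 k (by omega) (by omega)
  · skip
    by_cases hh7 : k < 73728
    · skip
      by_cases hh8 : k < 57344
      · skip
        exact edgeRange_sound data 15 8192 49152 e15_c6 k (by omega) (by omega)
      · skip
        by_cases hh9 : k < 65536
        · skip
          exact edgeRange_sound data 15 8192 57344 e15_c7 k (by omega) (by omega)
        · skip
          exact edgeRange_sound data 15 8192 65536 e15_c8 k (by omega) (by omega)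
    · skip
      by_cases hh10 : k < 81920
      · skip
        exact edgeRange_sound data 15 8192 73728 e15_c9 k (by omega) (by omega)
      · skip
        by_cases hh11 : k < 85618
        · skip
          exact edgeRange_sound data 15 3698 81920 e15_c10 k (by omega) (by omega)
        · skip
          exact edgeRange_sound data 15 45454 85618 e15_c11 k (by omega) (by omega)

theorem allE16 : ∀ k, k < 131072 → justE data 16 k = true := by
  intro k hk
  by_cases hh1 : k < 49152
  · skip
    by_cases hh2 : k < 24576
    · skip
      by_cases hh3 : k < 8192
      · skip
        exact edgeRange_sound data 16 8192 0 e16_c0 k (by omega) (by omega)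
      · skip
        by_cases hh4 : k < 16384
        · skip
          exact edgeRange_sound data 16 8192 8192 e16_c1 k (by omega) (by omega)
        · skip
          exact edgeRange_sound data 16 8192 16384 e16_c2 k (by omega) (by omega)
    · skip
      by_cases hh5 : k < 32768
      · skip
        exact edgeRange_sound data 16 8192 24576 e16_c3 k (by omega) (by omega)
      · skip
        by_cases hh6 : k < 40960
        · skip
          exact edgeRange_sound data 16 8192 32768 e16_c4 k (by omega) (by omega)
        · skip
          exact edgeRange_sound data 16 8192 40960 e16_c5 k (by omega) (by omega)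
  · skip
    by_cases hh7 : k < 73728
    · skip
      by_cases hh8 : k < 57344
      · skip
        exact edgeRange_sound data 16 8192 49152 e16_c6 k (by omega) (by omega)
      · skip
        by_cases hh9 : k < 65536
        · skip
          exact edgeRange_sound data 16 8192 57344 e16_c7 k (by omega) (by omega)
        · skip
          exact edgeRange_sound data 16 8192 65536 e16_c8 k (by omega) (by omega)
    · skip
      by_cases hh10 : k < 81920
      · skip
        exact edgeRange_sound data 16 8192 73728 e16_c9 k (by omega) (by omega)
      · skip
        by_cases hh11 : k < 85618
        · skip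
          exact edgeRange_sound data 16 3698 81920 e16_c10 k (by omega) (by omega)
        · skip
          exact edgeRange_sound data 16 45454 85618 e16_c11 k (by omega) (by omega)

theorem allE17 : ∀ k, k < 131072 → justE data 17 k = true := by
  intro k hk
  by_cases hh1 : k < 49152
  · skip
    by_cases hh2 : k < 24576
    · skip
      by_cases hh3 : k < 8192
      · skip
        exact edgeRange_sound data 17 8192 0 e17_c0 k (by omega) (by omega)
      · skip
        by_cases hh4 : k < 16384
        · skip
          exact edgeRange_sound data 17 8192 8192 e17_c1 k (by omega) (by omega)
        · skip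
          exact edgeRange_sound data 17 8192 16384 e17_c2 k (by omega) (by omega)
    · skip
      by_cases hh5 : k < 32768
      · skip
        exact edgeRange_sound data 17 8192 24576 e17_c3 k (by omega) (by omega)
      · skip
        by_cases hh6 : k < 40960
        · skip
          exact edgeRange_sound data 17 8192 32768 e17_c4 k (by omega) (by omega)
        · skip
          exact edgeRange_sound data 17 8192 40960 e17_c5 k (by omega) (by omega)
  · skip
    by_cases hh7 : k < 73728
    · skip
      by_cases hh8 : k < 57344
      · skip
        exact edgeRange_sound data 17 8192 49152 e17_c6 k (by omega) (by omega)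
      · skip
        by_cases hh9 : k < 65536
        · skip
          exact edgeRange_sound data 17 8192 57344 e17_c7 k (by omega) (by omega)
        · skip
          exact edgeRange_sound data 17 8192 65536 e17_c8 k (by omega) (by omega)
    · skip
      by_cases hh10 : k < 81920
      · skip
        exact edgeRange_sound data 17 8192 73728 e17_c9 k (by omega) (by omega)
      · skip
        by_cases hh11 : k < 85618
        · skip
          exact edgeRange_sound data 17 3698 81920 e17_c10 k (by omega) (by omega)
        · skip
          exact edgeRange_sound data 17 45454 85618 e17_c11 k (by omega) (by omega)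

theorem allE18 : ∀ k, k < 131072 → justE data 18 k = true := by
  intro k hk
  by_cases hh1 : k < 49152
  · skip
    by_cases hh2 : k < 24576
    · skip
      by_cases hh3 : k < 8192
      · skip
        exact edgeRange_sound data 18 8192 0 e18_c0 k (by omega) (by omega)
      · skip
        by_cases hh4 : k < 16384
        · skip
          exact edgeRange_sound data 18 8192 8192 e18_c1 k (by omega) (by omega)
        · skip
          exact edgeRange_sound data 18 8192 16384 e18_c2 k (by omega) (by omega)
    · skip
      by_cases hh5 : k < 32768
      · skip
        exact edgeRange_sound data 18 8192 24576 e18_c3 k (by omega) (by omega)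
      · skip
        by_cases hh6 : k < 40960
        · skip
          exact edgeRange_sound data 18 8192 32768 e18_c4 k (by omega) (by omega)
        · skip
          exact edgeRange_sound data 18 8192 40960 e18_c5 k (by omega) (by omega)
  · skip
    by_cases hh7 : k < 73728
    · skip
      by_cases hh8 : k < 57344
      · skip
        exact edgeRange_sound data 18 8192 49152 e18_c6 k (by omega) (by omega)
      · skip
        by_cases hh9 : k < 65536
        · skip
          exact edgeRange_sound data 18 8192 57344 e18_c7 k (by omega) (by omega)
        · skip
          exact edgeRange_sound data 18 8192 65536 e18_c8 k (by omega) (by omega)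
    · skip
      by_cases hh10 : k < 81920
      · skip
        exact edgeRange_sound data 18 8192 73728 e18_c9 k (by omega) (by omega)
      · skip
        by_cases hh11 : k < 85618
        · skip
          exact edgeRange_sound data 18 3698 81920 e18_c10 k (by omega) (by omega)
        · skip
          exact edgeRange_sound data 18 45454 85618 e18_c11 k (by omega) (by omega)

theorem allE19 : ∀ k, k < 131072 → justE data 19 k = true := by
  intro k hk
  by_cases hh1 : k < 49152
  · skip
    by_cases hh2 : k < 24576
    · skip
      by_cases hh3 : k < 8192
      · skip
        exact edgeRange_sound data 19 8192 0 e19_c0 k (by omega) (by omega)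
      · skip
        by_cases hh4 : k < 16384
        · skip
          exact edgeRange_sound data 19 8192 8192 e19_c1 k (by omega) (by omega)
        · skip
          exact edgeRange_sound data 19 8192 16384 e19_c2 k (by omega) (by omega)
    · skip
      by_cases hh5 : k < 32768
      · skip
        exact edgeRange_sound data 19 8192 24576 e19_c3 k (by omega) (by omega)
      · skip
        by_cases hh6 : k < 40960
        · skip
          exact edgeRange_sound data 19 8192 32768 e19_c4 k (by omega) (by omega)
        · skip
          exact edgeRange_sound data 19 8192 40960 e19_c5 k (by omega) (by omega)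
  · skip
    by_cases hh7 : k < 73728
    · skip
      by_cases hh8 : k < 57344
      · skip
        exact edgeRange_sound data 19 8192 49152 e19_c6 k (by omega) (by omega)
      · skip
        by_cases hh9 : k < 65536
        · skip
          exact edgeRange_sound data 19 8192 57344 e19_c7 k (by omega) (by omega)
        · skip
          exact edgeRange_sound data 19 8192 65536 e19_c8 k (by omega) (by omega)
    · skip
      by_cases hh10 : k < 81920
      · skip
        exact edgeRange_sound data 19 8192 73728 e19_c9 k (by omega) (by omega)
      · skip
        by_cases hh11 : k < 85618
        · skip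
          exact edgeRange_sound data 19 3698 81920 e19_c10 k (by omega) (by omega)
        · skip
          exact edgeRange_sound data 19 45454 85618 e19_c11 k (by omega) (by omega)

theorem allE : ∀ c k, c < data.nc → k ≤ data.mask → justE data c k = true := by
  intro c k hc hk
  have hk' : k < 131072 := Nat.lt_succ_of_le hk
  have hc' : c < 20 := hc
  interval_cases c
  · exact allE0 k hk'
  · exact allE1 k hk'
  · exact allE2 k hk'
  · exact allE3 k hk'
  · exact allE4 k hk'
  · exact allE5 k hk'
  · exact allE6 k hk'
  · exact allE7 k hk'
  · exact allE8 k hk'
  · exact allE9 k hk'
  · exact allE10 k hk'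
  · exact allE11 k hk'
  · exact allE12 k hk'
  · exact allE13 k hk'
  · exact allE14 k hk'
  · exact allE15 k hk'
  · exact allE16 k hk'
  · exact allE17 k hk'
  · exact allE18 k hk'
  · exact allE19 k hk'

theorem allM : ∀ k, k ≤ data.mask → justM data k = true := by
  intro k hk
  have hk' : k < 131072 := Nat.lt_succ_of_le hk
  by_cases hh1 : k < 49152
  · skip
    by_cases hh2 : k < 24576
    · skip
      by_cases hh3 : k < 8192
      · skip
        exact mergeRange_sound data 8192 0 m_c0 k (by omega) (by omega)
      · skip
        by_cases hh4 : k < 16384
        · skip
          exact mergeRange_sound data 8192 8192 m_c1 k (by omega) (by omega)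
        · skip
          exact mergeRange_sound data 8192 16384 m_c2 k (by omega) (by omega)
    · skip
      by_cases hh5 : k < 32768
      · skip
        exact mergeRange_sound data 8192 24576 m_c3 k (by omega) (by omega)
      · skip
        by_cases hh6 : k < 40960
        · skip
          exact mergeRange_sound data 8192 32768 m_c4 k (by omega) (by omega)
        · skip
          exact mergeRange_sound data 8192 40960 m_c5 k (by omega) (by omega)
  · skip
    by_cases hh7 : k < 73728
    · skip
      by_cases hh8 : k < 57344
      · skip
        exact mergeRange_sound data 8192 49152 m_c6 k (by omega) (by omega)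
      · skip
        by_cases hh9 : k < 65536
        · skip
          exact mergeRange_sound data 8192 57344 m_c7 k (by omega) (by omega)
        · skip
          exact mergeRange_sound data 8192 65536 m_c8 k (by omega) (by omega)
    · skip
      by_cases hh10 : k < 81920
      · skip
        exact mergeRange_sound data 8192 73728 m_c9 k (by omega) (by omega)
      · skip
        by_cases hh11 : k < 85618
        · skip
          exact mergeRange_sound data 3698 81920 m_c10 k (by omega) (by omega)
        · skip
          exact mergeRange_sound data 45454 85618 m_c11 k (by omega) (by omega)

theorem rows_all : ∀ k, k < M → isFinal data k = true → rowOK data M k data.nc = true := by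
  intro k hk
  have hk' : k < 85618 := hk
  by_cases hh1 : k < 40960
  · skip
    by_cases hh2 : k < 16384
    · skip
      by_cases hh3 : k < 8192
      · skip
        exact rowsRange_sound data M 8192 0 rows0 k (by omega) (by omega)
      · skip
        exact rowsRange_sound data M 8192 8192 rows1 k (by omega) (by omega)
    · skip
      by_cases hh4 : k < 24576
      · skip
        exact rowsRange_sound data M 8192 16384 rows2 k (by omega) (by omega)
      · skip
        by_cases hh5 : k < 32768
        · skip
          exact rowsRange_sound data M 8192 24576 rows3 k (by omega) (by omega)
        · skip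
          exact rowsRange_sound data M 8192 32768 rows4 k (by omega) (by omega)
  · skip
    by_cases hh6 : k < 65536
    · skip
      by_cases hh7 : k < 49152
      · skip
        exact rowsRange_sound data M 8192 40960 rows5 k (by omega) (by omega)
      · skip
        by_cases hh8 : k < 57344
        · skip
          exact rowsRange_sound data M 8192 49152 rows6 k (by omega) (by omega)
        · skip
          exact rowsRange_sound data M 8192 57344 rows7 k (by omega) (by omega)
    · skip
      by_cases hh9 : k < 73728
      · skip
        exact rowsRange_sound data M 8192 65536 rows8 k (by omega) (by omega)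
      · skip
        by_cases hh10 : k < 81920
        · skip
          exact rowsRange_sound data M 8192 73728 rows9 k (by omega) (by omega)
        · skip
          exact rowsRange_sound data M 3698 81920 rows10 k (by omega) (by omega)

theorem cnt_ok : countFinal data M 0 0 = n := by
  exact cnt0

theorem bound : Finite (PresentedGroup (relSet Cfsg.Agent.Lib.Helper5.Fi23TC.Cod10.dec bases) ⧸ (Subgroup.closure (relSet Cfsg.Agent.Lib.Helper5.Fi23TC.Cod10.dec subsL)).map (PresentedGroup.mk (relSet Cfsg.Agent.Lib.Helper5.Fi23TC.Cod10.dec bases))) ∧
    Nat.card (PresentedGroup (relSet Cfsg.Agent.Lib.Helper5.Fi23TC.Cod10.dec bases) ⧸ (Subgroup.closure (relSet Cfsg.Agent.Lib.Helper5.Fi23TC.Cod10.dec subsL)).map (PresentedGroup.mk (relSet Cfsg.Agent.Lib.Helper5.Fi23TC.Cod10.dec bases))) ≤ n :=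
  tc_bound data bases subsL rots Cfsg.Agent.Lib.Helper5.Fi23TC.Cod10.coding (mem_relSet bases) (mem_relSet subsL) words_ok allE allM M n fin0_ok (by decide) (by decide) cnt_ok rows_all

end Cfsg.Agent.Lib.Helper5.Fi23TC.B
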