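import Cfsg.Agent.Lib.Helper5.Fi23TC.E7D
import Cfsg.Agent.Lib.Helper4.TC.Strict

set_option autoImplicit false
set_option maxRecDepth 100000
set_option linter.unusedVariables false
set_option Elab.async false

namespace Cfsg.Agent.Lib.Helper5.Fi23TC.E7

open Cfsg.Agent.Helper4.TC

theorem m_c0 : mergeRange data 224 0 = true := mergeRange_strict data 224 0 (by decide +kernel)
theorem m_c1 : mergeRange data 32 224 = true := mergeRange_strict data 32 224 (by decide +kernel)

end Cfsg.Agent.Lib.Helper5.Fi23TC.E7
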