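import Cfsg.Agent.Lib.Helper4.TC.Perm
import Cfsg.Agent.Lib.Helper5.Fi23TC.Cod10
import Cfsg.Agent.Lib.Helper5.Fi23TC.E7Fin
import Cfsg.Agent.Lib.Helper5.Fi23TC.E7CM0
import Cfsg.Agent.Lib.Helper5.Fi23TC.E7CEall
import Cfsg.Agent.Lib.Helper5.Fi23TC.E7CF0

set_option autoImplicit false
set_option maxRecDepth 100000
set_option linter.unusedVariables false

namespace Cfsg.Agent.Lib.Helper5.Fi23TC.E7

open Cfsg.Agent.Helper4.TC

theorem allE0 : ∀ k, k < 256 → justE data 0 k = true := by
  intro k hk
  by_cases hh1 : k < 224
  · skip
    exact edgeRange_sound data 0 224 0 e0_c0 k (by omega) (by omega)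
  · skip
    exact edgeRange_sound data 0 32 224 e0_c1 k (by omega) (by omega)

theorem allE1 : ∀ k, k < 256 → justE data 1 k = true := by
  intro k hk
  by_cases hh1 : k < 224
  · skip
    exact edgeRange_sound data 1 224 0 e1_c0 k (by omega) (by omega)
  · skip
    exact edgeRange_sound data 1 32 224 e1_c1 k (by omega) (by omega)

theorem allE2 : ∀ k, k < 256 → justE data 2 k = true := by
  intro k hk
  by_cases hh1 : k < 224
  · skip
    exact edgeRange_sound data 2 224 0 e2_c0 k (by omega) (by omega)
  · skip
    exact edgeRange_sound data 2 32 224 e2_c1 k (by omega) (by omega)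

theorem allE3 : ∀ k, k < 256 → justE data 3 k = true := by
  intro k hk
  by_cases hh1 : k < 224
  · skip
    exact edgeRange_sound data 3 224 0 e3_c0 k (by omega) (by omega)
  · skip
    exact edgeRange_sound data 3 32 224 e3_c1 k (by omega) (by omega)

theorem allE4 : ∀ k, k < 256 → justE data 4 k = true := by
  intro k hk
  by_cases hh1 : k < 224
  · skip
    exact edgeRange_sound data 4 224 0 e4_c0 k (by omega) (by omega)
  · skip
    exact edgeRange_sound data 4 32 224 e4_c1 k (by omega) (by omega)

theorem allE5 : ∀ k, k < 256 → justE data 5 k = true := by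
  intro k hk
  by_cases hh1 : k < 224
  · skip
    exact edgeRange_sound data 5 224 0 e5_c0 k (by omega) (by omega)
  · skip
    exact edgeRange_sound data 5 32 224 e5_c1 k (by omega) (by omega)

theorem allE6 : ∀ k, k < 256 → justE data 6 k = true := by
  intro k hk
  by_cases hh1 : k < 224
  · skip
    exact edgeRange_sound data 6 224 0 e6_c0 k (by omega) (by omega)
  · skip
    exact edgeRange_sound data 6 32 224 e6_c1 k (by omega) (by omega)

theorem allE7 : ∀ k, k < 256 → justE data 7 k = true := by
  intro k hk
  by_cases hh1 : k < 224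
  · skip
    exact edgeRange_sound data 7 224 0 e7_c0 k (by omega) (by omega)
  · skip
    exact edgeRange_sound data 7 32 224 e7_c1 k (by omega) (by omega)

theorem allE8 : ∀ k, k < 256 → justE data 8 k = true := by
  intro k hk
  by_cases hh1 : k < 224
  · skip
    exact edgeRange_sound data 8 224 0 e8_c0 k (by omega) (by omega)
  · skip
    exact edgeRange_sound data 8 32 224 e8_c1 k (by omega) (by omega)

theorem allE9 : ∀ k, k < 256 → justE data 9 k = true := by
  intro k hk
  by_cases hh1 : k < 224
  · skip
    exact edgeRange_sound data 9 224 0 e9_c0 k (by omega) (by omega)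
  · skip
    exact edgeRange_sound data 9 32 224 e9_c1 k (by omega) (by omega)

theorem allE10 : ∀ k, k < 256 → justE data 10 k = true := by
  intro k hk
  by_cases hh1 : k < 224
  · skip
    exact edgeRange_sound data 10 224 0 e10_c0 k (by omega) (by omega)
  · skip
    exact edgeRange_sound data 10 32 224 e10_c1 k (by omega) (by omega)

theorem allE11 : ∀ k, k < 256 → justE data 11 k = true := by
  intro k hk
  by_cases hh1 : k < 224
  · skip
    exact edgeRange_sound data 11 224 0 e11_c0 k (by omega) (by omega)
  · skip
    exact edgeRange_sound data 11 32 224 e11_c1 k (by omega) (by omega)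

theorem allE12 : ∀ k, k < 256 → justE data 12 k = true := by
  intro k hk
  by_cases hh1 : k < 224
  · skip
    exact edgeRange_sound data 12 224 0 e12_c0 k (by omega) (by omega)
  · skip
    exact edgeRange_sound data 12 32 224 e12_c1 k (by omega) (by omega)

theorem allE13 : ∀ k, k < 256 → justE data 13 k = true := by
  intro k hk
  by_cases hh1 : k < 224
  · skip
    exact edgeRange_sound data 13 224 0 e13_c0 k (by omega) (by omega)
  · skip
    exact edgeRange_sound data 13 32 224 e13_c1 k (by omega) (by omega)

theorem allE14 : ∀ k, k < 256 → justE data 14 k = true := by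
  intro k hk
  by_cases hh1 : k < 224
  · skip
    exact edgeRange_sound data 14 224 0 e14_c0 k (by omega) (by omega)
  · skip
    exact edgeRange_sound data 14 32 224 e14_c1 k (by omega) (by omega)

theorem allE15 : ∀ k, k < 256 → justE data 15 k = true := by
  intro k hk
  by_cases hh1 : k < 224
  · skip
    exact edgeRange_sound data 15 224 0 e15_c0 k (by omega) (by omega)
  · skip
    exact edgeRange_sound data 15 32 224 e15_c1 k (by omega) (by omega)

theorem allE16 : ∀ k, k < 256 → justE data 16 k = true := by
  intro k hk
  by_cases hh1 : k < 224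
  · skip
    exact edgeRange_sound data 16 224 0 e16_c0 k (by omega) (by omega)
  · skip
    exact edgeRange_sound data 16 32 224 e16_c1 k (by omega) (by omega)

theorem allE17 : ∀ k, k < 256 → justE data 17 k = true := by
  intro k hk
  by_cases hh1 : k < 224
  · skip
    exact edgeRange_sound data 17 224 0 e17_c0 k (by omega) (by omega)
  · skip
    exact edgeRange_sound data 17 32 224 e17_c1 k (by omega) (by omega)

theorem allE18 : ∀ k, k < 256 → justE data 18 k = true := by
  intro k hk
  by_cases hh1 : k < 224
  · skip
    exact edgeRange_sound data 18 224 0 e18_c0 k (by omega) (by omega)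
  · skip
    exact edgeRange_sound data 18 32 224 e18_c1 k (by omega) (by omega)

theorem allE19 : ∀ k, k < 256 → justE data 19 k = true := by
  intro k hk
  by_cases hh1 : k < 224
  · skip
    exact edgeRange_sound data 19 224 0 e19_c0 k (by omega) (by omega)
  · skip
    exact edgeRange_sound data 19 32 224 e19_c1 k (by omega) (by omega)

theorem allE : ∀ c k, c < data.nc → k ≤ data.mask → justE data c k = true := by
  intro c k hc hk
  have hk' : k < 256 := Nat.lt_succ_of_le hk
  have hc' : c < 20 := hc
  interval_cases c
  · exact allE0 k hk'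
  · exact allE1 k hk'
  · exact allE2 k hk'
  · exact allE3 k hk'
  · exact allE4 k hk'
  · exact allE5 k hk'
  · exact allE6 k hk'
  · exact allE7 k hk'
  · exact allE8 k hk'
  · exact allE9 k hk'
  · exact allE10 k hk'
  · exact allE11 k hk'
  · exact allE12 k hk'
  · exact allE13 k hk'
  · exact allE14 k hk'
  · exact allE15 k hk'
  · exact allE16 k hk'
  · exact allE17 k hk'
  · exact allE18 k hk'
  · exact allE19 k hk'

theorem allM : ∀ k, k ≤ data.mask → justM data k = true := by
  intro k hk
  have hk' : k < 256 := Nat.lt_succ_of_le hk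
  by_cases hh1 : k < 224
  · skip
    exact mergeRange_sound data 224 0 m_c0 k (by omega) (by omega)
  · skip
    exact mergeRange_sound data 32 224 m_c1 k (by omega) (by omega)

theorem rows_all : ∀ k, k < M → isFinal data k = true → rowOK data M k data.nc = true := by
  intro k hk
  have hk' : k < 224 := hk
  exact rowsRange_sound data M 224 0 rows0 k (by omega) (by omega)

theorem cnt_ok : countFinal data M 0 0 = n := by
  exact cnt0

theorem bound : Finite (PresentedGroup (relSet Cfsg.Agent.Lib.Helper5.Fi23TC.Cod10.dec bases) ⧸ (Subgroup.closure (relSet Cfsg.Agent.Lib.Helper5.Fi23TC.Cod10.dec subsL)).map (PresentedGroup.mk (relSet Cfsg.Agent.Lib.Helper5.Fi23TC.Cod10.dec bases))) ∧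
    Nat.card (PresentedGroup (relSet Cfsg.Agent.Lib.Helper5.Fi23TC.Cod10.dec bases) ⧸ (Subgroup.closure (relSet Cfsg.Agent.Lib.Helper5.Fi23TC.Cod10.dec subsL)).map (PresentedGroup.mk (relSet Cfsg.Agent.Lib.Helper5.Fi23TC.Cod10.dec bases))) ≤ n :=
  tc_bound data bases subsL rots Cfsg.Agent.Lib.Helper5.Fi23TC.Cod10.coding (mem_relSet bases) (mem_relSet subsL) words_ok allE allM M n fin0_ok (by decide) (by decide) cnt_ok rows_all

end Cfsg.Agent.Lib.Helper5.Fi23TC.E7
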