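import Cfsg.Agent.Lib.Helper4.TC.Timed

set_option autoImplicit false
set_option maxRecDepth 100000
set_option linter.unusedVariables false

namespace Cfsg.Agent.Lib.Helper5.Fi23TC.A1

open Cfsg.Agent.Helper4.TC

def e0_0 : ℕ := 0x8922c000000000000000000000004a981
def j0_0 : ℕ := 0x1000000000001
def e0_1 : ℕ := 0x0
def j0_1 : ℕ := 0x0
def e1_0 : ℕ := 0x8cc000000000000000000001098000000000000000000004b000920
def j1_0 : ℕ := 0x2000000005e00000000020e
def e1_1 : ℕ := 0x0
def j1_1 : ℕ := 0x0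
def e2_0 : ℕ := 0x790300000000000000000000000046902
def j2_0 : ℕ := 0x1000000000001
def e2_1 : ℕ := 0x0
def j2_1 : ℕ := 0x0
def e3_0 : ℕ := 0x3e600000000000000000000000000e9800000000000000023800000008a0
def j3_0 : ℕ := 0x2000000000066000000020016
def e3_1 : ℕ := 0x0
def j3_1 : ℕ := 0x0
def e4_0 : ℕ := 0x68e340000000000000000000000042883
def j4_0 : ℕ := 0x1000000000001
def e4_1 : ℕ := 0x0
def j4_1 : ℕ := 0x0
def e5_0 : ℕ := 0x1b30000000000000000000000000000000c98000000000010c000000000000820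
def j5_0 : ℕ := 0x20000000000006e00000200001e
def e5_1 : ℕ := 0x0
def j5_1 : ℕ := 0x0
def e6_0 : ℕ := 0x58c38000000000000000000000003e804
def j6_0 : ℕ := 0x1000000000001
def e6_1 : ℕ := 0x0
def j6_1 : ℕ := 0x0
def e7_0 : ℕ := 0xb9800000000000000000000000000000000000a980000007e000000000000000007a0
def j7_0 : ℕ := 0x20000000000000076000200000026
def e7_1 : ℕ := 0x0
def j7_1 : ℕ := 0x0
def e8_0 : ℕ := 0x48a3c000000000000000000000003a785
def j8_0 : ℕ := 0x1000000000001
def e8_1 : ℕ := 0x0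
def j8_1 : ℕ := 0x0
def e9_0 : ℕ := 0x4cc000000000000000000000000000000000000000089803b0000000000000000000000720
def j9_0 : ℕ := 0x200000000000000007e02000000002e
def e9_1 : ℕ := 0x0
def j9_1 : ℕ := 0x0
def e10_0 : ℕ := 0x1b000000000000000000000000000706
def j10_0 : ℕ := 0x3000000000001
def e10_1 : ℕ := 0x0
def j10_1 : ℕ := 0x0
def e11_0 : ℕ := 0x1b8000000000000000000000000006a6
def j11_0 : ℕ := 0x2000000000035
def e11_1 : ℕ := 0x0
def j11_1 : ℕ := 0x0
def e12_0 : ℕ := 0x388400000000000000000000000032687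
def j12_0 : ℕ := 0x1000000000001
def e12_1 : ℕ := 0x0
def j12_1 : ℕ := 0x0
def e13_0 : ℕ := 0xcc0006980000000000000000000000000620
def j13_0 : ℕ := 0x28600000000003e
def e13_1 : ℕ := 0x1e6
def j13_1 : ℕ := 0x2
def e14_0 : ℕ := 0x28644000000000000000000000002e608
def j14_0 : ℕ := 0x1000000000001
def e14_1 : ℕ := 0x0
def j14_1 : ℕ := 0x0
def e15_0 : ℕ := 0x5e0000000049800000000000000000000000005a0
def j15_0 : ℕ := 0x2008e000000000046
def e15_1 : ℕ := 0xb300000
def j15_1 : ℕ := 0x200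
def e16_0 : ℕ := 0x18448000000000000000000000002a589
def j16_0 : ℕ := 0x1000000000001
def e16_1 : ℕ := 0x0
def j16_1 : ℕ := 0x0
def e17_0 : ℕ := 0x2b00000000000002980000000000000000000000000520
def j17_0 : ℕ := 0x200009600000000004e
def e17_1 : ℕ := 0x398000000000
def j17_1 : ℕ := 0x20000
def e18_0 : ℕ := 0x824c000000000000000000000002650a
def j18_0 : ℕ := 0x1000000000001
def e18_1 : ℕ := 0x0
def j18_1 : ℕ := 0x0
def e19_0 : ℕ := 0x1380000000000000000009800000000000000000000000004a0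
def j19_0 : ℕ := 0x20000009e000000000056
def e19_1 : ℕ := 0xcc00000000000000
def j19_1 : ℕ := 0x2000000
def m_0 : ℕ := 0x418918c62c6218d18463c601911a404c0801501c05c060190140006401d00c07c0202100408c000250000000
def jm_0 : ℕ := 0x51413121119181716100514131211100
def m_1 : ℕ := 0x91811a060c6718519861c6
def jm_1 : ℕ := 0x91817161

end Cfsg.Agent.Lib.Helper5.Fi23TC.A1
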