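import Cfsg.Agent.Lib.Helper5.Fi23TC.BT0
import Cfsg.Agent.Lib.Helper5.Fi23TC.BT1
import Cfsg.Agent.Lib.Helper5.Fi23TC.BT2
import Cfsg.Agent.Lib.Helper5.Fi23TC.BT3
import Cfsg.Agent.Lib.Helper5.Fi23TC.BT4
import Cfsg.Agent.Lib.Helper5.Fi23TC.BT5
import Cfsg.Agent.Lib.Helper5.Fi23TC.BT6
import Cfsg.Agent.Lib.Helper5.Fi23TC.BT7
import Cfsg.Agent.Lib.Helper5.Fi23TC.BT8
import Cfsg.Agent.Lib.Helper5.Fi23TC.BT9
import Cfsg.Agent.Lib.Helper5.Fi23TC.BT10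
import Cfsg.Agent.Lib.Helper5.Fi23TC.BT11
import Cfsg.Agent.Lib.Helper5.Fi23TC.BT12
import Cfsg.Agent.Lib.Helper5.Fi23TC.BT13
import Cfsg.Agent.Lib.Helper5.Fi23TC.BT14
import Cfsg.Agent.Lib.Helper5.Fi23TC.BT15
import Cfsg.Agent.Lib.Helper5.Fi23TC.BT16
import Cfsg.Agent.Lib.Helper5.Fi23TC.BT17
import Cfsg.Agent.Lib.Helper5.Fi23TC.BT18
import Cfsg.Agent.Lib.Helper5.Fi23TC.BT19
import Cfsg.Agent.Lib.Helper5.Fi23TC.BT20
import Cfsg.Agent.Lib.Helper5.Fi23TC.BT21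
import Cfsg.Agent.Lib.Helper5.Fi23TC.BT22
import Cfsg.Agent.Lib.Helper5.Fi23TC.BT23
import Cfsg.Agent.Lib.Helper5.Fi23TC.BT24
import Cfsg.Agent.Lib.Helper5.Fi23TC.BT25
import Cfsg.Agent.Lib.Helper5.Fi23TC.BT26
import Cfsg.Agent.Lib.Helper5.Fi23TC.BT27
import Cfsg.Agent.Lib.Helper5.Fi23TC.BT28
import Cfsg.Agent.Lib.Helper5.Fi23TC.BT29
import Cfsg.Agent.Lib.Helper5.Fi23TC.BT30
import Cfsg.Agent.Lib.Helper5.Fi23TC.BT31
import Cfsg.Agent.Lib.Helper5.Fi23TC.BT32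
import Cfsg.Agent.Lib.Helper5.Fi23TC.BT33
import Cfsg.Agent.Lib.Helper5.Fi23TC.BT34
import Cfsg.Agent.Lib.Helper5.Fi23TC.BT35
import Cfsg.Agent.Lib.Helper5.Fi23TC.BT36
import Cfsg.Agent.Lib.Helper5.Fi23TC.BT37

set_option autoImplicit false
set_option maxRecDepth 100000
set_option linter.unusedVariables false

namespace Cfsg.Agent.Lib.Helper5.Fi23TC.B

open Cfsg.Agent.Helper4.TC

noncomputable def ecol0 (b : ℕ) : ℕ := (Bool.rec (motive := fun _ => ℕ) (Bool.rec (motive := fun _ => ℕ) (Bool.rec (motive := fun _ => ℕ) (Bool.rec (motive := fun _ => ℕ) (Bool.rec (motive := fun _ => ℕ) (Bool.rec (motive := fun _ => ℕ) (Bool.rec (motive := fun _ => ℕ) (Bool.rec (motive := fun _ => ℕ) (e0_0) (e0_1) (Nat.ble 1 b)) (Bool.rec (motive := fun _ => ℕ) (e0_2) (e0_3) (Nat.ble 3 b)) (Nat.ble 2 b)) (Bool.rec (motive := fun _ => ℕ) (Bool.rec (motive := fun _ => ℕ) (e0_4)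 (e0_5) (Nat.ble 5 b)) (Bool.rec (motive := fun _ => ℕ) (e0_6) (e0_7) (Nat.ble 7 b)) (Nat.ble 6 b)) (Nat.ble 4 b)) (Bool.rec (motive := fun _ => ℕ) (Bool.rec (motive := fun _ => ℕ) (Bool.rec (motive := fun _ => ℕ) (e0_8) (e0_9) (Nat.ble 9 b)) (Bool.rec (motive := fun _ => ℕ) (e0_10) (e0_11) (Nat.ble 11 b)) (Nat.ble 10 b)) (Bool.rec (motive := fun _ => ℕ) (Bool.rec (motive := fun _ => ℕ) (e0_12) (e0_13) (Nat.ble 13 b)) (Bool.rec (motive := fun _ => ℕ) (e0_14) (e0_15) (Nat.ble 15 b)) (Nat.ble 14 b)) (Nat.ble 12 b)) (Nat.ble 8 b)) (Bool.rec (motive := fun _ => ℕ) (Bool.rec (motive := fun _ => ℕ) (Bool.rec (motive := fun _ => ℕ) (Bool.rec (motive := fun _ => ℕ) (e0_16) (e0_17) (Nat.ble 17 b)) (Bool.rec (motive := fun _ => ℕ) (e0_18) (e0_19) (Nat.ble 19 b)) (Nat.ble 18 b)) (Bool.rec (motive := fun _ => ℕ) (Bool.rec (motive := fun _ => ℕ) (e0_20) (e0_21) (Nat.ble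 21 b)) (Bool.rec (motive := fun _ => ℕ) (e0_22) (e0_23) (Nat.ble 23 b)) (Nat.ble 22 b)) (Nat.ble 20 b)) (Bool.rec (motive := fun _ => ℕ) (Bool.rec (motive := fun _ => ℕ) (Bool.rec (motive := fun _ => ℕ) (e0_24) (e0_25) (Nat.ble 25 b)) (Bool.rec (motive := fun _ => ℕ) (e0_26) (e0_27) (Nat.ble 27 b)) (Nat.ble 26 b)) (Bool.rec (motive := fun _ => ℕ) (Bool.rec (motive := fun _ => ℕ) (e0_28) (e0_29) (Nat.ble 29 b)) (Bool.rec (motive := fun _ => ℕ) (e0_30) (e0_31) (Nat.ble 31 b)) (Nat.ble 30 b)) (Nat.ble 28 b)) (Nat.ble 24 b)) (Nat.ble 16 b)) (Bool.rec (motive := fun _ => ℕ) (Bool.rec (motive := fun _ => ℕ) (Bool.rec (motive := fun _ => ℕ) (Bool.rec (motive := fun _ => ℕ) (Bool.rec (motive := fun _ => ℕ) (e0_32) (e0_33) (Nat.ble 33 b)) (Bool.rec (motive := fun _ => ℕ) (e0_34) (e0_35) (Nat.ble 35 b)) (Nat.ble 34 b)) (Bool.rec (motive := fun _ => ℕ) (Bool.rec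 (motive := fun _ => ℕ) (e0_36) (e0_37) (Nat.ble 37 b)) (Bool.rec (motive := fun _ => ℕ) (e0_38) (e0_39) (Nat.ble 39 b)) (Nat.ble 38 b)) (Nat.ble 36 b)) (Bool.rec (motive := fun _ => ℕ) (Bool.rec (motive := fun _ => ℕ) (Bool.rec (motive := fun _ => ℕ) (e0_40) (e0_41) (Nat.ble 41 b)) (Bool.rec (motive := fun _ => ℕ) (e0_42) (e0_43) (Nat.ble 43 b)) (Nat.ble 42 b)) (Bool.rec (motive := fun _ => ℕ) (Bool.rec (motive := fun _ => ℕ) (e0_44) (e0_45) (Nat.ble 45 b)) (Bool.rec (motive := fun _ => ℕ) (e0_46) (e0_47) (Nat.ble 47 b)) (Nat.ble 46 b)) (Nat.ble 44 b)) (Nat.ble 40 b)) (Bool.rec (motive := fun _ => ℕ) (Bool.rec (motive := fun _ => ℕ) (Bool.rec (motive := fun _ => ℕ) (Bool.rec (motive := fun _ => ℕ) (e0_48) (e0_49) (Nat.ble 49 b)) (Bool.rec (motive := fun _ => ℕ) (e0_50) (e0_51) (Nat.ble 51 b)) (Nat.ble 50 b)) (Bool.rec (motive := fun _ => ℕ) (Bool.rec (motive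 := fun _ => ℕ) (e0_52) (e0_53) (Nat.ble 53 b)) (Bool.rec (motive := fun _ => ℕ) (e0_54) (e0_55) (Nat.ble 55 b)) (Nat.ble 54 b)) (Nat.ble 52 b)) (Bool.rec (motive := fun _ => ℕ) (Bool.rec (motive := fun _ => ℕ) (Bool.rec (motive := fun _ => ℕ) (e0_56) (e0_57) (Nat.ble 57 b)) (Bool.rec (motive := fun _ => ℕ) (e0_58) (e0_59) (Nat.ble 59 b)) (Nat.ble 58 b)) (Bool.rec (motive := fun _ => ℕ) (Bool.rec (motive := fun _ => ℕ) (e0_60) (e0_61) (Nat.ble 61 b)) (Bool.rec (motive := fun _ => ℕ) (e0_62) (e0_63) (Nat.ble 63 b)) (Nat.ble 62 b)) (Nat.ble 60 b)) (Nat.ble 56 b)) (Nat.ble 48 b)) (Nat.ble 32 b)) (Bool.rec (motive := fun _ => ℕ) (Bool.rec (motive := fun _ => ℕ) (Bool.rec (motive := fun _ => ℕ) (Bool.rec (motive := fun _ => ℕ) (Bool.rec (motive := fun _ => ℕ) (Bool.rec (motive := fun _ => ℕ) (e0_64) (e0_65) (Nat.ble 65 b)) (Bool.rec (motive := fun _ => ℕ) (e0_66)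 (e0_67) (Nat.ble 67 b)) (Nat.ble 66 b)) (Bool.rec (motive := fun _ => ℕ) (Bool.rec (motive := fun _ => ℕ) (e0_68) (e0_69) (Nat.ble 69 b)) (Bool.rec (motive := fun _ => ℕ) (e0_70) (e0_71) (Nat.ble 71 b)) (Nat.ble 70 b)) (Nat.ble 68 b)) (Bool.rec (motive := fun _ => ℕ) (Bool.rec (motive := fun _ => ℕ) (Bool.rec (motive := fun _ => ℕ) (e0_72) (e0_73) (Nat.ble 73 b)) (Bool.rec (motive := fun _ => ℕ) (e0_74) (e0_75) (Nat.ble 75 b)) (Nat.ble 74 b)) (Bool.rec (motive := fun _ => ℕ) (Bool.rec (motive := fun _ => ℕ) (e0_76) (e0_77) (Nat.ble 77 b)) (Bool.rec (motive := fun _ => ℕ) (e0_78) (e0_79) (Nat.ble 79 b)) (Nat.ble 78 b)) (Nat.ble 76 b)) (Nat.ble 72 b)) (Bool.rec (motive := fun _ => ℕ) (Bool.rec (motive := fun _ => ℕ) (Bool.rec (motive := fun _ => ℕ) (Bool.rec (motive := fun _ => ℕ) (e0_80) (e0_81) (Nat.ble 81 b)) (Bool.rec (motive := fun _ => ℕ) (e0_82) (e0_83)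 (Nat.ble 83 b)) (Nat.ble 82 b)) (Bool.rec (motive := fun _ => ℕ) (Bool.rec (motive := fun _ => ℕ) (e0_84) (e0_85) (Nat.ble 85 b)) (Bool.rec (motive := fun _ => ℕ) (e0_86) (e0_87) (Nat.ble 87 b)) (Nat.ble 86 b)) (Nat.ble 84 b)) (Bool.rec (motive := fun _ => ℕ) (Bool.rec (motive := fun _ => ℕ) (Bool.rec (motive := fun _ => ℕ) (e0_88) (e0_89) (Nat.ble 89 b)) (Bool.rec (motive := fun _ => ℕ) (e0_90) (e0_91) (Nat.ble 91 b)) (Nat.ble 90 b)) (Bool.rec (motive := fun _ => ℕ) (Bool.rec (motive := fun _ => ℕ) (e0_92) (e0_93) (Nat.ble 93 b)) (Bool.rec (motive := fun _ => ℕ) (e0_94) (e0_95) (Nat.ble 95 b)) (Nat.ble 94 b)) (Nat.ble 92 b)) (Nat.ble 88 b)) (Nat.ble 80 b)) (Bool.rec (motive := fun _ => ℕ) (Bool.rec (motive := fun _ => ℕ) (Bool.rec (motive := fun _ => ℕ) (Bool.rec (motive := fun _ => ℕ) (Bool.rec (motive := fun _ => ℕ) (e0_96) (e0_97) (Nat.ble 97 b)) (Bool.rec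 (motive := fun _ => ℕ) (e0_98) (e0_99) (Nat.ble 99 b)) (Nat.ble 98 b)) (Bool.rec (motive := fun _ => ℕ) (Bool.rec (motive := fun _ => ℕ) (e0_100) (e0_101) (Nat.ble 101 b)) (Bool.rec (motive := fun _ => ℕ) (e0_102) (e0_103) (Nat.ble 103 b)) (Nat.ble 102 b)) (Nat.ble 100 b)) (Bool.rec (motive := fun _ => ℕ) (Bool.rec (motive := fun _ => ℕ) (Bool.rec (motive := fun _ => ℕ) (e0_104) (e0_105) (Nat.ble 105 b)) (Bool.rec (motive := fun _ => ℕ) (e0_106) (e0_107) (Nat.ble 107 b)) (Nat.ble 106 b)) (Bool.rec (motive := fun _ => ℕ) (Bool.rec (motive := fun _ => ℕ) (e0_108) (e0_109) (Nat.ble 109 b)) (Bool.rec (motive := fun _ => ℕ) (e0_110) (e0_111) (Nat.ble 111 b)) (Nat.ble 110 b)) (Nat.ble 108 b)) (Nat.ble 104 b)) (Bool.rec (motive := fun _ => ℕ) (Bool.rec (motive := fun _ => ℕ) (Bool.rec (motive := fun _ => ℕ) (Bool.rec (motive := fun _ => ℕ) (e0_112) (e0_113) (Nat.ble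 113 b)) (Bool.rec (motive := fun _ => ℕ) (e0_114) (e0_115) (Nat.ble 115 b)) (Nat.ble 114 b)) (Bool.rec (motive := fun _ => ℕ) (Bool.rec (motive := fun _ => ℕ) (e0_116) (e0_117) (Nat.ble 117 b)) (Bool.rec (motive := fun _ => ℕ) (e0_118) (e0_119) (Nat.ble 119 b)) (Nat.ble 118 b)) (Nat.ble 116 b)) (Bool.rec (motive := fun _ => ℕ) (Bool.rec (motive := fun _ => ℕ) (Bool.rec (motive := fun _ => ℕ) (e0_120) (e0_121) (Nat.ble 121 b)) (Bool.rec (motive := fun _ => ℕ) (e0_122) (e0_123) (Nat.ble 123 b)) (Nat.ble 122 b)) (Bool.rec (motive := fun _ => ℕ) (Bool.rec (motive := fun _ => ℕ) (e0_124) (e0_125) (Nat.ble 125 b)) (Bool.rec (motive := fun _ => ℕ) (e0_126) (e0_127) (Nat.ble 127 b)) (Nat.ble 126 b)) (Nat.ble 124 b)) (Nat.ble 120 b)) (Nat.ble 112 b)) (Nat.ble 96 b)) (Nat.ble 64 b)) (Bool.rec (motive := fun _ => ℕ) (Bool.rec (motive := fun _ => ℕ) (Bool.rec (motive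 := fun _ => ℕ) (Bool.rec (motive := fun _ => ℕ) (Bool.rec (motive := fun _ => ℕ) (Bool.rec (motive := fun _ => ℕ) (Bool.rec (motive := fun _ => ℕ) (e0_128) (e0_129) (Nat.ble 129 b)) (Bool.rec (motive := fun _ => ℕ) (e0_130) (e0_131) (Nat.ble 131 b)) (Nat.ble 130 b)) (Bool.rec (motive := fun _ => ℕ) (Bool.rec (motive := fun _ => ℕ) (e0_132) (e0_133) (Nat.ble 133 b)) (Bool.rec (motive := fun _ => ℕ) (e0_134) (e0_135) (Nat.ble 135 b)) (Nat.ble 134 b)) (Nat.ble 132 b)) (Bool.rec (motive := fun _ => ℕ) (Bool.rec (motive := fun _ => ℕ) (Bool.rec (motive := fun _ => ℕ) (e0_136) (e0_137) (Nat.ble 137 b)) (Bool.rec (motive := fun _ => ℕ) (e0_138) (e0_139) (Nat.ble 139 b)) (Nat.ble 138 b)) (Bool.rec (motive := fun _ => ℕ) (Bool.rec (motive := fun _ => ℕ) (e0_140) (e0_141) (Nat.ble 141 b)) (Bool.rec (motive := fun _ => ℕ) (e0_142) (e0_143) (Nat.ble 143 b)) (Nat.ble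 142 b)) (Nat.ble 140 b)) (Nat.ble 136 b)) (Bool.rec (motive := fun _ => ℕ) (Bool.rec (motive := fun _ => ℕ) (Bool.rec (motive := fun _ => ℕ) (Bool.rec (motive := fun _ => ℕ) (e0_144) (e0_145) (Nat.ble 145 b)) (Bool.rec (motive := fun _ => ℕ) (e0_146) (e0_147) (Nat.ble 147 b)) (Nat.ble 146 b)) (Bool.rec (motive := fun _ => ℕ) (Bool.rec (motive := fun _ => ℕ) (e0_148) (e0_149) (Nat.ble 149 b)) (Bool.rec (motive := fun _ => ℕ) (e0_150) (e0_151) (Nat.ble 151 b)) (Nat.ble 150 b)) (Nat.ble 148 b)) (Bool.rec (motive := fun _ => ℕ) (Bool.rec (motive := fun _ => ℕ) (Bool.rec (motive := fun _ => ℕ) (e0_152) (e0_153) (Nat.ble 153 b)) (Bool.rec (motive := fun _ => ℕ) (e0_154) (e0_155) (Nat.ble 155 b)) (Nat.ble 154 b)) (Bool.rec (motive := fun _ => ℕ) (Bool.rec (motive := fun _ => ℕ) (e0_156) (e0_157) (Nat.ble 157 b)) (Bool.rec (motive := fun _ => ℕ) (e0_158) (e0_159)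 (Nat.ble 159 b)) (Nat.ble 158 b)) (Nat.ble 156 b)) (Nat.ble 152 b)) (Nat.ble 144 b)) (Bool.rec (motive := fun _ => ℕ) (Bool.rec (motive := fun _ => ℕ) (Bool.rec (motive := fun _ => ℕ) (Bool.rec (motive := fun _ => ℕ) (Bool.rec (motive := fun _ => ℕ) (e0_160) (e0_161) (Nat.ble 161 b)) (Bool.rec (motive := fun _ => ℕ) (e0_162) (e0_163) (Nat.ble 163 b)) (Nat.ble 162 b)) (Bool.rec (motive := fun _ => ℕ) (Bool.rec (motive := fun _ => ℕ) (e0_164) (e0_165) (Nat.ble 165 b)) (Bool.rec (motive := fun _ => ℕ) (e0_166) (e0_167) (Nat.ble 167 b)) (Nat.ble 166 b)) (Nat.ble 164 b)) (0) (Nat.ble 168 b)) (0) (Nat.ble 176 b)) (Nat.ble 160 b)) (0) (Nat.ble 192 b)) (Nat.ble 128 b))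
noncomputable def jcol0 (b : ℕ) : ℕ := (Bool.rec (motive := fun _ => ℕ) (Bool.rec (motive := fun _ => ℕ) (Bool.rec (motive := fun _ => ℕ) (Bool.rec (motive := fun _ => ℕ) (Bool.rec (motive := fun _ => ℕ) (Bool.rec (motive := fun _ => ℕ) (Bool.rec (motive := fun _ => ℕ) (Bool.rec (motive := fun _ => ℕ) (j0_0) (j0_1) (Nat.ble 1 b)) (Bool.rec (motive := fun _ => ℕ) (j0_2) (j0_3) (Nat.ble 3 b)) (Nat.ble 2 b)) (Bool.rec (motive := fun _ => ℕ) (Bool.rec (motive := fun _ => ℕ) (j0_4) (j0_5) (Nat.ble 5 b)) (Bool.rec (motive := fun _ => ℕ) (j0_6) (j0_7) (Nat.ble 7 b)) (Nat.ble 6 b)) (Nat.ble 4 b)) (Bool.rec (motive := fun _ => ℕ) (Bool.rec (motive := fun _ => ℕ) (Bool.rec (motive := fun _ => ℕ) (j0_8) (j0_9) (Nat.ble 9 b)) (Bool.rec (motive := fun _ => ℕ) (j0_10) (j0_11) (Nat.ble 11 b)) (Nat.ble 10 b)) (Bool.rec (motive := fun _ => ℕ) (Bool.rec (motive := fun _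 => ℕ) (j0_12) (j0_13) (Nat.ble 13 b)) (Bool.rec (motive := fun _ => ℕ) (j0_14) (j0_15) (Nat.ble 15 b)) (Nat.ble 14 b)) (Nat.ble 12 b)) (Nat.ble 8 b)) (Bool.rec (motive := fun _ => ℕ) (Bool.rec (motive := fun _ => ℕ) (Bool.rec (motive := fun _ => ℕ) (Bool.rec (motive := fun _ => ℕ) (j0_16) (j0_17) (Nat.ble 17 b)) (Bool.rec (motive := fun _ => ℕ) (j0_18) (j0_19) (Nat.ble 19 b)) (Nat.ble 18 b)) (Bool.rec (motive := fun _ => ℕ) (Bool.rec (motive := fun _ => ℕ) (j0_20) (j0_21) (Nat.ble 21 b)) (Bool.rec (motive := fun _ => ℕ) (j0_22) (j0_23) (Nat.ble 23 b)) (Nat.ble 22 b)) (Nat.ble 20 b)) (Bool.rec (motive := fun _ => ℕ) (Bool.rec (motive := fun _ => ℕ) (Bool.rec (motive := fun _ => ℕ) (j0_24) (j0_25) (Nat.ble 25 b)) (Bool.rec (motive := fun _ => ℕ) (j0_26) (j0_27) (Nat.ble 27 b)) (Nat.ble 26 b)) (Bool.rec (motive := fun _ => ℕ) (Bool.rec (motive := fun _ =>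 ℕ) (j0_28) (j0_29) (Nat.ble 29 b)) (Bool.rec (motive := fun _ => ℕ) (j0_30) (j0_31) (Nat.ble 31 b)) (Nat.ble 30 b)) (Nat.ble 28 b)) (Nat.ble 24 b)) (Nat.ble 16 b)) (Bool.rec (motive := fun _ => ℕ) (Bool.rec (motive := fun _ => ℕ) (Bool.rec (motive := fun _ => ℕ) (Bool.rec (motive := fun _ => ℕ) (Bool.rec (motive := fun _ => ℕ) (j0_32) (j0_33) (Nat.ble 33 b)) (Bool.rec (motive := fun _ => ℕ) (j0_34) (j0_35) (Nat.ble 35 b)) (Nat.ble 34 b)) (Bool.rec (motive := fun _ => ℕ) (Bool.rec (motive := fun _ => ℕ) (j0_36) (j0_37) (Nat.ble 37 b)) (Bool.rec (motive := fun _ => ℕ) (j0_38) (j0_39) (Nat.ble 39 b)) (Nat.ble 38 b)) (Nat.ble 36 b)) (Bool.rec (motive := fun _ => ℕ) (Bool.rec (motive := fun _ => ℕ) (Bool.rec (motive := fun _ => ℕ) (j0_40) (j0_41) (Nat.ble 41 b)) (Bool.rec (motive := fun _ => ℕ) (j0_42) (j0_43) (Nat.ble 43 b)) (Nat.ble 42 b)) (Bool.rec (motive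 := fun _ => ℕ) (Bool.rec (motive := fun _ => ℕ) (j0_44) (j0_45) (Nat.ble 45 b)) (Bool.rec (motive := fun _ => ℕ) (j0_46) (j0_47) (Nat.ble 47 b)) (Nat.ble 46 b)) (Nat.ble 44 b)) (Nat.ble 40 b)) (Bool.rec (motive := fun _ => ℕ) (Bool.rec (motive := fun _ => ℕ) (Bool.rec (motive := fun _ => ℕ) (Bool.rec (motive := fun _ => ℕ) (j0_48) (j0_49) (Nat.ble 49 b)) (Bool.rec (motive := fun _ => ℕ) (j0_50) (j0_51) (Nat.ble 51 b)) (Nat.ble 50 b)) (Bool.rec (motive := fun _ => ℕ) (Bool.rec (motive := fun _ => ℕ) (j0_52) (j0_53) (Nat.ble 53 b)) (Bool.rec (motive := fun _ => ℕ) (j0_54) (j0_55) (Nat.ble 55 b)) (Nat.ble 54 b)) (Nat.ble 52 b)) (Bool.rec (motive := fun _ => ℕ) (Bool.rec (motive := fun _ => ℕ) (Bool.rec (motive := fun _ => ℕ) (j0_56) (j0_57) (Nat.ble 57 b)) (Bool.rec (motive := fun _ => ℕ) (j0_58) (j0_59) (Nat.ble 59 b)) (Nat.ble 58 b)) (Bool.rec (motive :=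 fun _ => ℕ) (Bool.rec (motive := fun _ => ℕ) (j0_60) (j0_61) (Nat.ble 61 b)) (Bool.rec (motive := fun _ => ℕ) (j0_62) (j0_63) (Nat.ble 63 b)) (Nat.ble 62 b)) (Nat.ble 60 b)) (Nat.ble 56 b)) (Nat.ble 48 b)) (Nat.ble 32 b)) (Bool.rec (motive := fun _ => ℕ) (Bool.rec (motive := fun _ => ℕ) (Bool.rec (motive := fun _ => ℕ) (Bool.rec (motive := fun _ => ℕ) (Bool.rec (motive := fun _ => ℕ) (Bool.rec (motive := fun _ => ℕ) (j0_64) (j0_65) (Nat.ble 65 b)) (Bool.rec (motive := fun _ => ℕ) (j0_66) (j0_67) (Nat.ble 67 b)) (Nat.ble 66 b)) (Bool.rec (motive := fun _ => ℕ) (Bool.rec (motive := fun _ => ℕ) (j0_68) (j0_69) (Nat.ble 69 b)) (Bool.rec (motive := fun _ => ℕ) (j0_70) (j0_71) (Nat.ble 71 b)) (Nat.ble 70 b)) (Nat.ble 68 b)) (Bool.rec (motive := fun _ => ℕ) (Bool.rec (motive := fun _ => ℕ) (Bool.rec (motive := fun _ => ℕ) (j0_72) (j0_73) (Nat.ble 73 b)) (Bool.rec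 (motive := fun _ => ℕ) (j0_74) (j0_75) (Nat.ble 75 b)) (Nat.ble 74 b)) (Bool.rec (motive := fun _ => ℕ) (Bool.rec (motive := fun _ => ℕ) (j0_76) (j0_77) (Nat.ble 77 b)) (Bool.rec (motive := fun _ => ℕ) (j0_78) (j0_79) (Nat.ble 79 b)) (Nat.ble 78 b)) (Nat.ble 76 b)) (Nat.ble 72 b)) (Bool.rec (motive := fun _ => ℕ) (Bool.rec (motive := fun _ => ℕ) (Bool.rec (motive := fun _ => ℕ) (Bool.rec (motive := fun _ => ℕ) (j0_80) (j0_81) (Nat.ble 81 b)) (Bool.rec (motive := fun _ => ℕ) (j0_82) (j0_83) (Nat.ble 83 b)) (Nat.ble 82 b)) (Bool.rec (motive := fun _ => ℕ) (Bool.rec (motive := fun _ => ℕ) (j0_84) (j0_85) (Nat.ble 85 b)) (Bool.rec (motive := fun _ => ℕ) (j0_86) (j0_87) (Nat.ble 87 b)) (Nat.ble 86 b)) (Nat.ble 84 b)) (Bool.rec (motive := fun _ => ℕ) (Bool.rec (motive := fun _ => ℕ) (Bool.rec (motive := fun _ => ℕ) (j0_88) (j0_89) (Nat.ble 89 b)) (Bool.rec (motive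 := fun _ => ℕ) (j0_90) (j0_91) (Nat.ble 91 b)) (Nat.ble 90 b)) (Bool.rec (motive := fun _ => ℕ) (Bool.rec (motive := fun _ => ℕ) (j0_92) (j0_93) (Nat.ble 93 b)) (Bool.rec (motive := fun _ => ℕ) (j0_94) (j0_95) (Nat.ble 95 b)) (Nat.ble 94 b)) (Nat.ble 92 b)) (Nat.ble 88 b)) (Nat.ble 80 b)) (Bool.rec (motive := fun _ => ℕ) (Bool.rec (motive := fun _ => ℕ) (Bool.rec (motive := fun _ => ℕ) (Bool.rec (motive := fun _ => ℕ) (Bool.rec (motive := fun _ => ℕ) (j0_96) (j0_97) (Nat.ble 97 b)) (Bool.rec (motive := fun _ => ℕ) (j0_98) (j0_99) (Nat.ble 99 b)) (Nat.ble 98 b)) (Bool.rec (motive := fun _ => ℕ) (Bool.rec (motive := fun _ => ℕ) (j0_100) (j0_101) (Nat.ble 101 b)) (Bool.rec (motive := fun _ => ℕ) (j0_102) (j0_103) (Nat.ble 103 b)) (Nat.ble 102 b)) (Nat.ble 100 b)) (Bool.rec (motive := fun _ => ℕ) (Bool.rec (motive := fun _ => ℕ) (Bool.rec (motive := fun _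 => ℕ) (j0_104) (j0_105) (Nat.ble 105 b)) (Bool.rec (motive := fun _ => ℕ) (j0_106) (j0_107) (Nat.ble 107 b)) (Nat.ble 106 b)) (Bool.rec (motive := fun _ => ℕ) (Bool.rec (motive := fun _ => ℕ) (j0_108) (j0_109) (Nat.ble 109 b)) (Bool.rec (motive := fun _ => ℕ) (j0_110) (j0_111) (Nat.ble 111 b)) (Nat.ble 110 b)) (Nat.ble 108 b)) (Nat.ble 104 b)) (Bool.rec (motive := fun _ => ℕ) (Bool.rec (motive := fun _ => ℕ) (Bool.rec (motive := fun _ => ℕ) (Bool.rec (motive := fun _ => ℕ) (j0_112) (j0_113) (Nat.ble 113 b)) (Bool.rec (motive := fun _ => ℕ) (j0_114) (j0_115) (Nat.ble 115 b)) (Nat.ble 114 b)) (Bool.rec (motive := fun _ => ℕ) (Bool.rec (motive := fun _ => ℕ) (j0_116) (j0_117) (Nat.ble 117 b)) (Bool.rec (motive := fun _ => ℕ) (j0_118) (j0_119) (Nat.ble 119 b)) (Nat.ble 118 b)) (Nat.ble 116 b)) (Bool.rec (motive := fun _ => ℕ) (Bool.rec (motive := fun _ =>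 ℕ) (Bool.rec (motive := fun _ => ℕ) (j0_120) (j0_121) (Nat.ble 121 b)) (Bool.rec (motive := fun _ => ℕ) (j0_122) (j0_123) (Nat.ble 123 b)) (Nat.ble 122 b)) (Bool.rec (motive := fun _ => ℕ) (Bool.rec (motive := fun _ => ℕ) (j0_124) (j0_125) (Nat.ble 125 b)) (Bool.rec (motive := fun _ => ℕ) (j0_126) (j0_127) (Nat.ble 127 b)) (Nat.ble 126 b)) (Nat.ble 124 b)) (Nat.ble 120 b)) (Nat.ble 112 b)) (Nat.ble 96 b)) (Nat.ble 64 b)) (Bool.rec (motive := fun _ => ℕ) (Bool.rec (motive := fun _ => ℕ) (Bool.rec (motive := fun _ => ℕ) (Bool.rec (motive := fun _ => ℕ) (Bool.rec (motive := fun _ => ℕ) (Bool.rec (motive := fun _ => ℕ) (Bool.rec (motive := fun _ => ℕ) (j0_128) (j0_129) (Nat.ble 129 b)) (Bool.rec (motive := fun _ => ℕ) (j0_130) (j0_131) (Nat.ble 131 b)) (Nat.ble 130 b)) (Bool.rec (motive := fun _ => ℕ) (Bool.rec (motive := fun _ => ℕ) (j0_132) (j0_133) (Nat.ble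 133 b)) (Bool.rec (motive := fun _ => ℕ) (j0_134) (j0_135) (Nat.ble 135 b)) (Nat.ble 134 b)) (Nat.ble 132 b)) (Bool.rec (motive := fun _ => ℕ) (Bool.rec (motive := fun _ => ℕ) (Bool.rec (motive := fun _ => ℕ) (j0_136) (j0_137) (Nat.ble 137 b)) (Bool.rec (motive := fun _ => ℕ) (j0_138) (j0_139) (Nat.ble 139 b)) (Nat.ble 138 b)) (Bool.rec (motive := fun _ => ℕ) (Bool.rec (motive := fun _ => ℕ) (j0_140) (j0_141) (Nat.ble 141 b)) (Bool.rec (motive := fun _ => ℕ) (j0_142) (j0_143) (Nat.ble 143 b)) (Nat.ble 142 b)) (Nat.ble 140 b)) (Nat.ble 136 b)) (Bool.rec (motive := fun _ => ℕ) (Bool.rec (motive := fun _ => ℕ) (Bool.rec (motive := fun _ => ℕ) (Bool.rec (motive := fun _ => ℕ) (j0_144) (j0_145) (Nat.ble 145 b)) (Bool.rec (motive := fun _ => ℕ) (j0_146) (j0_147) (Nat.ble 147 b)) (Nat.ble 146 b)) (Bool.rec (motive := fun _ => ℕ) (Bool.rec (motive := fun _ =>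 ℕ) (j0_148) (j0_149) (Nat.ble 149 b)) (Bool.rec (motive := fun _ => ℕ) (j0_150) (j0_151) (Nat.ble 151 b)) (Nat.ble 150 b)) (Nat.ble 148 b)) (Bool.rec (motive := fun _ => ℕ) (Bool.rec (motive := fun _ => ℕ) (Bool.rec (motive := fun _ => ℕ) (j0_152) (j0_153) (Nat.ble 153 b)) (Bool.rec (motive := fun _ => ℕ) (j0_154) (j0_155) (Nat.ble 155 b)) (Nat.ble 154 b)) (Bool.rec (motive := fun _ => ℕ) (Bool.rec (motive := fun _ => ℕ) (j0_156) (j0_157) (Nat.ble 157 b)) (Bool.rec (motive := fun _ => ℕ) (j0_158) (j0_159) (Nat.ble 159 b)) (Nat.ble 158 b)) (Nat.ble 156 b)) (Nat.ble 152 b)) (Nat.ble 144 b)) (Bool.rec (motive := fun _ => ℕ) (Bool.rec (motive := fun _ => ℕ) (Bool.rec (motive := fun _ => ℕ) (Bool.rec (motive := fun _ => ℕ) (Bool.rec (motive := fun _ => ℕ) (j0_160) (j0_161) (Nat.ble 161 b)) (Bool.rec (motive := fun _ => ℕ) (j0_162) (j0_163) (Nat.ble 163 b))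 (Nat.ble 162 b)) (Bool.rec (motive := fun _ => ℕ) (Bool.rec (motive := fun _ => ℕ) (j0_164) (j0_165) (Nat.ble 165 b)) (Bool.rec (motive := fun _ => ℕ) (j0_166) (j0_167) (Nat.ble 167 b)) (Nat.ble 166 b)) (Nat.ble 164 b)) (0) (Nat.ble 168 b)) (0) (Nat.ble 176 b)) (Nat.ble 160 b)) (0) (Nat.ble 192 b)) (Nat.ble 128 b))
noncomputable def ecol1 (b : ℕ) : ℕ := (Bool.rec (motive := fun _ => ℕ) (Bool.rec (motive := fun _ => ℕ) (Bool.rec (motive := fun _ => ℕ) (Bool.rec (motive := fun _ => ℕ) (Bool.rec (motive := fun _ => ℕ) (Bool.rec (motive := fun _ => ℕ) (Bool.rec (motive := fun _ => ℕ) (Bool.rec (motive := fun _ => ℕ) (e1_0) (e1_1) (Nat.ble 1 b)) (Bool.rec (motive := fun _ => ℕ) (e1_2) (e1_3) (Nat.ble 3 b)) (Nat.ble 2 b)) (Bool.rec (motive := fun _ => ℕ) (Bool.rec (motive := fun _ => ℕ) (e1_4) (e1_5) (Nat.ble 5 b)) (Bool.rec (motive := fun _ => ℕ) (e1_6) (e1_7)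 (Nat.ble 7 b)) (Nat.ble 6 b)) (Nat.ble 4 b)) (Bool.rec (motive := fun _ => ℕ) (Bool.rec (motive := fun _ => ℕ) (Bool.rec (motive := fun _ => ℕ) (e1_8) (e1_9) (Nat.ble 9 b)) (Bool.rec (motive := fun _ => ℕ) (e1_10) (e1_11) (Nat.ble 11 b)) (Nat.ble 10 b)) (Bool.rec (motive := fun _ => ℕ) (Bool.rec (motive := fun _ => ℕ) (e1_12) (e1_13) (Nat.ble 13 b)) (Bool.rec (motive := fun _ => ℕ) (e1_14) (e1_15) (Nat.ble 15 b)) (Nat.ble 14 b)) (Nat.ble 12 b)) (Nat.ble 8 b)) (Bool.rec (motive := fun _ => ℕ) (Bool.rec (motive := fun _ => ℕ) (Bool.rec (motive := fun _ => ℕ) (Bool.rec (motive := fun _ => ℕ) (e1_16) (e1_17) (Nat.ble 17 b)) (Bool.rec (motive := fun _ => ℕ) (e1_18) (e1_19) (Nat.ble 19 b)) (Nat.ble 18 b)) (Bool.rec (motive := fun _ => ℕ) (Bool.rec (motive := fun _ => ℕ) (e1_20) (e1_21) (Nat.ble 21 b)) (Bool.rec (motive := fun _ => ℕ) (e1_22) (e1_23) (Nat.ble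 23 b)) (Nat.ble 22 b)) (Nat.ble 20 b)) (Bool.rec (motive := fun _ => ℕ) (Bool.rec (motive := fun _ => ℕ) (Bool.rec (motive := fun _ => ℕ) (e1_24) (e1_25) (Nat.ble 25 b)) (Bool.rec (motive := fun _ => ℕ) (e1_26) (e1_27) (Nat.ble 27 b)) (Nat.ble 26 b)) (Bool.rec (motive := fun _ => ℕ) (Bool.rec (motive := fun _ => ℕ) (e1_28) (e1_29) (Nat.ble 29 b)) (Bool.rec (motive := fun _ => ℕ) (e1_30) (e1_31) (Nat.ble 31 b)) (Nat.ble 30 b)) (Nat.ble 28 b)) (Nat.ble 24 b)) (Nat.ble 16 b)) (Bool.rec (motive := fun _ => ℕ) (Bool.rec (motive := fun _ => ℕ) (Bool.rec (motive := fun _ => ℕ) (Bool.rec (motive := fun _ => ℕ) (Bool.rec (motive := fun _ => ℕ) (e1_32) (e1_33) (Nat.ble 33 b)) (Bool.rec (motive := fun _ => ℕ) (e1_34) (e1_35) (Nat.ble 35 b)) (Nat.ble 34 b)) (Bool.rec (motive := fun _ => ℕ) (Bool.rec (motive := fun _ => ℕ) (e1_36) (e1_37) (Nat.ble 37 b)) (Bool.rec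 (motive := fun _ => ℕ) (e1_38) (e1_39) (Nat.ble 39 b)) (Nat.ble 38 b)) (Nat.ble 36 b)) (Bool.rec (motive := fun _ => ℕ) (Bool.rec (motive := fun _ => ℕ) (Bool.rec (motive := fun _ => ℕ) (e1_40) (e1_41) (Nat.ble 41 b)) (Bool.rec (motive := fun _ => ℕ) (e1_42) (e1_43) (Nat.ble 43 b)) (Nat.ble 42 b)) (Bool.rec (motive := fun _ => ℕ) (Bool.rec (motive := fun _ => ℕ) (e1_44) (e1_45) (Nat.ble 45 b)) (Bool.rec (motive := fun _ => ℕ) (e1_46) (e1_47) (Nat.ble 47 b)) (Nat.ble 46 b)) (Nat.ble 44 b)) (Nat.ble 40 b)) (Bool.rec (motive := fun _ => ℕ) (Bool.rec (motive := fun _ => ℕ) (Bool.rec (motive := fun _ => ℕ) (Bool.rec (motive := fun _ => ℕ) (e1_48) (e1_49) (Nat.ble 49 b)) (Bool.rec (motive := fun _ => ℕ) (e1_50) (e1_51) (Nat.ble 51 b)) (Nat.ble 50 b)) (Bool.rec (motive := fun _ => ℕ) (Bool.rec (motive := fun _ => ℕ) (e1_52) (e1_53) (Nat.ble 53 b)) (Bool.rec (motive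 := fun _ => ℕ) (e1_54) (e1_55) (Nat.ble 55 b)) (Nat.ble 54 b)) (Nat.ble 52 b)) (Bool.rec (motive := fun _ => ℕ) (Bool.rec (motive := fun _ => ℕ) (Bool.rec (motive := fun _ => ℕ) (e1_56) (e1_57) (Nat.ble 57 b)) (Bool.rec (motive := fun _ => ℕ) (e1_58) (e1_59) (Nat.ble 59 b)) (Nat.ble 58 b)) (Bool.rec (motive := fun _ => ℕ) (Bool.rec (motive := fun _ => ℕ) (e1_60) (e1_61) (Nat.ble 61 b)) (Bool.rec (motive := fun _ => ℕ) (e1_62) (e1_63) (Nat.ble 63 b)) (Nat.ble 62 b)) (Nat.ble 60 b)) (Nat.ble 56 b)) (Nat.ble 48 b)) (Nat.ble 32 b)) (Bool.rec (motive := fun _ => ℕ) (Bool.rec (motive := fun _ => ℕ) (Bool.rec (motive := fun _ => ℕ) (Bool.rec (motive := fun _ => ℕ) (Bool.rec (motive := fun _ => ℕ) (Bool.rec (motive := fun _ => ℕ) (e1_64) (e1_65) (Nat.ble 65 b)) (Bool.rec (motive := fun _ => ℕ) (e1_66) (e1_67) (Nat.ble 67 b)) (Nat.ble 66 b)) (Bool.rec (motive :=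 fun _ => ℕ) (Bool.rec (motive := fun _ => ℕ) (e1_68) (e1_69) (Nat.ble 69 b)) (Bool.rec (motive := fun _ => ℕ) (e1_70) (e1_71) (Nat.ble 71 b)) (Nat.ble 70 b)) (Nat.ble 68 b)) (Bool.rec (motive := fun _ => ℕ) (Bool.rec (motive := fun _ => ℕ) (Bool.rec (motive := fun _ => ℕ) (e1_72) (e1_73) (Nat.ble 73 b)) (Bool.rec (motive := fun _ => ℕ) (e1_74) (e1_75) (Nat.ble 75 b)) (Nat.ble 74 b)) (Bool.rec (motive := fun _ => ℕ) (Bool.rec (motive := fun _ => ℕ) (e1_76) (e1_77) (Nat.ble 77 b)) (Bool.rec (motive := fun _ => ℕ) (e1_78) (e1_79) (Nat.ble 79 b)) (Nat.ble 78 b)) (Nat.ble 76 b)) (Nat.ble 72 b)) (Bool.rec (motive := fun _ => ℕ) (Bool.rec (motive := fun _ => ℕ) (Bool.rec (motive := fun _ => ℕ) (Bool.rec (motive := fun _ => ℕ) (e1_80) (e1_81) (Nat.ble 81 b)) (Bool.rec (motive := fun _ => ℕ) (e1_82) (e1_83) (Nat.ble 83 b)) (Nat.ble 82 b)) (Bool.rec (motive := fun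 _ => ℕ) (Bool.rec (motive := fun _ => ℕ) (e1_84) (e1_85) (Nat.ble 85 b)) (Bool.rec (motive := fun _ => ℕ) (e1_86) (e1_87) (Nat.ble 87 b)) (Nat.ble 86 b)) (Nat.ble 84 b)) (Bool.rec (motive := fun _ => ℕ) (Bool.rec (motive := fun _ => ℕ) (Bool.rec (motive := fun _ => ℕ) (e1_88) (e1_89) (Nat.ble 89 b)) (Bool.rec (motive := fun _ => ℕ) (e1_90) (e1_91) (Nat.ble 91 b)) (Nat.ble 90 b)) (Bool.rec (motive := fun _ => ℕ) (Bool.rec (motive := fun _ => ℕ) (e1_92) (e1_93) (Nat.ble 93 b)) (Bool.rec (motive := fun _ => ℕ) (e1_94) (e1_95) (Nat.ble 95 b)) (Nat.ble 94 b)) (Nat.ble 92 b)) (Nat.ble 88 b)) (Nat.ble 80 b)) (Bool.rec (motive := fun _ => ℕ) (Bool.rec (motive := fun _ => ℕ) (Bool.rec (motive := fun _ => ℕ) (Bool.rec (motive := fun _ => ℕ) (Bool.rec (motive := fun _ => ℕ) (e1_96) (e1_97) (Nat.ble 97 b)) (Bool.rec (motive := fun _ => ℕ) (e1_98) (e1_99) (Nat.ble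 99 b)) (Nat.ble 98 b)) (Bool.rec (motive := fun _ => ℕ) (Bool.rec (motive := fun _ => ℕ) (e1_100) (e1_101) (Nat.ble 101 b)) (Bool.rec (motive := fun _ => ℕ) (e1_102) (e1_103) (Nat.ble 103 b)) (Nat.ble 102 b)) (Nat.ble 100 b)) (Bool.rec (motive := fun _ => ℕ) (Bool.rec (motive := fun _ => ℕ) (Bool.rec (motive := fun _ => ℕ) (e1_104) (e1_105) (Nat.ble 105 b)) (Bool.rec (motive := fun _ => ℕ) (e1_106) (e1_107) (Nat.ble 107 b)) (Nat.ble 106 b)) (Bool.rec (motive := fun _ => ℕ) (Bool.rec (motive := fun _ => ℕ) (e1_108) (e1_109) (Nat.ble 109 b)) (Bool.rec (motive := fun _ => ℕ) (e1_110) (e1_111) (Nat.ble 111 b)) (Nat.ble 110 b)) (Nat.ble 108 b)) (Nat.ble 104 b)) (Bool.rec (motive := fun _ => ℕ) (Bool.rec (motive := fun _ => ℕ) (Bool.rec (motive := fun _ => ℕ) (Bool.rec (motive := fun _ => ℕ) (e1_112) (e1_113) (Nat.ble 113 b)) (Bool.rec (motive := fun _ => ℕ)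 (e1_114) (e1_115) (Nat.ble 115 b)) (Nat.ble 114 b)) (Bool.rec (motive := fun _ => ℕ) (Bool.rec (motive := fun _ => ℕ) (e1_116) (e1_117) (Nat.ble 117 b)) (Bool.rec (motive := fun _ => ℕ) (e1_118) (e1_119) (Nat.ble 119 b)) (Nat.ble 118 b)) (Nat.ble 116 b)) (Bool.rec (motive := fun _ => ℕ) (Bool.rec (motive := fun _ => ℕ) (Bool.rec (motive := fun _ => ℕ) (e1_120) (e1_121) (Nat.ble 121 b)) (Bool.rec (motive := fun _ => ℕ) (e1_122) (e1_123) (Nat.ble 123 b)) (Nat.ble 122 b)) (Bool.rec (motive := fun _ => ℕ) (Bool.rec (motive := fun _ => ℕ) (e1_124) (e1_125) (Nat.ble 125 b)) (Bool.rec (motive := fun _ => ℕ) (e1_126) (e1_127) (Nat.ble 127 b)) (Nat.ble 126 b)) (Nat.ble 124 b)) (Nat.ble 120 b)) (Nat.ble 112 b)) (Nat.ble 96 b)) (Nat.ble 64 b)) (Bool.rec (motive := fun _ => ℕ) (Bool.rec (motive := fun _ => ℕ) (Bool.rec (motive := fun _ => ℕ) (Bool.rec (motive := fun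 _ => ℕ) (Bool.rec (motive := fun _ => ℕ) (Bool.rec (motive := fun _ => ℕ) (Bool.rec (motive := fun _ => ℕ) (e1_128) (e1_129) (Nat.ble 129 b)) (Bool.rec (motive := fun _ => ℕ) (e1_130) (e1_131) (Nat.ble 131 b)) (Nat.ble 130 b)) (Bool.rec (motive := fun _ => ℕ) (Bool.rec (motive := fun _ => ℕ) (e1_132) (e1_133) (Nat.ble 133 b)) (Bool.rec (motive := fun _ => ℕ) (e1_134) (e1_135) (Nat.ble 135 b)) (Nat.ble 134 b)) (Nat.ble 132 b)) (Bool.rec (motive := fun _ => ℕ) (Bool.rec (motive := fun _ => ℕ) (Bool.rec (motive := fun _ => ℕ) (e1_136) (e1_137) (Nat.ble 137 b)) (Bool.rec (motive := fun _ => ℕ) (e1_138) (e1_139) (Nat.ble 139 b)) (Nat.ble 138 b)) (Bool.rec (motive := fun _ => ℕ) (Bool.rec (motive := fun _ => ℕ) (e1_140) (e1_141) (Nat.ble 141 b)) (Bool.rec (motive := fun _ => ℕ) (e1_142) (e1_143) (Nat.ble 143 b)) (Nat.ble 142 b)) (Nat.ble 140 b)) (Nat.ble 136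 b)) (Bool.rec (motive := fun _ => ℕ) (Bool.rec (motive := fun _ => ℕ) (Bool.rec (motive := fun _ => ℕ) (Bool.rec (motive := fun _ => ℕ) (e1_144) (e1_145) (Nat.ble 145 b)) (Bool.rec (motive := fun _ => ℕ) (e1_146) (e1_147) (Nat.ble 147 b)) (Nat.ble 146 b)) (Bool.rec (motive := fun _ => ℕ) (Bool.rec (motive := fun _ => ℕ) (e1_148) (e1_149) (Nat.ble 149 b)) (Bool.rec (motive := fun _ => ℕ) (e1_150) (e1_151) (Nat.ble 151 b)) (Nat.ble 150 b)) (Nat.ble 148 b)) (Bool.rec (motive := fun _ => ℕ) (Bool.rec (motive := fun _ => ℕ) (Bool.rec (motive := fun _ => ℕ) (e1_152) (e1_153) (Nat.ble 153 b)) (Bool.rec (motive := fun _ => ℕ) (e1_154) (e1_155) (Nat.ble 155 b)) (Nat.ble 154 b)) (Bool.rec (motive := fun _ => ℕ) (Bool.rec (motive := fun _ => ℕ) (e1_156) (e1_157) (Nat.ble 157 b)) (Bool.rec (motive := fun _ => ℕ) (e1_158) (e1_159) (Nat.ble 159 b)) (Nat.ble 158 b))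 (Nat.ble 156 b)) (Nat.ble 152 b)) (Nat.ble 144 b)) (Bool.rec (motive := fun _ => ℕ) (Bool.rec (motive := fun _ => ℕ) (Bool.rec (motive := fun _ => ℕ) (Bool.rec (motive := fun _ => ℕ) (Bool.rec (motive := fun _ => ℕ) (e1_160) (e1_161) (Nat.ble 161 b)) (Bool.rec (motive := fun _ => ℕ) (e1_162) (e1_163) (Nat.ble 163 b)) (Nat.ble 162 b)) (Bool.rec (motive := fun _ => ℕ) (Bool.rec (motive := fun _ => ℕ) (e1_164) (e1_165) (Nat.ble 165 b)) (Bool.rec (motive := fun _ => ℕ) (e1_166) (e1_167) (Nat.ble 167 b)) (Nat.ble 166 b)) (Nat.ble 164 b)) (0) (Nat.ble 168 b)) (0) (Nat.ble 176 b)) (Nat.ble 160 b)) (0) (Nat.ble 192 b)) (Nat.ble 128 b))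
noncomputable def jcol1 (b : ℕ) : ℕ := (Bool.rec (motive := fun _ => ℕ) (Bool.rec (motive := fun _ => ℕ) (Bool.rec (motive := fun _ => ℕ) (Bool.rec (motive := fun _ => ℕ) (Bool.rec (motive := fun _ => ℕ) (Bool.rec (motive := fun _ => ℕ) (Bool.rec (motive := fun _ => ℕ) (Bool.rec (motive := fun _ => ℕ) (j1_0) (j1_1) (Nat.ble 1 b)) (Bool.rec (motive := fun _ => ℕ) (j1_2) (j1_3) (Nat.ble 3 b)) (Nat.ble 2 b)) (Bool.rec (motive := fun _ => ℕ) (Bool.rec (motive := fun _ => ℕ) (j1_4) (j1_5) (Nat.ble 5 b)) (Bool.rec (motive := fun _ => ℕ) (j1_6) (j1_7) (Nat.ble 7 b)) (Nat.ble 6 b)) (Nat.ble 4 b)) (Bool.rec (motive := fun _ => ℕ) (Bool.rec (motive := fun _ => ℕ) (Bool.rec (motive := fun _ => ℕ) (j1_8) (j1_9) (Nat.ble 9 b)) (Bool.rec (motive := fun _ => ℕ) (j1_10) (j1_11) (Nat.ble 11 b)) (Nat.ble 10 b)) (Bool.rec (motive := fun _ => ℕ) (Bool.rec (motive := fun _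 => ℕ) (j1_12) (j1_13) (Nat.ble 13 b)) (Bool.rec (motive := fun _ => ℕ) (j1_14) (j1_15) (Nat.ble 15 b)) (Nat.ble 14 b)) (Nat.ble 12 b)) (Nat.ble 8 b)) (Bool.rec (motive := fun _ => ℕ) (Bool.rec (motive := fun _ => ℕ) (Bool.rec (motive := fun _ => ℕ) (Bool.rec (motive := fun _ => ℕ) (j1_16) (j1_17) (Nat.ble 17 b)) (Bool.rec (motive := fun _ => ℕ) (j1_18) (j1_19) (Nat.ble 19 b)) (Nat.ble 18 b)) (Bool.rec (motive := fun _ => ℕ) (Bool.rec (motive := fun _ => ℕ) (j1_20) (j1_21) (Nat.ble 21 b)) (Bool.rec (motive := fun _ => ℕ) (j1_22) (j1_23) (Nat.ble 23 b)) (Nat.ble 22 b)) (Nat.ble 20 b)) (Bool.rec (motive := fun _ => ℕ) (Bool.rec (motive := fun _ => ℕ) (Bool.rec (motive := fun _ => ℕ) (j1_24) (j1_25) (Nat.ble 25 b)) (Bool.rec (motive := fun _ => ℕ) (j1_26) (j1_27) (Nat.ble 27 b)) (Nat.ble 26 b)) (Bool.rec (motive := fun _ => ℕ) (Bool.rec (motive := fun _ =>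 ℕ) (j1_28) (j1_29) (Nat.ble 29 b)) (Bool.rec (motive := fun _ => ℕ) (j1_30) (j1_31) (Nat.ble 31 b)) (Nat.ble 30 b)) (Nat.ble 28 b)) (Nat.ble 24 b)) (Nat.ble 16 b)) (Bool.rec (motive := fun _ => ℕ) (Bool.rec (motive := fun _ => ℕ) (Bool.rec (motive := fun _ => ℕ) (Bool.rec (motive := fun _ => ℕ) (Bool.rec (motive := fun _ => ℕ) (j1_32) (j1_33) (Nat.ble 33 b)) (Bool.rec (motive := fun _ => ℕ) (j1_34) (j1_35) (Nat.ble 35 b)) (Nat.ble 34 b)) (Bool.rec (motive := fun _ => ℕ) (Bool.rec (motive := fun _ => ℕ) (j1_36) (j1_37) (Nat.ble 37 b)) (Bool.rec (motive := fun _ => ℕ) (j1_38) (j1_39) (Nat.ble 39 b)) (Nat.ble 38 b)) (Nat.ble 36 b)) (Bool.rec (motive := fun _ => ℕ) (Bool.rec (motive := fun _ => ℕ) (Bool.rec (motive := fun _ => ℕ) (j1_40) (j1_41) (Nat.ble 41 b)) (Bool.rec (motive := fun _ => ℕ) (j1_42) (j1_43) (Nat.ble 43 b)) (Nat.ble 42 b)) (Bool.rec (motive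 := fun _ => ℕ) (Bool.rec (motive := fun _ => ℕ) (j1_44) (j1_45) (Nat.ble 45 b)) (Bool.rec (motive := fun _ => ℕ) (j1_46) (j1_47) (Nat.ble 47 b)) (Nat.ble 46 b)) (Nat.ble 44 b)) (Nat.ble 40 b)) (Bool.rec (motive := fun _ => ℕ) (Bool.rec (motive := fun _ => ℕ) (Bool.rec (motive := fun _ => ℕ) (Bool.rec (motive := fun _ => ℕ) (j1_48) (j1_49) (Nat.ble 49 b)) (Bool.rec (motive := fun _ => ℕ) (j1_50) (j1_51) (Nat.ble 51 b)) (Nat.ble 50 b)) (Bool.rec (motive := fun _ => ℕ) (Bool.rec (motive := fun _ => ℕ) (j1_52) (j1_53) (Nat.ble 53 b)) (Bool.rec (motive := fun _ => ℕ) (j1_54) (j1_55) (Nat.ble 55 b)) (Nat.ble 54 b)) (Nat.ble 52 b)) (Bool.rec (motive := fun _ => ℕ) (Bool.rec (motive := fun _ => ℕ) (Bool.rec (motive := fun _ => ℕ) (j1_56) (j1_57) (Nat.ble 57 b)) (Bool.rec (motive := fun _ => ℕ) (j1_58) (j1_59) (Nat.ble 59 b)) (Nat.ble 58 b)) (Bool.rec (motive :=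 fun _ => ℕ) (Bool.rec (motive := fun _ => ℕ) (j1_60) (j1_61) (Nat.ble 61 b)) (Bool.rec (motive := fun _ => ℕ) (j1_62) (j1_63) (Nat.ble 63 b)) (Nat.ble 62 b)) (Nat.ble 60 b)) (Nat.ble 56 b)) (Nat.ble 48 b)) (Nat.ble 32 b)) (Bool.rec (motive := fun _ => ℕ) (Bool.rec (motive := fun _ => ℕ) (Bool.rec (motive := fun _ => ℕ) (Bool.rec (motive := fun _ => ℕ) (Bool.rec (motive := fun _ => ℕ) (Bool.rec (motive := fun _ => ℕ) (j1_64) (j1_65) (Nat.ble 65 b)) (Bool.rec (motive := fun _ => ℕ) (j1_66) (j1_67) (Nat.ble 67 b)) (Nat.ble 66 b)) (Bool.rec (motive := fun _ => ℕ) (Bool.rec (motive := fun _ => ℕ) (j1_68) (j1_69) (Nat.ble 69 b)) (Bool.rec (motive := fun _ => ℕ) (j1_70) (j1_71) (Nat.ble 71 b)) (Nat.ble 70 b)) (Nat.ble 68 b)) (Bool.rec (motive := fun _ => ℕ) (Bool.rec (motive := fun _ => ℕ) (Bool.rec (motive := fun _ => ℕ) (j1_72) (j1_73) (Nat.ble 73 b)) (Bool.rec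 (motive := fun _ => ℕ) (j1_74) (j1_75) (Nat.ble 75 b)) (Nat.ble 74 b)) (Bool.rec (motive := fun _ => ℕ) (Bool.rec (motive := fun _ => ℕ) (j1_76) (j1_77) (Nat.ble 77 b)) (Bool.rec (motive := fun _ => ℕ) (j1_78) (j1_79) (Nat.ble 79 b)) (Nat.ble 78 b)) (Nat.ble 76 b)) (Nat.ble 72 b)) (Bool.rec (motive := fun _ => ℕ) (Bool.rec (motive := fun _ => ℕ) (Bool.rec (motive := fun _ => ℕ) (Bool.rec (motive := fun _ => ℕ) (j1_80) (j1_81) (Nat.ble 81 b)) (Bool.rec (motive := fun _ => ℕ) (j1_82) (j1_83) (Nat.ble 83 b)) (Nat.ble 82 b)) (Bool.rec (motive := fun _ => ℕ) (Bool.rec (motive := fun _ => ℕ) (j1_84) (j1_85) (Nat.ble 85 b)) (Bool.rec (motive := fun _ => ℕ) (j1_86) (j1_87) (Nat.ble 87 b)) (Nat.ble 86 b)) (Nat.ble 84 b)) (Bool.rec (motive := fun _ => ℕ) (Bool.rec (motive := fun _ => ℕ) (Bool.rec (motive := fun _ => ℕ) (j1_88) (j1_89) (Nat.ble 89 b)) (Bool.rec (motive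 := fun _ => ℕ) (j1_90) (j1_91) (Nat.ble 91 b)) (Nat.ble 90 b)) (Bool.rec (motive := fun _ => ℕ) (Bool.rec (motive := fun _ => ℕ) (j1_92) (j1_93) (Nat.ble 93 b)) (Bool.rec (motive := fun _ => ℕ) (j1_94) (j1_95) (Nat.ble 95 b)) (Nat.ble 94 b)) (Nat.ble 92 b)) (Nat.ble 88 b)) (Nat.ble 80 b)) (Bool.rec (motive := fun _ => ℕ) (Bool.rec (motive := fun _ => ℕ) (Bool.rec (motive := fun _ => ℕ) (Bool.rec (motive := fun _ => ℕ) (Bool.rec (motive := fun _ => ℕ) (j1_96) (j1_97) (Nat.ble 97 b)) (Bool.rec (motive := fun _ => ℕ) (j1_98) (j1_99) (Nat.ble 99 b)) (Nat.ble 98 b)) (Bool.rec (motive := fun _ => ℕ) (Bool.rec (motive := fun _ => ℕ) (j1_100) (j1_101) (Nat.ble 101 b)) (Bool.rec (motive := fun _ => ℕ) (j1_102) (j1_103) (Nat.ble 103 b)) (Nat.ble 102 b)) (Nat.ble 100 b)) (Bool.rec (motive := fun _ => ℕ) (Bool.rec (motive := fun _ => ℕ) (Bool.rec (motive := fun _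 => ℕ) (j1_104) (j1_105) (Nat.ble 105 b)) (Bool.rec (motive := fun _ => ℕ) (j1_106) (j1_107) (Nat.ble 107 b)) (Nat.ble 106 b)) (Bool.rec (motive := fun _ => ℕ) (Bool.rec (motive := fun _ => ℕ) (j1_108) (j1_109) (Nat.ble 109 b)) (Bool.rec (motive := fun _ => ℕ) (j1_110) (j1_111) (Nat.ble 111 b)) (Nat.ble 110 b)) (Nat.ble 108 b)) (Nat.ble 104 b)) (Bool.rec (motive := fun _ => ℕ) (Bool.rec (motive := fun _ => ℕ) (Bool.rec (motive := fun _ => ℕ) (Bool.rec (motive := fun _ => ℕ) (j1_112) (j1_113) (Nat.ble 113 b)) (Bool.rec (motive := fun _ => ℕ) (j1_114) (j1_115) (Nat.ble 115 b)) (Nat.ble 114 b)) (Bool.rec (motive := fun _ => ℕ) (Bool.rec (motive := fun _ => ℕ) (j1_116) (j1_117) (Nat.ble 117 b)) (Bool.rec (motive := fun _ => ℕ) (j1_118) (j1_119) (Nat.ble 119 b)) (Nat.ble 118 b)) (Nat.ble 116 b)) (Bool.rec (motive := fun _ => ℕ) (Bool.rec (motive := fun _ =>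 ℕ) (Bool.rec (motive := fun _ => ℕ) (j1_120) (j1_121) (Nat.ble 121 b)) (Bool.rec (motive := fun _ => ℕ) (j1_122) (j1_123) (Nat.ble 123 b)) (Nat.ble 122 b)) (Bool.rec (motive := fun _ => ℕ) (Bool.rec (motive := fun _ => ℕ) (j1_124) (j1_125) (Nat.ble 125 b)) (Bool.rec (motive := fun _ => ℕ) (j1_126) (j1_127) (Nat.ble 127 b)) (Nat.ble 126 b)) (Nat.ble 124 b)) (Nat.ble 120 b)) (Nat.ble 112 b)) (Nat.ble 96 b)) (Nat.ble 64 b)) (Bool.rec (motive := fun _ => ℕ) (Bool.rec (motive := fun _ => ℕ) (Bool.rec (motive := fun _ => ℕ) (Bool.rec (motive := fun _ => ℕ) (Bool.rec (motive := fun _ => ℕ) (Bool.rec (motive := fun _ => ℕ) (Bool.rec (motive := fun _ => ℕ) (j1_128) (j1_129) (Nat.ble 129 b)) (Bool.rec (motive := fun _ => ℕ) (j1_130) (j1_131) (Nat.ble 131 b)) (Nat.ble 130 b)) (Bool.rec (motive := fun _ => ℕ) (Bool.rec (motive := fun _ => ℕ) (j1_132) (j1_133) (Nat.ble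 133 b)) (Bool.rec (motive := fun _ => ℕ) (j1_134) (j1_135) (Nat.ble 135 b)) (Nat.ble 134 b)) (Nat.ble 132 b)) (Bool.rec (motive := fun _ => ℕ) (Bool.rec (motive := fun _ => ℕ) (Bool.rec (motive := fun _ => ℕ) (j1_136) (j1_137) (Nat.ble 137 b)) (Bool.rec (motive := fun _ => ℕ) (j1_138) (j1_139) (Nat.ble 139 b)) (Nat.ble 138 b)) (Bool.rec (motive := fun _ => ℕ) (Bool.rec (motive := fun _ => ℕ) (j1_140) (j1_141) (Nat.ble 141 b)) (Bool.rec (motive := fun _ => ℕ) (j1_142) (j1_143) (Nat.ble 143 b)) (Nat.ble 142 b)) (Nat.ble 140 b)) (Nat.ble 136 b)) (Bool.rec (motive := fun _ => ℕ) (Bool.rec (motive := fun _ => ℕ) (Bool.rec (motive := fun _ => ℕ) (Bool.rec (motive := fun _ => ℕ) (j1_144) (j1_145) (Nat.ble 145 b)) (Bool.rec (motive := fun _ => ℕ) (j1_146) (j1_147) (Nat.ble 147 b)) (Nat.ble 146 b)) (Bool.rec (motive := fun _ => ℕ) (Bool.rec (motive := fun _ =>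 ℕ) (j1_148) (j1_149) (Nat.ble 149 b)) (Bool.rec (motive := fun _ => ℕ) (j1_150) (j1_151) (Nat.ble 151 b)) (Nat.ble 150 b)) (Nat.ble 148 b)) (Bool.rec (motive := fun _ => ℕ) (Bool.rec (motive := fun _ => ℕ) (Bool.rec (motive := fun _ => ℕ) (j1_152) (j1_153) (Nat.ble 153 b)) (Bool.rec (motive := fun _ => ℕ) (j1_154) (j1_155) (Nat.ble 155 b)) (Nat.ble 154 b)) (Bool.rec (motive := fun _ => ℕ) (Bool.rec (motive := fun _ => ℕ) (j1_156) (j1_157) (Nat.ble 157 b)) (Bool.rec (motive := fun _ => ℕ) (j1_158) (j1_159) (Nat.ble 159 b)) (Nat.ble 158 b)) (Nat.ble 156 b)) (Nat.ble 152 b)) (Nat.ble 144 b)) (Bool.rec (motive := fun _ => ℕ) (Bool.rec (motive := fun _ => ℕ) (Bool.rec (motive := fun _ => ℕ) (Bool.rec (motive := fun _ => ℕ) (Bool.rec (motive := fun _ => ℕ) (j1_160) (j1_161) (Nat.ble 161 b)) (Bool.rec (motive := fun _ => ℕ) (j1_162) (j1_163) (Nat.ble 163 b))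 (Nat.ble 162 b)) (Bool.rec (motive := fun _ => ℕ) (Bool.rec (motive := fun _ => ℕ) (j1_164) (j1_165) (Nat.ble 165 b)) (Bool.rec (motive := fun _ => ℕ) (j1_166) (j1_167) (Nat.ble 167 b)) (Nat.ble 166 b)) (Nat.ble 164 b)) (0) (Nat.ble 168 b)) (0) (Nat.ble 176 b)) (Nat.ble 160 b)) (0) (Nat.ble 192 b)) (Nat.ble 128 b))
noncomputable def ecol2 (b : ℕ) : ℕ := (Bool.rec (motive := fun _ => ℕ) (Bool.rec (motive := fun _ => ℕ) (Bool.rec (motive := fun _ => ℕ) (Bool.rec (motive := fun _ => ℕ) (Bool.rec (motive := fun _ => ℕ) (Bool.rec (motive := fun _ => ℕ) (Bool.rec (motive := fun _ => ℕ) (Bool.rec (motive := fun _ => ℕ) (e2_0) (e2_1) (Nat.ble 1 b)) (Bool.rec (motive := fun _ => ℕ) (e2_2) (e2_3) (Nat.ble 3 b)) (Nat.ble 2 b)) (Bool.rec (motive := fun _ => ℕ) (Bool.rec (motive := fun _ => ℕ) (e2_4) (e2_5) (Nat.ble 5 b)) (Bool.rec (motive := fun _ => ℕ) (e2_6) (e2_7)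 (Nat.ble 7 b)) (Nat.ble 6 b)) (Nat.ble 4 b)) (Bool.rec (motive := fun _ => ℕ) (Bool.rec (motive := fun _ => ℕ) (Bool.rec (motive := fun _ => ℕ) (e2_8) (e2_9) (Nat.ble 9 b)) (Bool.rec (motive := fun _ => ℕ) (e2_10) (e2_11) (Nat.ble 11 b)) (Nat.ble 10 b)) (Bool.rec (motive := fun _ => ℕ) (Bool.rec (motive := fun _ => ℕ) (e2_12) (e2_13) (Nat.ble 13 b)) (Bool.rec (motive := fun _ => ℕ) (e2_14) (e2_15) (Nat.ble 15 b)) (Nat.ble 14 b)) (Nat.ble 12 b)) (Nat.ble 8 b)) (Bool.rec (motive := fun _ => ℕ) (Bool.rec (motive := fun _ => ℕ) (Bool.rec (motive := fun _ => ℕ) (Bool.rec (motive := fun _ => ℕ) (e2_16) (e2_17) (Nat.ble 17 b)) (Bool.rec (motive := fun _ => ℕ) (e2_18) (e2_19) (Nat.ble 19 b)) (Nat.ble 18 b)) (Bool.rec (motive := fun _ => ℕ) (Bool.rec (motive := fun _ => ℕ) (e2_20) (e2_21) (Nat.ble 21 b)) (Bool.rec (motive := fun _ => ℕ) (e2_22) (e2_23) (Nat.ble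 23 b)) (Nat.ble 22 b)) (Nat.ble 20 b)) (Bool.rec (motive := fun _ => ℕ) (Bool.rec (motive := fun _ => ℕ) (Bool.rec (motive := fun _ => ℕ) (e2_24) (e2_25) (Nat.ble 25 b)) (Bool.rec (motive := fun _ => ℕ) (e2_26) (e2_27) (Nat.ble 27 b)) (Nat.ble 26 b)) (Bool.rec (motive := fun _ => ℕ) (Bool.rec (motive := fun _ => ℕ) (e2_28) (e2_29) (Nat.ble 29 b)) (Bool.rec (motive := fun _ => ℕ) (e2_30) (e2_31) (Nat.ble 31 b)) (Nat.ble 30 b)) (Nat.ble 28 b)) (Nat.ble 24 b)) (Nat.ble 16 b)) (Bool.rec (motive := fun _ => ℕ) (Bool.rec (motive := fun _ => ℕ) (Bool.rec (motive := fun _ => ℕ) (Bool.rec (motive := fun _ => ℕ) (Bool.rec (motive := fun _ => ℕ) (e2_32) (e2_33) (Nat.ble 33 b)) (Bool.rec (motive := fun _ => ℕ) (e2_34) (e2_35) (Nat.ble 35 b)) (Nat.ble 34 b)) (Bool.rec (motive := fun _ => ℕ) (Bool.rec (motive := fun _ => ℕ) (e2_36) (e2_37) (Nat.ble 37 b)) (Bool.rec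 (motive := fun _ => ℕ) (e2_38) (e2_39) (Nat.ble 39 b)) (Nat.ble 38 b)) (Nat.ble 36 b)) (Bool.rec (motive := fun _ => ℕ) (Bool.rec (motive := fun _ => ℕ) (Bool.rec (motive := fun _ => ℕ) (e2_40) (e2_41) (Nat.ble 41 b)) (Bool.rec (motive := fun _ => ℕ) (e2_42) (e2_43) (Nat.ble 43 b)) (Nat.ble 42 b)) (Bool.rec (motive := fun _ => ℕ) (Bool.rec (motive := fun _ => ℕ) (e2_44) (e2_45) (Nat.ble 45 b)) (Bool.rec (motive := fun _ => ℕ) (e2_46) (e2_47) (Nat.ble 47 b)) (Nat.ble 46 b)) (Nat.ble 44 b)) (Nat.ble 40 b)) (Bool.rec (motive := fun _ => ℕ) (Bool.rec (motive := fun _ => ℕ) (Bool.rec (motive := fun _ => ℕ) (Bool.rec (motive := fun _ => ℕ) (e2_48) (e2_49) (Nat.ble 49 b)) (Bool.rec (motive := fun _ => ℕ) (e2_50) (e2_51) (Nat.ble 51 b)) (Nat.ble 50 b)) (Bool.rec (motive := fun _ => ℕ) (Bool.rec (motive := fun _ => ℕ) (e2_52) (e2_53) (Nat.ble 53 b)) (Bool.rec (motive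 := fun _ => ℕ) (e2_54) (e2_55) (Nat.ble 55 b)) (Nat.ble 54 b)) (Nat.ble 52 b)) (Bool.rec (motive := fun _ => ℕ) (Bool.rec (motive := fun _ => ℕ) (Bool.rec (motive := fun _ => ℕ) (e2_56) (e2_57) (Nat.ble 57 b)) (Bool.rec (motive := fun _ => ℕ) (e2_58) (e2_59) (Nat.ble 59 b)) (Nat.ble 58 b)) (Bool.rec (motive := fun _ => ℕ) (Bool.rec (motive := fun _ => ℕ) (e2_60) (e2_61) (Nat.ble 61 b)) (Bool.rec (motive := fun _ => ℕ) (e2_62) (e2_63) (Nat.ble 63 b)) (Nat.ble 62 b)) (Nat.ble 60 b)) (Nat.ble 56 b)) (Nat.ble 48 b)) (Nat.ble 32 b)) (Bool.rec (motive := fun _ => ℕ) (Bool.rec (motive := fun _ => ℕ) (Bool.rec (motive := fun _ => ℕ) (Bool.rec (motive := fun _ => ℕ) (Bool.rec (motive := fun _ => ℕ) (Bool.rec (motive := fun _ => ℕ) (e2_64) (e2_65) (Nat.ble 65 b)) (Bool.rec (motive := fun _ => ℕ) (e2_66) (e2_67) (Nat.ble 67 b)) (Nat.ble 66 b)) (Bool.rec (motive :=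 fun _ => ℕ) (Bool.rec (motive := fun _ => ℕ) (e2_68) (e2_69) (Nat.ble 69 b)) (Bool.rec (motive := fun _ => ℕ) (e2_70) (e2_71) (Nat.ble 71 b)) (Nat.ble 70 b)) (Nat.ble 68 b)) (Bool.rec (motive := fun _ => ℕ) (Bool.rec (motive := fun _ => ℕ) (Bool.rec (motive := fun _ => ℕ) (e2_72) (e2_73) (Nat.ble 73 b)) (Bool.rec (motive := fun _ => ℕ) (e2_74) (e2_75) (Nat.ble 75 b)) (Nat.ble 74 b)) (Bool.rec (motive := fun _ => ℕ) (Bool.rec (motive := fun _ => ℕ) (e2_76) (e2_77) (Nat.ble 77 b)) (Bool.rec (motive := fun _ => ℕ) (e2_78) (e2_79) (Nat.ble 79 b)) (Nat.ble 78 b)) (Nat.ble 76 b)) (Nat.ble 72 b)) (Bool.rec (motive := fun _ => ℕ) (Bool.rec (motive := fun _ => ℕ) (Bool.rec (motive := fun _ => ℕ) (Bool.rec (motive := fun _ => ℕ) (e2_80) (e2_81) (Nat.ble 81 b)) (Bool.rec (motive := fun _ => ℕ) (e2_82) (e2_83) (Nat.ble 83 b)) (Nat.ble 82 b)) (Bool.rec (motive := fun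 _ => ℕ) (Bool.rec (motive := fun _ => ℕ) (e2_84) (e2_85) (Nat.ble 85 b)) (Bool.rec (motive := fun _ => ℕ) (e2_86) (e2_87) (Nat.ble 87 b)) (Nat.ble 86 b)) (Nat.ble 84 b)) (Bool.rec (motive := fun _ => ℕ) (Bool.rec (motive := fun _ => ℕ) (Bool.rec (motive := fun _ => ℕ) (e2_88) (e2_89) (Nat.ble 89 b)) (Bool.rec (motive := fun _ => ℕ) (e2_90) (e2_91) (Nat.ble 91 b)) (Nat.ble 90 b)) (Bool.rec (motive := fun _ => ℕ) (Bool.rec (motive := fun _ => ℕ) (e2_92) (e2_93) (Nat.ble 93 b)) (Bool.rec (motive := fun _ => ℕ) (e2_94) (e2_95) (Nat.ble 95 b)) (Nat.ble 94 b)) (Nat.ble 92 b)) (Nat.ble 88 b)) (Nat.ble 80 b)) (Bool.rec (motive := fun _ => ℕ) (Bool.rec (motive := fun _ => ℕ) (Bool.rec (motive := fun _ => ℕ) (Bool.rec (motive := fun _ => ℕ) (Bool.rec (motive := fun _ => ℕ) (e2_96) (e2_97) (Nat.ble 97 b)) (Bool.rec (motive := fun _ => ℕ) (e2_98) (e2_99) (Nat.ble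 99 b)) (Nat.ble 98 b)) (Bool.rec (motive := fun _ => ℕ) (Bool.rec (motive := fun _ => ℕ) (e2_100) (e2_101) (Nat.ble 101 b)) (Bool.rec (motive := fun _ => ℕ) (e2_102) (e2_103) (Nat.ble 103 b)) (Nat.ble 102 b)) (Nat.ble 100 b)) (Bool.rec (motive := fun _ => ℕ) (Bool.rec (motive := fun _ => ℕ) (Bool.rec (motive := fun _ => ℕ) (e2_104) (e2_105) (Nat.ble 105 b)) (Bool.rec (motive := fun _ => ℕ) (e2_106) (e2_107) (Nat.ble 107 b)) (Nat.ble 106 b)) (Bool.rec (motive := fun _ => ℕ) (Bool.rec (motive := fun _ => ℕ) (e2_108) (e2_109) (Nat.ble 109 b)) (Bool.rec (motive := fun _ => ℕ) (e2_110) (e2_111) (Nat.ble 111 b)) (Nat.ble 110 b)) (Nat.ble 108 b)) (Nat.ble 104 b)) (Bool.rec (motive := fun _ => ℕ) (Bool.rec (motive := fun _ => ℕ) (Bool.rec (motive := fun _ => ℕ) (Bool.rec (motive := fun _ => ℕ) (e2_112) (e2_113) (Nat.ble 113 b)) (Bool.rec (motive := fun _ => ℕ)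 (e2_114) (e2_115) (Nat.ble 115 b)) (Nat.ble 114 b)) (Bool.rec (motive := fun _ => ℕ) (Bool.rec (motive := fun _ => ℕ) (e2_116) (e2_117) (Nat.ble 117 b)) (Bool.rec (motive := fun _ => ℕ) (e2_118) (e2_119) (Nat.ble 119 b)) (Nat.ble 118 b)) (Nat.ble 116 b)) (Bool.rec (motive := fun _ => ℕ) (Bool.rec (motive := fun _ => ℕ) (Bool.rec (motive := fun _ => ℕ) (e2_120) (e2_121) (Nat.ble 121 b)) (Bool.rec (motive := fun _ => ℕ) (e2_122) (e2_123) (Nat.ble 123 b)) (Nat.ble 122 b)) (Bool.rec (motive := fun _ => ℕ) (Bool.rec (motive := fun _ => ℕ) (e2_124) (e2_125) (Nat.ble 125 b)) (Bool.rec (motive := fun _ => ℕ) (e2_126) (e2_127) (Nat.ble 127 b)) (Nat.ble 126 b)) (Nat.ble 124 b)) (Nat.ble 120 b)) (Nat.ble 112 b)) (Nat.ble 96 b)) (Nat.ble 64 b)) (Bool.rec (motive := fun _ => ℕ) (Bool.rec (motive := fun _ => ℕ) (Bool.rec (motive := fun _ => ℕ) (Bool.rec (motive := fun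 _ => ℕ) (Bool.rec (motive := fun _ => ℕ) (Bool.rec (motive := fun _ => ℕ) (Bool.rec (motive := fun _ => ℕ) (e2_128) (e2_129) (Nat.ble 129 b)) (Bool.rec (motive := fun _ => ℕ) (e2_130) (e2_131) (Nat.ble 131 b)) (Nat.ble 130 b)) (Bool.rec (motive := fun _ => ℕ) (Bool.rec (motive := fun _ => ℕ) (e2_132) (e2_133) (Nat.ble 133 b)) (Bool.rec (motive := fun _ => ℕ) (e2_134) (e2_135) (Nat.ble 135 b)) (Nat.ble 134 b)) (Nat.ble 132 b)) (Bool.rec (motive := fun _ => ℕ) (Bool.rec (motive := fun _ => ℕ) (Bool.rec (motive := fun _ => ℕ) (e2_136) (e2_137) (Nat.ble 137 b)) (Bool.rec (motive := fun _ => ℕ) (e2_138) (e2_139) (Nat.ble 139 b)) (Nat.ble 138 b)) (Bool.rec (motive := fun _ => ℕ) (Bool.rec (motive := fun _ => ℕ) (e2_140) (e2_141) (Nat.ble 141 b)) (Bool.rec (motive := fun _ => ℕ) (e2_142) (e2_143) (Nat.ble 143 b)) (Nat.ble 142 b)) (Nat.ble 140 b)) (Nat.ble 136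 b)) (Bool.rec (motive := fun _ => ℕ) (Bool.rec (motive := fun _ => ℕ) (Bool.rec (motive := fun _ => ℕ) (Bool.rec (motive := fun _ => ℕ) (e2_144) (e2_145) (Nat.ble 145 b)) (Bool.rec (motive := fun _ => ℕ) (e2_146) (e2_147) (Nat.ble 147 b)) (Nat.ble 146 b)) (Bool.rec (motive := fun _ => ℕ) (Bool.rec (motive := fun _ => ℕ) (e2_148) (e2_149) (Nat.ble 149 b)) (Bool.rec (motive := fun _ => ℕ) (e2_150) (e2_151) (Nat.ble 151 b)) (Nat.ble 150 b)) (Nat.ble 148 b)) (Bool.rec (motive := fun _ => ℕ) (Bool.rec (motive := fun _ => ℕ) (Bool.rec (motive := fun _ => ℕ) (e2_152) (e2_153) (Nat.ble 153 b)) (Bool.rec (motive := fun _ => ℕ) (e2_154) (e2_155) (Nat.ble 155 b)) (Nat.ble 154 b)) (Bool.rec (motive := fun _ => ℕ) (Bool.rec (motive := fun _ => ℕ) (e2_156) (e2_157) (Nat.ble 157 b)) (Bool.rec (motive := fun _ => ℕ) (e2_158) (e2_159) (Nat.ble 159 b)) (Nat.ble 158 b))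 (Nat.ble 156 b)) (Nat.ble 152 b)) (Nat.ble 144 b)) (Bool.rec (motive := fun _ => ℕ) (Bool.rec (motive := fun _ => ℕ) (Bool.rec (motive := fun _ => ℕ) (Bool.rec (motive := fun _ => ℕ) (Bool.rec (motive := fun _ => ℕ) (e2_160) (e2_161) (Nat.ble 161 b)) (Bool.rec (motive := fun _ => ℕ) (e2_162) (e2_163) (Nat.ble 163 b)) (Nat.ble 162 b)) (Bool.rec (motive := fun _ => ℕ) (Bool.rec (motive := fun _ => ℕ) (e2_164) (e2_165) (Nat.ble 165 b)) (Bool.rec (motive := fun _ => ℕ) (e2_166) (e2_167) (Nat.ble 167 b)) (Nat.ble 166 b)) (Nat.ble 164 b)) (0) (Nat.ble 168 b)) (0) (Nat.ble 176 b)) (Nat.ble 160 b)) (0) (Nat.ble 192 b)) (Nat.ble 128 b))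
noncomputable def jcol2 (b : ℕ) : ℕ := (Bool.rec (motive := fun _ => ℕ) (Bool.rec (motive := fun _ => ℕ) (Bool.rec (motive := fun _ => ℕ) (Bool.rec (motive := fun _ => ℕ) (Bool.rec (motive := fun _ => ℕ) (Bool.rec (motive := fun _ => ℕ) (Bool.rec (motive := fun _ => ℕ) (Bool.rec (motive := fun _ => ℕ) (j2_0) (j2_1) (Nat.ble 1 b)) (Bool.rec (motive := fun _ => ℕ) (j2_2) (j2_3) (Nat.ble 3 b)) (Nat.ble 2 b)) (Bool.rec (motive := fun _ => ℕ) (Bool.rec (motive := fun _ => ℕ) (j2_4) (j2_5) (Nat.ble 5 b)) (Bool.rec (motive := fun _ => ℕ) (j2_6) (j2_7) (Nat.ble 7 b)) (Nat.ble 6 b)) (Nat.ble 4 b)) (Bool.rec (motive := fun _ => ℕ) (Bool.rec (motive := fun _ => ℕ) (Bool.rec (motive := fun _ => ℕ) (j2_8) (j2_9) (Nat.ble 9 b)) (Bool.rec (motive := fun _ => ℕ) (j2_10) (j2_11) (Nat.ble 11 b)) (Nat.ble 10 b)) (Bool.rec (motive := fun _ => ℕ) (Bool.rec (motive := fun _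 => ℕ) (j2_12) (j2_13) (Nat.ble 13 b)) (Bool.rec (motive := fun _ => ℕ) (j2_14) (j2_15) (Nat.ble 15 b)) (Nat.ble 14 b)) (Nat.ble 12 b)) (Nat.ble 8 b)) (Bool.rec (motive := fun _ => ℕ) (Bool.rec (motive := fun _ => ℕ) (Bool.rec (motive := fun _ => ℕ) (Bool.rec (motive := fun _ => ℕ) (j2_16) (j2_17) (Nat.ble 17 b)) (Bool.rec (motive := fun _ => ℕ) (j2_18) (j2_19) (Nat.ble 19 b)) (Nat.ble 18 b)) (Bool.rec (motive := fun _ => ℕ) (Bool.rec (motive := fun _ => ℕ) (j2_20) (j2_21) (Nat.ble 21 b)) (Bool.rec (motive := fun _ => ℕ) (j2_22) (j2_23) (Nat.ble 23 b)) (Nat.ble 22 b)) (Nat.ble 20 b)) (Bool.rec (motive := fun _ => ℕ) (Bool.rec (motive := fun _ => ℕ) (Bool.rec (motive := fun _ => ℕ) (j2_24) (j2_25) (Nat.ble 25 b)) (Bool.rec (motive := fun _ => ℕ) (j2_26) (j2_27) (Nat.ble 27 b)) (Nat.ble 26 b)) (Bool.rec (motive := fun _ => ℕ) (Bool.rec (motive := fun _ =>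 ℕ) (j2_28) (j2_29) (Nat.ble 29 b)) (Bool.rec (motive := fun _ => ℕ) (j2_30) (j2_31) (Nat.ble 31 b)) (Nat.ble 30 b)) (Nat.ble 28 b)) (Nat.ble 24 b)) (Nat.ble 16 b)) (Bool.rec (motive := fun _ => ℕ) (Bool.rec (motive := fun _ => ℕ) (Bool.rec (motive := fun _ => ℕ) (Bool.rec (motive := fun _ => ℕ) (Bool.rec (motive := fun _ => ℕ) (j2_32) (j2_33) (Nat.ble 33 b)) (Bool.rec (motive := fun _ => ℕ) (j2_34) (j2_35) (Nat.ble 35 b)) (Nat.ble 34 b)) (Bool.rec (motive := fun _ => ℕ) (Bool.rec (motive := fun _ => ℕ) (j2_36) (j2_37) (Nat.ble 37 b)) (Bool.rec (motive := fun _ => ℕ) (j2_38) (j2_39) (Nat.ble 39 b)) (Nat.ble 38 b)) (Nat.ble 36 b)) (Bool.rec (motive := fun _ => ℕ) (Bool.rec (motive := fun _ => ℕ) (Bool.rec (motive := fun _ => ℕ) (j2_40) (j2_41) (Nat.ble 41 b)) (Bool.rec (motive := fun _ => ℕ) (j2_42) (j2_43) (Nat.ble 43 b)) (Nat.ble 42 b)) (Bool.rec (motive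 := fun _ => ℕ) (Bool.rec (motive := fun _ => ℕ) (j2_44) (j2_45) (Nat.ble 45 b)) (Bool.rec (motive := fun _ => ℕ) (j2_46) (j2_47) (Nat.ble 47 b)) (Nat.ble 46 b)) (Nat.ble 44 b)) (Nat.ble 40 b)) (Bool.rec (motive := fun _ => ℕ) (Bool.rec (motive := fun _ => ℕ) (Bool.rec (motive := fun _ => ℕ) (Bool.rec (motive := fun _ => ℕ) (j2_48) (j2_49) (Nat.ble 49 b)) (Bool.rec (motive := fun _ => ℕ) (j2_50) (j2_51) (Nat.ble 51 b)) (Nat.ble 50 b)) (Bool.rec (motive := fun _ => ℕ) (Bool.rec (motive := fun _ => ℕ) (j2_52) (j2_53) (Nat.ble 53 b)) (Bool.rec (motive := fun _ => ℕ) (j2_54) (j2_55) (Nat.ble 55 b)) (Nat.ble 54 b)) (Nat.ble 52 b)) (Bool.rec (motive := fun _ => ℕ) (Bool.rec (motive := fun _ => ℕ) (Bool.rec (motive := fun _ => ℕ) (j2_56) (j2_57) (Nat.ble 57 b)) (Bool.rec (motive := fun _ => ℕ) (j2_58) (j2_59) (Nat.ble 59 b)) (Nat.ble 58 b)) (Bool.rec (motive :=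 fun _ => ℕ) (Bool.rec (motive := fun _ => ℕ) (j2_60) (j2_61) (Nat.ble 61 b)) (Bool.rec (motive := fun _ => ℕ) (j2_62) (j2_63) (Nat.ble 63 b)) (Nat.ble 62 b)) (Nat.ble 60 b)) (Nat.ble 56 b)) (Nat.ble 48 b)) (Nat.ble 32 b)) (Bool.rec (motive := fun _ => ℕ) (Bool.rec (motive := fun _ => ℕ) (Bool.rec (motive := fun _ => ℕ) (Bool.rec (motive := fun _ => ℕ) (Bool.rec (motive := fun _ => ℕ) (Bool.rec (motive := fun _ => ℕ) (j2_64) (j2_65) (Nat.ble 65 b)) (Bool.rec (motive := fun _ => ℕ) (j2_66) (j2_67) (Nat.ble 67 b)) (Nat.ble 66 b)) (Bool.rec (motive := fun _ => ℕ) (Bool.rec (motive := fun _ => ℕ) (j2_68) (j2_69) (Nat.ble 69 b)) (Bool.rec (motive := fun _ => ℕ) (j2_70) (j2_71) (Nat.ble 71 b)) (Nat.ble 70 b)) (Nat.ble 68 b)) (Bool.rec (motive := fun _ => ℕ) (Bool.rec (motive := fun _ => ℕ) (Bool.rec (motive := fun _ => ℕ) (j2_72) (j2_73) (Nat.ble 73 b)) (Bool.rec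 (motive := fun _ => ℕ) (j2_74) (j2_75) (Nat.ble 75 b)) (Nat.ble 74 b)) (Bool.rec (motive := fun _ => ℕ) (Bool.rec (motive := fun _ => ℕ) (j2_76) (j2_77) (Nat.ble 77 b)) (Bool.rec (motive := fun _ => ℕ) (j2_78) (j2_79) (Nat.ble 79 b)) (Nat.ble 78 b)) (Nat.ble 76 b)) (Nat.ble 72 b)) (Bool.rec (motive := fun _ => ℕ) (Bool.rec (motive := fun _ => ℕ) (Bool.rec (motive := fun _ => ℕ) (Bool.rec (motive := fun _ => ℕ) (j2_80) (j2_81) (Nat.ble 81 b)) (Bool.rec (motive := fun _ => ℕ) (j2_82) (j2_83) (Nat.ble 83 b)) (Nat.ble 82 b)) (Bool.rec (motive := fun _ => ℕ) (Bool.rec (motive := fun _ => ℕ) (j2_84) (j2_85) (Nat.ble 85 b)) (Bool.rec (motive := fun _ => ℕ) (j2_86) (j2_87) (Nat.ble 87 b)) (Nat.ble 86 b)) (Nat.ble 84 b)) (Bool.rec (motive := fun _ => ℕ) (Bool.rec (motive := fun _ => ℕ) (Bool.rec (motive := fun _ => ℕ) (j2_88) (j2_89) (Nat.ble 89 b)) (Bool.rec (motive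 := fun _ => ℕ) (j2_90) (j2_91) (Nat.ble 91 b)) (Nat.ble 90 b)) (Bool.rec (motive := fun _ => ℕ) (Bool.rec (motive := fun _ => ℕ) (j2_92) (j2_93) (Nat.ble 93 b)) (Bool.rec (motive := fun _ => ℕ) (j2_94) (j2_95) (Nat.ble 95 b)) (Nat.ble 94 b)) (Nat.ble 92 b)) (Nat.ble 88 b)) (Nat.ble 80 b)) (Bool.rec (motive := fun _ => ℕ) (Bool.rec (motive := fun _ => ℕ) (Bool.rec (motive := fun _ => ℕ) (Bool.rec (motive := fun _ => ℕ) (Bool.rec (motive := fun _ => ℕ) (j2_96) (j2_97) (Nat.ble 97 b)) (Bool.rec (motive := fun _ => ℕ) (j2_98) (j2_99) (Nat.ble 99 b)) (Nat.ble 98 b)) (Bool.rec (motive := fun _ => ℕ) (Bool.rec (motive := fun _ => ℕ) (j2_100) (j2_101) (Nat.ble 101 b)) (Bool.rec (motive := fun _ => ℕ) (j2_102) (j2_103) (Nat.ble 103 b)) (Nat.ble 102 b)) (Nat.ble 100 b)) (Bool.rec (motive := fun _ => ℕ) (Bool.rec (motive := fun _ => ℕ) (Bool.rec (motive := fun _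 => ℕ) (j2_104) (j2_105) (Nat.ble 105 b)) (Bool.rec (motive := fun _ => ℕ) (j2_106) (j2_107) (Nat.ble 107 b)) (Nat.ble 106 b)) (Bool.rec (motive := fun _ => ℕ) (Bool.rec (motive := fun _ => ℕ) (j2_108) (j2_109) (Nat.ble 109 b)) (Bool.rec (motive := fun _ => ℕ) (j2_110) (j2_111) (Nat.ble 111 b)) (Nat.ble 110 b)) (Nat.ble 108 b)) (Nat.ble 104 b)) (Bool.rec (motive := fun _ => ℕ) (Bool.rec (motive := fun _ => ℕ) (Bool.rec (motive := fun _ => ℕ) (Bool.rec (motive := fun _ => ℕ) (j2_112) (j2_113) (Nat.ble 113 b)) (Bool.rec (motive := fun _ => ℕ) (j2_114) (j2_115) (Nat.ble 115 b)) (Nat.ble 114 b)) (Bool.rec (motive := fun _ => ℕ) (Bool.rec (motive := fun _ => ℕ) (j2_116) (j2_117) (Nat.ble 117 b)) (Bool.rec (motive := fun _ => ℕ) (j2_118) (j2_119) (Nat.ble 119 b)) (Nat.ble 118 b)) (Nat.ble 116 b)) (Bool.rec (motive := fun _ => ℕ) (Bool.rec (motive := fun _ =>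 ℕ) (Bool.rec (motive := fun _ => ℕ) (j2_120) (j2_121) (Nat.ble 121 b)) (Bool.rec (motive := fun _ => ℕ) (j2_122) (j2_123) (Nat.ble 123 b)) (Nat.ble 122 b)) (Bool.rec (motive := fun _ => ℕ) (Bool.rec (motive := fun _ => ℕ) (j2_124) (j2_125) (Nat.ble 125 b)) (Bool.rec (motive := fun _ => ℕ) (j2_126) (j2_127) (Nat.ble 127 b)) (Nat.ble 126 b)) (Nat.ble 124 b)) (Nat.ble 120 b)) (Nat.ble 112 b)) (Nat.ble 96 b)) (Nat.ble 64 b)) (Bool.rec (motive := fun _ => ℕ) (Bool.rec (motive := fun _ => ℕ) (Bool.rec (motive := fun _ => ℕ) (Bool.rec (motive := fun _ => ℕ) (Bool.rec (motive := fun _ => ℕ) (Bool.rec (motive := fun _ => ℕ) (Bool.rec (motive := fun _ => ℕ) (j2_128) (j2_129) (Nat.ble 129 b)) (Bool.rec (motive := fun _ => ℕ) (j2_130) (j2_131) (Nat.ble 131 b)) (Nat.ble 130 b)) (Bool.rec (motive := fun _ => ℕ) (Bool.rec (motive := fun _ => ℕ) (j2_132) (j2_133) (Nat.ble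 133 b)) (Bool.rec (motive := fun _ => ℕ) (j2_134) (j2_135) (Nat.ble 135 b)) (Nat.ble 134 b)) (Nat.ble 132 b)) (Bool.rec (motive := fun _ => ℕ) (Bool.rec (motive := fun _ => ℕ) (Bool.rec (motive := fun _ => ℕ) (j2_136) (j2_137) (Nat.ble 137 b)) (Bool.rec (motive := fun _ => ℕ) (j2_138) (j2_139) (Nat.ble 139 b)) (Nat.ble 138 b)) (Bool.rec (motive := fun _ => ℕ) (Bool.rec (motive := fun _ => ℕ) (j2_140) (j2_141) (Nat.ble 141 b)) (Bool.rec (motive := fun _ => ℕ) (j2_142) (j2_143) (Nat.ble 143 b)) (Nat.ble 142 b)) (Nat.ble 140 b)) (Nat.ble 136 b)) (Bool.rec (motive := fun _ => ℕ) (Bool.rec (motive := fun _ => ℕ) (Bool.rec (motive := fun _ => ℕ) (Bool.rec (motive := fun _ => ℕ) (j2_144) (j2_145) (Nat.ble 145 b)) (Bool.rec (motive := fun _ => ℕ) (j2_146) (j2_147) (Nat.ble 147 b)) (Nat.ble 146 b)) (Bool.rec (motive := fun _ => ℕ) (Bool.rec (motive := fun _ =>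 ℕ) (j2_148) (j2_149) (Nat.ble 149 b)) (Bool.rec (motive := fun _ => ℕ) (j2_150) (j2_151) (Nat.ble 151 b)) (Nat.ble 150 b)) (Nat.ble 148 b)) (Bool.rec (motive := fun _ => ℕ) (Bool.rec (motive := fun _ => ℕ) (Bool.rec (motive := fun _ => ℕ) (j2_152) (j2_153) (Nat.ble 153 b)) (Bool.rec (motive := fun _ => ℕ) (j2_154) (j2_155) (Nat.ble 155 b)) (Nat.ble 154 b)) (Bool.rec (motive := fun _ => ℕ) (Bool.rec (motive := fun _ => ℕ) (j2_156) (j2_157) (Nat.ble 157 b)) (Bool.rec (motive := fun _ => ℕ) (j2_158) (j2_159) (Nat.ble 159 b)) (Nat.ble 158 b)) (Nat.ble 156 b)) (Nat.ble 152 b)) (Nat.ble 144 b)) (Bool.rec (motive := fun _ => ℕ) (Bool.rec (motive := fun _ => ℕ) (Bool.rec (motive := fun _ => ℕ) (Bool.rec (motive := fun _ => ℕ) (Bool.rec (motive := fun _ => ℕ) (j2_160) (j2_161) (Nat.ble 161 b)) (Bool.rec (motive := fun _ => ℕ) (j2_162) (j2_163) (Nat.ble 163 b))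 (Nat.ble 162 b)) (Bool.rec (motive := fun _ => ℕ) (Bool.rec (motive := fun _ => ℕ) (j2_164) (j2_165) (Nat.ble 165 b)) (Bool.rec (motive := fun _ => ℕ) (j2_166) (j2_167) (Nat.ble 167 b)) (Nat.ble 166 b)) (Nat.ble 164 b)) (0) (Nat.ble 168 b)) (0) (Nat.ble 176 b)) (Nat.ble 160 b)) (0) (Nat.ble 192 b)) (Nat.ble 128 b))
noncomputable def ecol3 (b : ℕ) : ℕ := (Bool.rec (motive := fun _ => ℕ) (Bool.rec (motive := fun _ => ℕ) (Bool.rec (motive := fun _ => ℕ) (Bool.rec (motive := fun _ => ℕ) (Bool.rec (motive := fun _ => ℕ) (Bool.rec (motive := fun _ => ℕ) (Bool.rec (motive := fun _ => ℕ) (Bool.rec (motive := fun _ => ℕ) (e3_0) (e3_1) (Nat.ble 1 b)) (Bool.rec (motive := fun _ => ℕ) (e3_2) (e3_3) (Nat.ble 3 b)) (Nat.ble 2 b)) (Bool.rec (motive := fun _ => ℕ) (Bool.rec (motive := fun _ => ℕ) (e3_4) (e3_5) (Nat.ble 5 b)) (Bool.rec (motive := fun _ => ℕ) (e3_6) (e3_7)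 (Nat.ble 7 b)) (Nat.ble 6 b)) (Nat.ble 4 b)) (Bool.rec (motive := fun _ => ℕ) (Bool.rec (motive := fun _ => ℕ) (Bool.rec (motive := fun _ => ℕ) (e3_8) (e3_9) (Nat.ble 9 b)) (Bool.rec (motive := fun _ => ℕ) (e3_10) (e3_11) (Nat.ble 11 b)) (Nat.ble 10 b)) (Bool.rec (motive := fun _ => ℕ) (Bool.rec (motive := fun _ => ℕ) (e3_12) (e3_13) (Nat.ble 13 b)) (Bool.rec (motive := fun _ => ℕ) (e3_14) (e3_15) (Nat.ble 15 b)) (Nat.ble 14 b)) (Nat.ble 12 b)) (Nat.ble 8 b)) (Bool.rec (motive := fun _ => ℕ) (Bool.rec (motive := fun _ => ℕ) (Bool.rec (motive := fun _ => ℕ) (Bool.rec (motive := fun _ => ℕ) (e3_16) (e3_17) (Nat.ble 17 b)) (Bool.rec (motive := fun _ => ℕ) (e3_18) (e3_19) (Nat.ble 19 b)) (Nat.ble 18 b)) (Bool.rec (motive := fun _ => ℕ) (Bool.rec (motive := fun _ => ℕ) (e3_20) (e3_21) (Nat.ble 21 b)) (Bool.rec (motive := fun _ => ℕ) (e3_22) (e3_23) (Nat.ble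 23 b)) (Nat.ble 22 b)) (Nat.ble 20 b)) (Bool.rec (motive := fun _ => ℕ) (Bool.rec (motive := fun _ => ℕ) (Bool.rec (motive := fun _ => ℕ) (e3_24) (e3_25) (Nat.ble 25 b)) (Bool.rec (motive := fun _ => ℕ) (e3_26) (e3_27) (Nat.ble 27 b)) (Nat.ble 26 b)) (Bool.rec (motive := fun _ => ℕ) (Bool.rec (motive := fun _ => ℕ) (e3_28) (e3_29) (Nat.ble 29 b)) (Bool.rec (motive := fun _ => ℕ) (e3_30) (e3_31) (Nat.ble 31 b)) (Nat.ble 30 b)) (Nat.ble 28 b)) (Nat.ble 24 b)) (Nat.ble 16 b)) (Bool.rec (motive := fun _ => ℕ) (Bool.rec (motive := fun _ => ℕ) (Bool.rec (motive := fun _ => ℕ) (Bool.rec (motive := fun _ => ℕ) (Bool.rec (motive := fun _ => ℕ) (e3_32) (e3_33) (Nat.ble 33 b)) (Bool.rec (motive := fun _ => ℕ) (e3_34) (e3_35) (Nat.ble 35 b)) (Nat.ble 34 b)) (Bool.rec (motive := fun _ => ℕ) (Bool.rec (motive := fun _ => ℕ) (e3_36) (e3_37) (Nat.ble 37 b)) (Bool.rec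 (motive := fun _ => ℕ) (e3_38) (e3_39) (Nat.ble 39 b)) (Nat.ble 38 b)) (Nat.ble 36 b)) (Bool.rec (motive := fun _ => ℕ) (Bool.rec (motive := fun _ => ℕ) (Bool.rec (motive := fun _ => ℕ) (e3_40) (e3_41) (Nat.ble 41 b)) (Bool.rec (motive := fun _ => ℕ) (e3_42) (e3_43) (Nat.ble 43 b)) (Nat.ble 42 b)) (Bool.rec (motive := fun _ => ℕ) (Bool.rec (motive := fun _ => ℕ) (e3_44) (e3_45) (Nat.ble 45 b)) (Bool.rec (motive := fun _ => ℕ) (e3_46) (e3_47) (Nat.ble 47 b)) (Nat.ble 46 b)) (Nat.ble 44 b)) (Nat.ble 40 b)) (Bool.rec (motive := fun _ => ℕ) (Bool.rec (motive := fun _ => ℕ) (Bool.rec (motive := fun _ => ℕ) (Bool.rec (motive := fun _ => ℕ) (e3_48) (e3_49) (Nat.ble 49 b)) (Bool.rec (motive := fun _ => ℕ) (e3_50) (e3_51) (Nat.ble 51 b)) (Nat.ble 50 b)) (Bool.rec (motive := fun _ => ℕ) (Bool.rec (motive := fun _ => ℕ) (e3_52) (e3_53) (Nat.ble 53 b)) (Bool.rec (motive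 := fun _ => ℕ) (e3_54) (e3_55) (Nat.ble 55 b)) (Nat.ble 54 b)) (Nat.ble 52 b)) (Bool.rec (motive := fun _ => ℕ) (Bool.rec (motive := fun _ => ℕ) (Bool.rec (motive := fun _ => ℕ) (e3_56) (e3_57) (Nat.ble 57 b)) (Bool.rec (motive := fun _ => ℕ) (e3_58) (e3_59) (Nat.ble 59 b)) (Nat.ble 58 b)) (Bool.rec (motive := fun _ => ℕ) (Bool.rec (motive := fun _ => ℕ) (e3_60) (e3_61) (Nat.ble 61 b)) (Bool.rec (motive := fun _ => ℕ) (e3_62) (e3_63) (Nat.ble 63 b)) (Nat.ble 62 b)) (Nat.ble 60 b)) (Nat.ble 56 b)) (Nat.ble 48 b)) (Nat.ble 32 b)) (Bool.rec (motive := fun _ => ℕ) (Bool.rec (motive := fun _ => ℕ) (Bool.rec (motive := fun _ => ℕ) (Bool.rec (motive := fun _ => ℕ) (Bool.rec (motive := fun _ => ℕ) (Bool.rec (motive := fun _ => ℕ) (e3_64) (e3_65) (Nat.ble 65 b)) (Bool.rec (motive := fun _ => ℕ) (e3_66) (e3_67) (Nat.ble 67 b)) (Nat.ble 66 b)) (Bool.rec (motive :=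 fun _ => ℕ) (Bool.rec (motive := fun _ => ℕ) (e3_68) (e3_69) (Nat.ble 69 b)) (Bool.rec (motive := fun _ => ℕ) (e3_70) (e3_71) (Nat.ble 71 b)) (Nat.ble 70 b)) (Nat.ble 68 b)) (Bool.rec (motive := fun _ => ℕ) (Bool.rec (motive := fun _ => ℕ) (Bool.rec (motive := fun _ => ℕ) (e3_72) (e3_73) (Nat.ble 73 b)) (Bool.rec (motive := fun _ => ℕ) (e3_74) (e3_75) (Nat.ble 75 b)) (Nat.ble 74 b)) (Bool.rec (motive := fun _ => ℕ) (Bool.rec (motive := fun _ => ℕ) (e3_76) (e3_77) (Nat.ble 77 b)) (Bool.rec (motive := fun _ => ℕ) (e3_78) (e3_79) (Nat.ble 79 b)) (Nat.ble 78 b)) (Nat.ble 76 b)) (Nat.ble 72 b)) (Bool.rec (motive := fun _ => ℕ) (Bool.rec (motive := fun _ => ℕ) (Bool.rec (motive := fun _ => ℕ) (Bool.rec (motive := fun _ => ℕ) (e3_80) (e3_81) (Nat.ble 81 b)) (Bool.rec (motive := fun _ => ℕ) (e3_82) (e3_83) (Nat.ble 83 b)) (Nat.ble 82 b)) (Bool.rec (motive := fun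 _ => ℕ) (Bool.rec (motive := fun _ => ℕ) (e3_84) (e3_85) (Nat.ble 85 b)) (Bool.rec (motive := fun _ => ℕ) (e3_86) (e3_87) (Nat.ble 87 b)) (Nat.ble 86 b)) (Nat.ble 84 b)) (Bool.rec (motive := fun _ => ℕ) (Bool.rec (motive := fun _ => ℕ) (Bool.rec (motive := fun _ => ℕ) (e3_88) (e3_89) (Nat.ble 89 b)) (Bool.rec (motive := fun _ => ℕ) (e3_90) (e3_91) (Nat.ble 91 b)) (Nat.ble 90 b)) (Bool.rec (motive := fun _ => ℕ) (Bool.rec (motive := fun _ => ℕ) (e3_92) (e3_93) (Nat.ble 93 b)) (Bool.rec (motive := fun _ => ℕ) (e3_94) (e3_95) (Nat.ble 95 b)) (Nat.ble 94 b)) (Nat.ble 92 b)) (Nat.ble 88 b)) (Nat.ble 80 b)) (Bool.rec (motive := fun _ => ℕ) (Bool.rec (motive := fun _ => ℕ) (Bool.rec (motive := fun _ => ℕ) (Bool.rec (motive := fun _ => ℕ) (Bool.rec (motive := fun _ => ℕ) (e3_96) (e3_97) (Nat.ble 97 b)) (Bool.rec (motive := fun _ => ℕ) (e3_98) (e3_99) (Nat.ble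 99 b)) (Nat.ble 98 b)) (Bool.rec (motive := fun _ => ℕ) (Bool.rec (motive := fun _ => ℕ) (e3_100) (e3_101) (Nat.ble 101 b)) (Bool.rec (motive := fun _ => ℕ) (e3_102) (e3_103) (Nat.ble 103 b)) (Nat.ble 102 b)) (Nat.ble 100 b)) (Bool.rec (motive := fun _ => ℕ) (Bool.rec (motive := fun _ => ℕ) (Bool.rec (motive := fun _ => ℕ) (e3_104) (e3_105) (Nat.ble 105 b)) (Bool.rec (motive := fun _ => ℕ) (e3_106) (e3_107) (Nat.ble 107 b)) (Nat.ble 106 b)) (Bool.rec (motive := fun _ => ℕ) (Bool.rec (motive := fun _ => ℕ) (e3_108) (e3_109) (Nat.ble 109 b)) (Bool.rec (motive := fun _ => ℕ) (e3_110) (e3_111) (Nat.ble 111 b)) (Nat.ble 110 b)) (Nat.ble 108 b)) (Nat.ble 104 b)) (Bool.rec (motive := fun _ => ℕ) (Bool.rec (motive := fun _ => ℕ) (Bool.rec (motive := fun _ => ℕ) (Bool.rec (motive := fun _ => ℕ) (e3_112) (e3_113) (Nat.ble 113 b)) (Bool.rec (motive := fun _ => ℕ)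 (e3_114) (e3_115) (Nat.ble 115 b)) (Nat.ble 114 b)) (Bool.rec (motive := fun _ => ℕ) (Bool.rec (motive := fun _ => ℕ) (e3_116) (e3_117) (Nat.ble 117 b)) (Bool.rec (motive := fun _ => ℕ) (e3_118) (e3_119) (Nat.ble 119 b)) (Nat.ble 118 b)) (Nat.ble 116 b)) (Bool.rec (motive := fun _ => ℕ) (Bool.rec (motive := fun _ => ℕ) (Bool.rec (motive := fun _ => ℕ) (e3_120) (e3_121) (Nat.ble 121 b)) (Bool.rec (motive := fun _ => ℕ) (e3_122) (e3_123) (Nat.ble 123 b)) (Nat.ble 122 b)) (Bool.rec (motive := fun _ => ℕ) (Bool.rec (motive := fun _ => ℕ) (e3_124) (e3_125) (Nat.ble 125 b)) (Bool.rec (motive := fun _ => ℕ) (e3_126) (e3_127) (Nat.ble 127 b)) (Nat.ble 126 b)) (Nat.ble 124 b)) (Nat.ble 120 b)) (Nat.ble 112 b)) (Nat.ble 96 b)) (Nat.ble 64 b)) (Bool.rec (motive := fun _ => ℕ) (Bool.rec (motive := fun _ => ℕ) (Bool.rec (motive := fun _ => ℕ) (Bool.rec (motive := fun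 _ => ℕ) (Bool.rec (motive := fun _ => ℕ) (Bool.rec (motive := fun _ => ℕ) (Bool.rec (motive := fun _ => ℕ) (e3_128) (e3_129) (Nat.ble 129 b)) (Bool.rec (motive := fun _ => ℕ) (e3_130) (e3_131) (Nat.ble 131 b)) (Nat.ble 130 b)) (Bool.rec (motive := fun _ => ℕ) (Bool.rec (motive := fun _ => ℕ) (e3_132) (e3_133) (Nat.ble 133 b)) (Bool.rec (motive := fun _ => ℕ) (e3_134) (e3_135) (Nat.ble 135 b)) (Nat.ble 134 b)) (Nat.ble 132 b)) (Bool.rec (motive := fun _ => ℕ) (Bool.rec (motive := fun _ => ℕ) (Bool.rec (motive := fun _ => ℕ) (e3_136) (e3_137) (Nat.ble 137 b)) (Bool.rec (motive := fun _ => ℕ) (e3_138) (e3_139) (Nat.ble 139 b)) (Nat.ble 138 b)) (Bool.rec (motive := fun _ => ℕ) (Bool.rec (motive := fun _ => ℕ) (e3_140) (e3_141) (Nat.ble 141 b)) (Bool.rec (motive := fun _ => ℕ) (e3_142) (e3_143) (Nat.ble 143 b)) (Nat.ble 142 b)) (Nat.ble 140 b)) (Nat.ble 136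 b)) (Bool.rec (motive := fun _ => ℕ) (Bool.rec (motive := fun _ => ℕ) (Bool.rec (motive := fun _ => ℕ) (Bool.rec (motive := fun _ => ℕ) (e3_144) (e3_145) (Nat.ble 145 b)) (Bool.rec (motive := fun _ => ℕ) (e3_146) (e3_147) (Nat.ble 147 b)) (Nat.ble 146 b)) (Bool.rec (motive := fun _ => ℕ) (Bool.rec (motive := fun _ => ℕ) (e3_148) (e3_149) (Nat.ble 149 b)) (Bool.rec (motive := fun _ => ℕ) (e3_150) (e3_151) (Nat.ble 151 b)) (Nat.ble 150 b)) (Nat.ble 148 b)) (Bool.rec (motive := fun _ => ℕ) (Bool.rec (motive := fun _ => ℕ) (Bool.rec (motive := fun _ => ℕ) (e3_152) (e3_153) (Nat.ble 153 b)) (Bool.rec (motive := fun _ => ℕ) (e3_154) (e3_155) (Nat.ble 155 b)) (Nat.ble 154 b)) (Bool.rec (motive := fun _ => ℕ) (Bool.rec (motive := fun _ => ℕ) (e3_156) (e3_157) (Nat.ble 157 b)) (Bool.rec (motive := fun _ => ℕ) (e3_158) (e3_159) (Nat.ble 159 b)) (Nat.ble 158 b))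 (Nat.ble 156 b)) (Nat.ble 152 b)) (Nat.ble 144 b)) (Bool.rec (motive := fun _ => ℕ) (Bool.rec (motive := fun _ => ℕ) (Bool.rec (motive := fun _ => ℕ) (Bool.rec (motive := fun _ => ℕ) (Bool.rec (motive := fun _ => ℕ) (e3_160) (e3_161) (Nat.ble 161 b)) (Bool.rec (motive := fun _ => ℕ) (e3_162) (e3_163) (Nat.ble 163 b)) (Nat.ble 162 b)) (Bool.rec (motive := fun _ => ℕ) (Bool.rec (motive := fun _ => ℕ) (e3_164) (e3_165) (Nat.ble 165 b)) (Bool.rec (motive := fun _ => ℕ) (e3_166) (e3_167) (Nat.ble 167 b)) (Nat.ble 166 b)) (Nat.ble 164 b)) (0) (Nat.ble 168 b)) (0) (Nat.ble 176 b)) (Nat.ble 160 b)) (0) (Nat.ble 192 b)) (Nat.ble 128 b))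
noncomputable def jcol3 (b : ℕ) : ℕ := (Bool.rec (motive := fun _ => ℕ) (Bool.rec (motive := fun _ => ℕ) (Bool.rec (motive := fun _ => ℕ) (Bool.rec (motive := fun _ => ℕ) (Bool.rec (motive := fun _ => ℕ) (Bool.rec (motive := fun _ => ℕ) (Bool.rec (motive := fun _ => ℕ) (Bool.rec (motive := fun _ => ℕ) (j3_0) (j3_1) (Nat.ble 1 b)) (Bool.rec (motive := fun _ => ℕ) (j3_2) (j3_3) (Nat.ble 3 b)) (Nat.ble 2 b)) (Bool.rec (motive := fun _ => ℕ) (Bool.rec (motive := fun _ => ℕ) (j3_4) (j3_5) (Nat.ble 5 b)) (Bool.rec (motive := fun _ => ℕ) (j3_6) (j3_7) (Nat.ble 7 b)) (Nat.ble 6 b)) (Nat.ble 4 b)) (Bool.rec (motive := fun _ => ℕ) (Bool.rec (motive := fun _ => ℕ) (Bool.rec (motive := fun _ => ℕ) (j3_8) (j3_9) (Nat.ble 9 b)) (Bool.rec (motive := fun _ => ℕ) (j3_10) (j3_11) (Nat.ble 11 b)) (Nat.ble 10 b)) (Bool.rec (motive := fun _ => ℕ) (Bool.rec (motive := fun _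 => ℕ) (j3_12) (j3_13) (Nat.ble 13 b)) (Bool.rec (motive := fun _ => ℕ) (j3_14) (j3_15) (Nat.ble 15 b)) (Nat.ble 14 b)) (Nat.ble 12 b)) (Nat.ble 8 b)) (Bool.rec (motive := fun _ => ℕ) (Bool.rec (motive := fun _ => ℕ) (Bool.rec (motive := fun _ => ℕ) (Bool.rec (motive := fun _ => ℕ) (j3_16) (j3_17) (Nat.ble 17 b)) (Bool.rec (motive := fun _ => ℕ) (j3_18) (j3_19) (Nat.ble 19 b)) (Nat.ble 18 b)) (Bool.rec (motive := fun _ => ℕ) (Bool.rec (motive := fun _ => ℕ) (j3_20) (j3_21) (Nat.ble 21 b)) (Bool.rec (motive := fun _ => ℕ) (j3_22) (j3_23) (Nat.ble 23 b)) (Nat.ble 22 b)) (Nat.ble 20 b)) (Bool.rec (motive := fun _ => ℕ) (Bool.rec (motive := fun _ => ℕ) (Bool.rec (motive := fun _ => ℕ) (j3_24) (j3_25) (Nat.ble 25 b)) (Bool.rec (motive := fun _ => ℕ) (j3_26) (j3_27) (Nat.ble 27 b)) (Nat.ble 26 b)) (Bool.rec (motive := fun _ => ℕ) (Bool.rec (motive := fun _ =>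 ℕ) (j3_28) (j3_29) (Nat.ble 29 b)) (Bool.rec (motive := fun _ => ℕ) (j3_30) (j3_31) (Nat.ble 31 b)) (Nat.ble 30 b)) (Nat.ble 28 b)) (Nat.ble 24 b)) (Nat.ble 16 b)) (Bool.rec (motive := fun _ => ℕ) (Bool.rec (motive := fun _ => ℕ) (Bool.rec (motive := fun _ => ℕ) (Bool.rec (motive := fun _ => ℕ) (Bool.rec (motive := fun _ => ℕ) (j3_32) (j3_33) (Nat.ble 33 b)) (Bool.rec (motive := fun _ => ℕ) (j3_34) (j3_35) (Nat.ble 35 b)) (Nat.ble 34 b)) (Bool.rec (motive := fun _ => ℕ) (Bool.rec (motive := fun _ => ℕ) (j3_36) (j3_37) (Nat.ble 37 b)) (Bool.rec (motive := fun _ => ℕ) (j3_38) (j3_39) (Nat.ble 39 b)) (Nat.ble 38 b)) (Nat.ble 36 b)) (Bool.rec (motive := fun _ => ℕ) (Bool.rec (motive := fun _ => ℕ) (Bool.rec (motive := fun _ => ℕ) (j3_40) (j3_41) (Nat.ble 41 b)) (Bool.rec (motive := fun _ => ℕ) (j3_42) (j3_43) (Nat.ble 43 b)) (Nat.ble 42 b)) (Bool.rec (motive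 := fun _ => ℕ) (Bool.rec (motive := fun _ => ℕ) (j3_44) (j3_45) (Nat.ble 45 b)) (Bool.rec (motive := fun _ => ℕ) (j3_46) (j3_47) (Nat.ble 47 b)) (Nat.ble 46 b)) (Nat.ble 44 b)) (Nat.ble 40 b)) (Bool.rec (motive := fun _ => ℕ) (Bool.rec (motive := fun _ => ℕ) (Bool.rec (motive := fun _ => ℕ) (Bool.rec (motive := fun _ => ℕ) (j3_48) (j3_49) (Nat.ble 49 b)) (Bool.rec (motive := fun _ => ℕ) (j3_50) (j3_51) (Nat.ble 51 b)) (Nat.ble 50 b)) (Bool.rec (motive := fun _ => ℕ) (Bool.rec (motive := fun _ => ℕ) (j3_52) (j3_53) (Nat.ble 53 b)) (Bool.rec (motive := fun _ => ℕ) (j3_54) (j3_55) (Nat.ble 55 b)) (Nat.ble 54 b)) (Nat.ble 52 b)) (Bool.rec (motive := fun _ => ℕ) (Bool.rec (motive := fun _ => ℕ) (Bool.rec (motive := fun _ => ℕ) (j3_56) (j3_57) (Nat.ble 57 b)) (Bool.rec (motive := fun _ => ℕ) (j3_58) (j3_59) (Nat.ble 59 b)) (Nat.ble 58 b)) (Bool.rec (motive :=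 fun _ => ℕ) (Bool.rec (motive := fun _ => ℕ) (j3_60) (j3_61) (Nat.ble 61 b)) (Bool.rec (motive := fun _ => ℕ) (j3_62) (j3_63) (Nat.ble 63 b)) (Nat.ble 62 b)) (Nat.ble 60 b)) (Nat.ble 56 b)) (Nat.ble 48 b)) (Nat.ble 32 b)) (Bool.rec (motive := fun _ => ℕ) (Bool.rec (motive := fun _ => ℕ) (Bool.rec (motive := fun _ => ℕ) (Bool.rec (motive := fun _ => ℕ) (Bool.rec (motive := fun _ => ℕ) (Bool.rec (motive := fun _ => ℕ) (j3_64) (j3_65) (Nat.ble 65 b)) (Bool.rec (motive := fun _ => ℕ) (j3_66) (j3_67) (Nat.ble 67 b)) (Nat.ble 66 b)) (Bool.rec (motive := fun _ => ℕ) (Bool.rec (motive := fun _ => ℕ) (j3_68) (j3_69) (Nat.ble 69 b)) (Bool.rec (motive := fun _ => ℕ) (j3_70) (j3_71) (Nat.ble 71 b)) (Nat.ble 70 b)) (Nat.ble 68 b)) (Bool.rec (motive := fun _ => ℕ) (Bool.rec (motive := fun _ => ℕ) (Bool.rec (motive := fun _ => ℕ) (j3_72) (j3_73) (Nat.ble 73 b)) (Bool.rec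 (motive := fun _ => ℕ) (j3_74) (j3_75) (Nat.ble 75 b)) (Nat.ble 74 b)) (Bool.rec (motive := fun _ => ℕ) (Bool.rec (motive := fun _ => ℕ) (j3_76) (j3_77) (Nat.ble 77 b)) (Bool.rec (motive := fun _ => ℕ) (j3_78) (j3_79) (Nat.ble 79 b)) (Nat.ble 78 b)) (Nat.ble 76 b)) (Nat.ble 72 b)) (Bool.rec (motive := fun _ => ℕ) (Bool.rec (motive := fun _ => ℕ) (Bool.rec (motive := fun _ => ℕ) (Bool.rec (motive := fun _ => ℕ) (j3_80) (j3_81) (Nat.ble 81 b)) (Bool.rec (motive := fun _ => ℕ) (j3_82) (j3_83) (Nat.ble 83 b)) (Nat.ble 82 b)) (Bool.rec (motive := fun _ => ℕ) (Bool.rec (motive := fun _ => ℕ) (j3_84) (j3_85) (Nat.ble 85 b)) (Bool.rec (motive := fun _ => ℕ) (j3_86) (j3_87) (Nat.ble 87 b)) (Nat.ble 86 b)) (Nat.ble 84 b)) (Bool.rec (motive := fun _ => ℕ) (Bool.rec (motive := fun _ => ℕ) (Bool.rec (motive := fun _ => ℕ) (j3_88) (j3_89) (Nat.ble 89 b)) (Bool.rec (motive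 := fun _ => ℕ) (j3_90) (j3_91) (Nat.ble 91 b)) (Nat.ble 90 b)) (Bool.rec (motive := fun _ => ℕ) (Bool.rec (motive := fun _ => ℕ) (j3_92) (j3_93) (Nat.ble 93 b)) (Bool.rec (motive := fun _ => ℕ) (j3_94) (j3_95) (Nat.ble 95 b)) (Nat.ble 94 b)) (Nat.ble 92 b)) (Nat.ble 88 b)) (Nat.ble 80 b)) (Bool.rec (motive := fun _ => ℕ) (Bool.rec (motive := fun _ => ℕ) (Bool.rec (motive := fun _ => ℕ) (Bool.rec (motive := fun _ => ℕ) (Bool.rec (motive := fun _ => ℕ) (j3_96) (j3_97) (Nat.ble 97 b)) (Bool.rec (motive := fun _ => ℕ) (j3_98) (j3_99) (Nat.ble 99 b)) (Nat.ble 98 b)) (Bool.rec (motive := fun _ => ℕ) (Bool.rec (motive := fun _ => ℕ) (j3_100) (j3_101) (Nat.ble 101 b)) (Bool.rec (motive := fun _ => ℕ) (j3_102) (j3_103) (Nat.ble 103 b)) (Nat.ble 102 b)) (Nat.ble 100 b)) (Bool.rec (motive := fun _ => ℕ) (Bool.rec (motive := fun _ => ℕ) (Bool.rec (motive := fun _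 => ℕ) (j3_104) (j3_105) (Nat.ble 105 b)) (Bool.rec (motive := fun _ => ℕ) (j3_106) (j3_107) (Nat.ble 107 b)) (Nat.ble 106 b)) (Bool.rec (motive := fun _ => ℕ) (Bool.rec (motive := fun _ => ℕ) (j3_108) (j3_109) (Nat.ble 109 b)) (Bool.rec (motive := fun _ => ℕ) (j3_110) (j3_111) (Nat.ble 111 b)) (Nat.ble 110 b)) (Nat.ble 108 b)) (Nat.ble 104 b)) (Bool.rec (motive := fun _ => ℕ) (Bool.rec (motive := fun _ => ℕ) (Bool.rec (motive := fun _ => ℕ) (Bool.rec (motive := fun _ => ℕ) (j3_112) (j3_113) (Nat.ble 113 b)) (Bool.rec (motive := fun _ => ℕ) (j3_114) (j3_115) (Nat.ble 115 b)) (Nat.ble 114 b)) (Bool.rec (motive := fun _ => ℕ) (Bool.rec (motive := fun _ => ℕ) (j3_116) (j3_117) (Nat.ble 117 b)) (Bool.rec (motive := fun _ => ℕ) (j3_118) (j3_119) (Nat.ble 119 b)) (Nat.ble 118 b)) (Nat.ble 116 b)) (Bool.rec (motive := fun _ => ℕ) (Bool.rec (motive := fun _ =>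 ℕ) (Bool.rec (motive := fun _ => ℕ) (j3_120) (j3_121) (Nat.ble 121 b)) (Bool.rec (motive := fun _ => ℕ) (j3_122) (j3_123) (Nat.ble 123 b)) (Nat.ble 122 b)) (Bool.rec (motive := fun _ => ℕ) (Bool.rec (motive := fun _ => ℕ) (j3_124) (j3_125) (Nat.ble 125 b)) (Bool.rec (motive := fun _ => ℕ) (j3_126) (j3_127) (Nat.ble 127 b)) (Nat.ble 126 b)) (Nat.ble 124 b)) (Nat.ble 120 b)) (Nat.ble 112 b)) (Nat.ble 96 b)) (Nat.ble 64 b)) (Bool.rec (motive := fun _ => ℕ) (Bool.rec (motive := fun _ => ℕ) (Bool.rec (motive := fun _ => ℕ) (Bool.rec (motive := fun _ => ℕ) (Bool.rec (motive := fun _ => ℕ) (Bool.rec (motive := fun _ => ℕ) (Bool.rec (motive := fun _ => ℕ) (j3_128) (j3_129) (Nat.ble 129 b)) (Bool.rec (motive := fun _ => ℕ) (j3_130) (j3_131) (Nat.ble 131 b)) (Nat.ble 130 b)) (Bool.rec (motive := fun _ => ℕ) (Bool.rec (motive := fun _ => ℕ) (j3_132) (j3_133) (Nat.ble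 133 b)) (Bool.rec (motive := fun _ => ℕ) (j3_134) (j3_135) (Nat.ble 135 b)) (Nat.ble 134 b)) (Nat.ble 132 b)) (Bool.rec (motive := fun _ => ℕ) (Bool.rec (motive := fun _ => ℕ) (Bool.rec (motive := fun _ => ℕ) (j3_136) (j3_137) (Nat.ble 137 b)) (Bool.rec (motive := fun _ => ℕ) (j3_138) (j3_139) (Nat.ble 139 b)) (Nat.ble 138 b)) (Bool.rec (motive := fun _ => ℕ) (Bool.rec (motive := fun _ => ℕ) (j3_140) (j3_141) (Nat.ble 141 b)) (Bool.rec (motive := fun _ => ℕ) (j3_142) (j3_143) (Nat.ble 143 b)) (Nat.ble 142 b)) (Nat.ble 140 b)) (Nat.ble 136 b)) (Bool.rec (motive := fun _ => ℕ) (Bool.rec (motive := fun _ => ℕ) (Bool.rec (motive := fun _ => ℕ) (Bool.rec (motive := fun _ => ℕ) (j3_144) (j3_145) (Nat.ble 145 b)) (Bool.rec (motive := fun _ => ℕ) (j3_146) (j3_147) (Nat.ble 147 b)) (Nat.ble 146 b)) (Bool.rec (motive := fun _ => ℕ) (Bool.rec (motive := fun _ =>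 ℕ) (j3_148) (j3_149) (Nat.ble 149 b)) (Bool.rec (motive := fun _ => ℕ) (j3_150) (j3_151) (Nat.ble 151 b)) (Nat.ble 150 b)) (Nat.ble 148 b)) (Bool.rec (motive := fun _ => ℕ) (Bool.rec (motive := fun _ => ℕ) (Bool.rec (motive := fun _ => ℕ) (j3_152) (j3_153) (Nat.ble 153 b)) (Bool.rec (motive := fun _ => ℕ) (j3_154) (j3_155) (Nat.ble 155 b)) (Nat.ble 154 b)) (Bool.rec (motive := fun _ => ℕ) (Bool.rec (motive := fun _ => ℕ) (j3_156) (j3_157) (Nat.ble 157 b)) (Bool.rec (motive := fun _ => ℕ) (j3_158) (j3_159) (Nat.ble 159 b)) (Nat.ble 158 b)) (Nat.ble 156 b)) (Nat.ble 152 b)) (Nat.ble 144 b)) (Bool.rec (motive := fun _ => ℕ) (Bool.rec (motive := fun _ => ℕ) (Bool.rec (motive := fun _ => ℕ) (Bool.rec (motive := fun _ => ℕ) (Bool.rec (motive := fun _ => ℕ) (j3_160) (j3_161) (Nat.ble 161 b)) (Bool.rec (motive := fun _ => ℕ) (j3_162) (j3_163) (Nat.ble 163 b))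 (Nat.ble 162 b)) (Bool.rec (motive := fun _ => ℕ) (Bool.rec (motive := fun _ => ℕ) (j3_164) (j3_165) (Nat.ble 165 b)) (Bool.rec (motive := fun _ => ℕ) (j3_166) (j3_167) (Nat.ble 167 b)) (Nat.ble 166 b)) (Nat.ble 164 b)) (0) (Nat.ble 168 b)) (0) (Nat.ble 176 b)) (Nat.ble 160 b)) (0) (Nat.ble 192 b)) (Nat.ble 128 b))
noncomputable def ecol4 (b : ℕ) : ℕ := (Bool.rec (motive := fun _ => ℕ) (Bool.rec (motive := fun _ => ℕ) (Bool.rec (motive := fun _ => ℕ) (Bool.rec (motive := fun _ => ℕ) (Bool.rec (motive := fun _ => ℕ) (Bool.rec (motive := fun _ => ℕ) (Bool.rec (motive := fun _ => ℕ) (Bool.rec (motive := fun _ => ℕ) (e4_0) (e4_1) (Nat.ble 1 b)) (Bool.rec (motive := fun _ => ℕ) (e4_2) (e4_3) (Nat.ble 3 b)) (Nat.ble 2 b)) (Bool.rec (motive := fun _ => ℕ) (Bool.rec (motive := fun _ => ℕ) (e4_4) (e4_5) (Nat.ble 5 b)) (Bool.rec (motive := fun _ => ℕ) (e4_6) (e4_7)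 (Nat.ble 7 b)) (Nat.ble 6 b)) (Nat.ble 4 b)) (Bool.rec (motive := fun _ => ℕ) (Bool.rec (motive := fun _ => ℕ) (Bool.rec (motive := fun _ => ℕ) (e4_8) (e4_9) (Nat.ble 9 b)) (Bool.rec (motive := fun _ => ℕ) (e4_10) (e4_11) (Nat.ble 11 b)) (Nat.ble 10 b)) (Bool.rec (motive := fun _ => ℕ) (Bool.rec (motive := fun _ => ℕ) (e4_12) (e4_13) (Nat.ble 13 b)) (Bool.rec (motive := fun _ => ℕ) (e4_14) (e4_15) (Nat.ble 15 b)) (Nat.ble 14 b)) (Nat.ble 12 b)) (Nat.ble 8 b)) (Bool.rec (motive := fun _ => ℕ) (Bool.rec (motive := fun _ => ℕ) (Bool.rec (motive := fun _ => ℕ) (Bool.rec (motive := fun _ => ℕ) (e4_16) (e4_17) (Nat.ble 17 b)) (Bool.rec (motive := fun _ => ℕ) (e4_18) (e4_19) (Nat.ble 19 b)) (Nat.ble 18 b)) (Bool.rec (motive := fun _ => ℕ) (Bool.rec (motive := fun _ => ℕ) (e4_20) (e4_21) (Nat.ble 21 b)) (Bool.rec (motive := fun _ => ℕ) (e4_22) (e4_23) (Nat.ble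 23 b)) (Nat.ble 22 b)) (Nat.ble 20 b)) (Bool.rec (motive := fun _ => ℕ) (Bool.rec (motive := fun _ => ℕ) (Bool.rec (motive := fun _ => ℕ) (e4_24) (e4_25) (Nat.ble 25 b)) (Bool.rec (motive := fun _ => ℕ) (e4_26) (e4_27) (Nat.ble 27 b)) (Nat.ble 26 b)) (Bool.rec (motive := fun _ => ℕ) (Bool.rec (motive := fun _ => ℕ) (e4_28) (e4_29) (Nat.ble 29 b)) (Bool.rec (motive := fun _ => ℕ) (e4_30) (e4_31) (Nat.ble 31 b)) (Nat.ble 30 b)) (Nat.ble 28 b)) (Nat.ble 24 b)) (Nat.ble 16 b)) (Bool.rec (motive := fun _ => ℕ) (Bool.rec (motive := fun _ => ℕ) (Bool.rec (motive := fun _ => ℕ) (Bool.rec (motive := fun _ => ℕ) (Bool.rec (motive := fun _ => ℕ) (e4_32) (e4_33) (Nat.ble 33 b)) (Bool.rec (motive := fun _ => ℕ) (e4_34) (e4_35) (Nat.ble 35 b)) (Nat.ble 34 b)) (Bool.rec (motive := fun _ => ℕ) (Bool.rec (motive := fun _ => ℕ) (e4_36) (e4_37) (Nat.ble 37 b)) (Bool.rec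 (motive := fun _ => ℕ) (e4_38) (e4_39) (Nat.ble 39 b)) (Nat.ble 38 b)) (Nat.ble 36 b)) (Bool.rec (motive := fun _ => ℕ) (Bool.rec (motive := fun _ => ℕ) (Bool.rec (motive := fun _ => ℕ) (e4_40) (e4_41) (Nat.ble 41 b)) (Bool.rec (motive := fun _ => ℕ) (e4_42) (e4_43) (Nat.ble 43 b)) (Nat.ble 42 b)) (Bool.rec (motive := fun _ => ℕ) (Bool.rec (motive := fun _ => ℕ) (e4_44) (e4_45) (Nat.ble 45 b)) (Bool.rec (motive := fun _ => ℕ) (e4_46) (e4_47) (Nat.ble 47 b)) (Nat.ble 46 b)) (Nat.ble 44 b)) (Nat.ble 40 b)) (Bool.rec (motive := fun _ => ℕ) (Bool.rec (motive := fun _ => ℕ) (Bool.rec (motive := fun _ => ℕ) (Bool.rec (motive := fun _ => ℕ) (e4_48) (e4_49) (Nat.ble 49 b)) (Bool.rec (motive := fun _ => ℕ) (e4_50) (e4_51) (Nat.ble 51 b)) (Nat.ble 50 b)) (Bool.rec (motive := fun _ => ℕ) (Bool.rec (motive := fun _ => ℕ) (e4_52) (e4_53) (Nat.ble 53 b)) (Bool.rec (motive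 := fun _ => ℕ) (e4_54) (e4_55) (Nat.ble 55 b)) (Nat.ble 54 b)) (Nat.ble 52 b)) (Bool.rec (motive := fun _ => ℕ) (Bool.rec (motive := fun _ => ℕ) (Bool.rec (motive := fun _ => ℕ) (e4_56) (e4_57) (Nat.ble 57 b)) (Bool.rec (motive := fun _ => ℕ) (e4_58) (e4_59) (Nat.ble 59 b)) (Nat.ble 58 b)) (Bool.rec (motive := fun _ => ℕ) (Bool.rec (motive := fun _ => ℕ) (e4_60) (e4_61) (Nat.ble 61 b)) (Bool.rec (motive := fun _ => ℕ) (e4_62) (e4_63) (Nat.ble 63 b)) (Nat.ble 62 b)) (Nat.ble 60 b)) (Nat.ble 56 b)) (Nat.ble 48 b)) (Nat.ble 32 b)) (Bool.rec (motive := fun _ => ℕ) (Bool.rec (motive := fun _ => ℕ) (Bool.rec (motive := fun _ => ℕ) (Bool.rec (motive := fun _ => ℕ) (Bool.rec (motive := fun _ => ℕ) (Bool.rec (motive := fun _ => ℕ) (e4_64) (e4_65) (Nat.ble 65 b)) (Bool.rec (motive := fun _ => ℕ) (e4_66) (e4_67) (Nat.ble 67 b)) (Nat.ble 66 b)) (Bool.rec (motive :=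 fun _ => ℕ) (Bool.rec (motive := fun _ => ℕ) (e4_68) (e4_69) (Nat.ble 69 b)) (Bool.rec (motive := fun _ => ℕ) (e4_70) (e4_71) (Nat.ble 71 b)) (Nat.ble 70 b)) (Nat.ble 68 b)) (Bool.rec (motive := fun _ => ℕ) (Bool.rec (motive := fun _ => ℕ) (Bool.rec (motive := fun _ => ℕ) (e4_72) (e4_73) (Nat.ble 73 b)) (Bool.rec (motive := fun _ => ℕ) (e4_74) (e4_75) (Nat.ble 75 b)) (Nat.ble 74 b)) (Bool.rec (motive := fun _ => ℕ) (Bool.rec (motive := fun _ => ℕ) (e4_76) (e4_77) (Nat.ble 77 b)) (Bool.rec (motive := fun _ => ℕ) (e4_78) (e4_79) (Nat.ble 79 b)) (Nat.ble 78 b)) (Nat.ble 76 b)) (Nat.ble 72 b)) (Bool.rec (motive := fun _ => ℕ) (Bool.rec (motive := fun _ => ℕ) (Bool.rec (motive := fun _ => ℕ) (Bool.rec (motive := fun _ => ℕ) (e4_80) (e4_81) (Nat.ble 81 b)) (Bool.rec (motive := fun _ => ℕ) (e4_82) (e4_83) (Nat.ble 83 b)) (Nat.ble 82 b)) (Bool.rec (motive := fun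 _ => ℕ) (Bool.rec (motive := fun _ => ℕ) (e4_84) (e4_85) (Nat.ble 85 b)) (Bool.rec (motive := fun _ => ℕ) (e4_86) (e4_87) (Nat.ble 87 b)) (Nat.ble 86 b)) (Nat.ble 84 b)) (Bool.rec (motive := fun _ => ℕ) (Bool.rec (motive := fun _ => ℕ) (Bool.rec (motive := fun _ => ℕ) (e4_88) (e4_89) (Nat.ble 89 b)) (Bool.rec (motive := fun _ => ℕ) (e4_90) (e4_91) (Nat.ble 91 b)) (Nat.ble 90 b)) (Bool.rec (motive := fun _ => ℕ) (Bool.rec (motive := fun _ => ℕ) (e4_92) (e4_93) (Nat.ble 93 b)) (Bool.rec (motive := fun _ => ℕ) (e4_94) (e4_95) (Nat.ble 95 b)) (Nat.ble 94 b)) (Nat.ble 92 b)) (Nat.ble 88 b)) (Nat.ble 80 b)) (Bool.rec (motive := fun _ => ℕ) (Bool.rec (motive := fun _ => ℕ) (Bool.rec (motive := fun _ => ℕ) (Bool.rec (motive := fun _ => ℕ) (Bool.rec (motive := fun _ => ℕ) (e4_96) (e4_97) (Nat.ble 97 b)) (Bool.rec (motive := fun _ => ℕ) (e4_98) (e4_99) (Nat.ble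 99 b)) (Nat.ble 98 b)) (Bool.rec (motive := fun _ => ℕ) (Bool.rec (motive := fun _ => ℕ) (e4_100) (e4_101) (Nat.ble 101 b)) (Bool.rec (motive := fun _ => ℕ) (e4_102) (e4_103) (Nat.ble 103 b)) (Nat.ble 102 b)) (Nat.ble 100 b)) (Bool.rec (motive := fun _ => ℕ) (Bool.rec (motive := fun _ => ℕ) (Bool.rec (motive := fun _ => ℕ) (e4_104) (e4_105) (Nat.ble 105 b)) (Bool.rec (motive := fun _ => ℕ) (e4_106) (e4_107) (Nat.ble 107 b)) (Nat.ble 106 b)) (Bool.rec (motive := fun _ => ℕ) (Bool.rec (motive := fun _ => ℕ) (e4_108) (e4_109) (Nat.ble 109 b)) (Bool.rec (motive := fun _ => ℕ) (e4_110) (e4_111) (Nat.ble 111 b)) (Nat.ble 110 b)) (Nat.ble 108 b)) (Nat.ble 104 b)) (Bool.rec (motive := fun _ => ℕ) (Bool.rec (motive := fun _ => ℕ) (Bool.rec (motive := fun _ => ℕ) (Bool.rec (motive := fun _ => ℕ) (e4_112) (e4_113) (Nat.ble 113 b)) (Bool.rec (motive := fun _ => ℕ)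 (e4_114) (e4_115) (Nat.ble 115 b)) (Nat.ble 114 b)) (Bool.rec (motive := fun _ => ℕ) (Bool.rec (motive := fun _ => ℕ) (e4_116) (e4_117) (Nat.ble 117 b)) (Bool.rec (motive := fun _ => ℕ) (e4_118) (e4_119) (Nat.ble 119 b)) (Nat.ble 118 b)) (Nat.ble 116 b)) (Bool.rec (motive := fun _ => ℕ) (Bool.rec (motive := fun _ => ℕ) (Bool.rec (motive := fun _ => ℕ) (e4_120) (e4_121) (Nat.ble 121 b)) (Bool.rec (motive := fun _ => ℕ) (e4_122) (e4_123) (Nat.ble 123 b)) (Nat.ble 122 b)) (Bool.rec (motive := fun _ => ℕ) (Bool.rec (motive := fun _ => ℕ) (e4_124) (e4_125) (Nat.ble 125 b)) (Bool.rec (motive := fun _ => ℕ) (e4_126) (e4_127) (Nat.ble 127 b)) (Nat.ble 126 b)) (Nat.ble 124 b)) (Nat.ble 120 b)) (Nat.ble 112 b)) (Nat.ble 96 b)) (Nat.ble 64 b)) (Bool.rec (motive := fun _ => ℕ) (Bool.rec (motive := fun _ => ℕ) (Bool.rec (motive := fun _ => ℕ) (Bool.rec (motive := fun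 _ => ℕ) (Bool.rec (motive := fun _ => ℕ) (Bool.rec (motive := fun _ => ℕ) (Bool.rec (motive := fun _ => ℕ) (e4_128) (e4_129) (Nat.ble 129 b)) (Bool.rec (motive := fun _ => ℕ) (e4_130) (e4_131) (Nat.ble 131 b)) (Nat.ble 130 b)) (Bool.rec (motive := fun _ => ℕ) (Bool.rec (motive := fun _ => ℕ) (e4_132) (e4_133) (Nat.ble 133 b)) (Bool.rec (motive := fun _ => ℕ) (e4_134) (e4_135) (Nat.ble 135 b)) (Nat.ble 134 b)) (Nat.ble 132 b)) (Bool.rec (motive := fun _ => ℕ) (Bool.rec (motive := fun _ => ℕ) (Bool.rec (motive := fun _ => ℕ) (e4_136) (e4_137) (Nat.ble 137 b)) (Bool.rec (motive := fun _ => ℕ) (e4_138) (e4_139) (Nat.ble 139 b)) (Nat.ble 138 b)) (Bool.rec (motive := fun _ => ℕ) (Bool.rec (motive := fun _ => ℕ) (e4_140) (e4_141) (Nat.ble 141 b)) (Bool.rec (motive := fun _ => ℕ) (e4_142) (e4_143) (Nat.ble 143 b)) (Nat.ble 142 b)) (Nat.ble 140 b)) (Nat.ble 136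 b)) (Bool.rec (motive := fun _ => ℕ) (Bool.rec (motive := fun _ => ℕ) (Bool.rec (motive := fun _ => ℕ) (Bool.rec (motive := fun _ => ℕ) (e4_144) (e4_145) (Nat.ble 145 b)) (Bool.rec (motive := fun _ => ℕ) (e4_146) (e4_147) (Nat.ble 147 b)) (Nat.ble 146 b)) (Bool.rec (motive := fun _ => ℕ) (Bool.rec (motive := fun _ => ℕ) (e4_148) (e4_149) (Nat.ble 149 b)) (Bool.rec (motive := fun _ => ℕ) (e4_150) (e4_151) (Nat.ble 151 b)) (Nat.ble 150 b)) (Nat.ble 148 b)) (Bool.rec (motive := fun _ => ℕ) (Bool.rec (motive := fun _ => ℕ) (Bool.rec (motive := fun _ => ℕ) (e4_152) (e4_153) (Nat.ble 153 b)) (Bool.rec (motive := fun _ => ℕ) (e4_154) (e4_155) (Nat.ble 155 b)) (Nat.ble 154 b)) (Bool.rec (motive := fun _ => ℕ) (Bool.rec (motive := fun _ => ℕ) (e4_156) (e4_157) (Nat.ble 157 b)) (Bool.rec (motive := fun _ => ℕ) (e4_158) (e4_159) (Nat.ble 159 b)) (Nat.ble 158 b))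 (Nat.ble 156 b)) (Nat.ble 152 b)) (Nat.ble 144 b)) (Bool.rec (motive := fun _ => ℕ) (Bool.rec (motive := fun _ => ℕ) (Bool.rec (motive := fun _ => ℕ) (Bool.rec (motive := fun _ => ℕ) (Bool.rec (motive := fun _ => ℕ) (e4_160) (e4_161) (Nat.ble 161 b)) (Bool.rec (motive := fun _ => ℕ) (e4_162) (e4_163) (Nat.ble 163 b)) (Nat.ble 162 b)) (Bool.rec (motive := fun _ => ℕ) (Bool.rec (motive := fun _ => ℕ) (e4_164) (e4_165) (Nat.ble 165 b)) (Bool.rec (motive := fun _ => ℕ) (e4_166) (e4_167) (Nat.ble 167 b)) (Nat.ble 166 b)) (Nat.ble 164 b)) (0) (Nat.ble 168 b)) (0) (Nat.ble 176 b)) (Nat.ble 160 b)) (0) (Nat.ble 192 b)) (Nat.ble 128 b))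
noncomputable def jcol4 (b : ℕ) : ℕ := (Bool.rec (motive := fun _ => ℕ) (Bool.rec (motive := fun _ => ℕ) (Bool.rec (motive := fun _ => ℕ) (Bool.rec (motive := fun _ => ℕ) (Bool.rec (motive := fun _ => ℕ) (Bool.rec (motive := fun _ => ℕ) (Bool.rec (motive := fun _ => ℕ) (Bool.rec (motive := fun _ => ℕ) (j4_0) (j4_1) (Nat.ble 1 b)) (Bool.rec (motive := fun _ => ℕ) (j4_2) (j4_3) (Nat.ble 3 b)) (Nat.ble 2 b)) (Bool.rec (motive := fun _ => ℕ) (Bool.rec (motive := fun _ => ℕ) (j4_4) (j4_5) (Nat.ble 5 b)) (Bool.rec (motive := fun _ => ℕ) (j4_6) (j4_7) (Nat.ble 7 b)) (Nat.ble 6 b)) (Nat.ble 4 b)) (Bool.rec (motive := fun _ => ℕ) (Bool.rec (motive := fun _ => ℕ) (Bool.rec (motive := fun _ => ℕ) (j4_8) (j4_9) (Nat.ble 9 b)) (Bool.rec (motive := fun _ => ℕ) (j4_10) (j4_11) (Nat.ble 11 b)) (Nat.ble 10 b)) (Bool.rec (motive := fun _ => ℕ) (Bool.rec (motive := fun _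 => ℕ) (j4_12) (j4_13) (Nat.ble 13 b)) (Bool.rec (motive := fun _ => ℕ) (j4_14) (j4_15) (Nat.ble 15 b)) (Nat.ble 14 b)) (Nat.ble 12 b)) (Nat.ble 8 b)) (Bool.rec (motive := fun _ => ℕ) (Bool.rec (motive := fun _ => ℕ) (Bool.rec (motive := fun _ => ℕ) (Bool.rec (motive := fun _ => ℕ) (j4_16) (j4_17) (Nat.ble 17 b)) (Bool.rec (motive := fun _ => ℕ) (j4_18) (j4_19) (Nat.ble 19 b)) (Nat.ble 18 b)) (Bool.rec (motive := fun _ => ℕ) (Bool.rec (motive := fun _ => ℕ) (j4_20) (j4_21) (Nat.ble 21 b)) (Bool.rec (motive := fun _ => ℕ) (j4_22) (j4_23) (Nat.ble 23 b)) (Nat.ble 22 b)) (Nat.ble 20 b)) (Bool.rec (motive := fun _ => ℕ) (Bool.rec (motive := fun _ => ℕ) (Bool.rec (motive := fun _ => ℕ) (j4_24) (j4_25) (Nat.ble 25 b)) (Bool.rec (motive := fun _ => ℕ) (j4_26) (j4_27) (Nat.ble 27 b)) (Nat.ble 26 b)) (Bool.rec (motive := fun _ => ℕ) (Bool.rec (motive := fun _ =>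 ℕ) (j4_28) (j4_29) (Nat.ble 29 b)) (Bool.rec (motive := fun _ => ℕ) (j4_30) (j4_31) (Nat.ble 31 b)) (Nat.ble 30 b)) (Nat.ble 28 b)) (Nat.ble 24 b)) (Nat.ble 16 b)) (Bool.rec (motive := fun _ => ℕ) (Bool.rec (motive := fun _ => ℕ) (Bool.rec (motive := fun _ => ℕ) (Bool.rec (motive := fun _ => ℕ) (Bool.rec (motive := fun _ => ℕ) (j4_32) (j4_33) (Nat.ble 33 b)) (Bool.rec (motive := fun _ => ℕ) (j4_34) (j4_35) (Nat.ble 35 b)) (Nat.ble 34 b)) (Bool.rec (motive := fun _ => ℕ) (Bool.rec (motive := fun _ => ℕ) (j4_36) (j4_37) (Nat.ble 37 b)) (Bool.rec (motive := fun _ => ℕ) (j4_38) (j4_39) (Nat.ble 39 b)) (Nat.ble 38 b)) (Nat.ble 36 b)) (Bool.rec (motive := fun _ => ℕ) (Bool.rec (motive := fun _ => ℕ) (Bool.rec (motive := fun _ => ℕ) (j4_40) (j4_41) (Nat.ble 41 b)) (Bool.rec (motive := fun _ => ℕ) (j4_42) (j4_43) (Nat.ble 43 b)) (Nat.ble 42 b)) (Bool.rec (motive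 := fun _ => ℕ) (Bool.rec (motive := fun _ => ℕ) (j4_44) (j4_45) (Nat.ble 45 b)) (Bool.rec (motive := fun _ => ℕ) (j4_46) (j4_47) (Nat.ble 47 b)) (Nat.ble 46 b)) (Nat.ble 44 b)) (Nat.ble 40 b)) (Bool.rec (motive := fun _ => ℕ) (Bool.rec (motive := fun _ => ℕ) (Bool.rec (motive := fun _ => ℕ) (Bool.rec (motive := fun _ => ℕ) (j4_48) (j4_49) (Nat.ble 49 b)) (Bool.rec (motive := fun _ => ℕ) (j4_50) (j4_51) (Nat.ble 51 b)) (Nat.ble 50 b)) (Bool.rec (motive := fun _ => ℕ) (Bool.rec (motive := fun _ => ℕ) (j4_52) (j4_53) (Nat.ble 53 b)) (Bool.rec (motive := fun _ => ℕ) (j4_54) (j4_55) (Nat.ble 55 b)) (Nat.ble 54 b)) (Nat.ble 52 b)) (Bool.rec (motive := fun _ => ℕ) (Bool.rec (motive := fun _ => ℕ) (Bool.rec (motive := fun _ => ℕ) (j4_56) (j4_57) (Nat.ble 57 b)) (Bool.rec (motive := fun _ => ℕ) (j4_58) (j4_59) (Nat.ble 59 b)) (Nat.ble 58 b)) (Bool.rec (motive :=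 fun _ => ℕ) (Bool.rec (motive := fun _ => ℕ) (j4_60) (j4_61) (Nat.ble 61 b)) (Bool.rec (motive := fun _ => ℕ) (j4_62) (j4_63) (Nat.ble 63 b)) (Nat.ble 62 b)) (Nat.ble 60 b)) (Nat.ble 56 b)) (Nat.ble 48 b)) (Nat.ble 32 b)) (Bool.rec (motive := fun _ => ℕ) (Bool.rec (motive := fun _ => ℕ) (Bool.rec (motive := fun _ => ℕ) (Bool.rec (motive := fun _ => ℕ) (Bool.rec (motive := fun _ => ℕ) (Bool.rec (motive := fun _ => ℕ) (j4_64) (j4_65) (Nat.ble 65 b)) (Bool.rec (motive := fun _ => ℕ) (j4_66) (j4_67) (Nat.ble 67 b)) (Nat.ble 66 b)) (Bool.rec (motive := fun _ => ℕ) (Bool.rec (motive := fun _ => ℕ) (j4_68) (j4_69) (Nat.ble 69 b)) (Bool.rec (motive := fun _ => ℕ) (j4_70) (j4_71) (Nat.ble 71 b)) (Nat.ble 70 b)) (Nat.ble 68 b)) (Bool.rec (motive := fun _ => ℕ) (Bool.rec (motive := fun _ => ℕ) (Bool.rec (motive := fun _ => ℕ) (j4_72) (j4_73) (Nat.ble 73 b)) (Bool.rec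 (motive := fun _ => ℕ) (j4_74) (j4_75) (Nat.ble 75 b)) (Nat.ble 74 b)) (Bool.rec (motive := fun _ => ℕ) (Bool.rec (motive := fun _ => ℕ) (j4_76) (j4_77) (Nat.ble 77 b)) (Bool.rec (motive := fun _ => ℕ) (j4_78) (j4_79) (Nat.ble 79 b)) (Nat.ble 78 b)) (Nat.ble 76 b)) (Nat.ble 72 b)) (Bool.rec (motive := fun _ => ℕ) (Bool.rec (motive := fun _ => ℕ) (Bool.rec (motive := fun _ => ℕ) (Bool.rec (motive := fun _ => ℕ) (j4_80) (j4_81) (Nat.ble 81 b)) (Bool.rec (motive := fun _ => ℕ) (j4_82) (j4_83) (Nat.ble 83 b)) (Nat.ble 82 b)) (Bool.rec (motive := fun _ => ℕ) (Bool.rec (motive := fun _ => ℕ) (j4_84) (j4_85) (Nat.ble 85 b)) (Bool.rec (motive := fun _ => ℕ) (j4_86) (j4_87) (Nat.ble 87 b)) (Nat.ble 86 b)) (Nat.ble 84 b)) (Bool.rec (motive := fun _ => ℕ) (Bool.rec (motive := fun _ => ℕ) (Bool.rec (motive := fun _ => ℕ) (j4_88) (j4_89) (Nat.ble 89 b)) (Bool.rec (motive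 := fun _ => ℕ) (j4_90) (j4_91) (Nat.ble 91 b)) (Nat.ble 90 b)) (Bool.rec (motive := fun _ => ℕ) (Bool.rec (motive := fun _ => ℕ) (j4_92) (j4_93) (Nat.ble 93 b)) (Bool.rec (motive := fun _ => ℕ) (j4_94) (j4_95) (Nat.ble 95 b)) (Nat.ble 94 b)) (Nat.ble 92 b)) (Nat.ble 88 b)) (Nat.ble 80 b)) (Bool.rec (motive := fun _ => ℕ) (Bool.rec (motive := fun _ => ℕ) (Bool.rec (motive := fun _ => ℕ) (Bool.rec (motive := fun _ => ℕ) (Bool.rec (motive := fun _ => ℕ) (j4_96) (j4_97) (Nat.ble 97 b)) (Bool.rec (motive := fun _ => ℕ) (j4_98) (j4_99) (Nat.ble 99 b)) (Nat.ble 98 b)) (Bool.rec (motive := fun _ => ℕ) (Bool.rec (motive := fun _ => ℕ) (j4_100) (j4_101) (Nat.ble 101 b)) (Bool.rec (motive := fun _ => ℕ) (j4_102) (j4_103) (Nat.ble 103 b)) (Nat.ble 102 b)) (Nat.ble 100 b)) (Bool.rec (motive := fun _ => ℕ) (Bool.rec (motive := fun _ => ℕ) (Bool.rec (motive := fun _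 => ℕ) (j4_104) (j4_105) (Nat.ble 105 b)) (Bool.rec (motive := fun _ => ℕ) (j4_106) (j4_107) (Nat.ble 107 b)) (Nat.ble 106 b)) (Bool.rec (motive := fun _ => ℕ) (Bool.rec (motive := fun _ => ℕ) (j4_108) (j4_109) (Nat.ble 109 b)) (Bool.rec (motive := fun _ => ℕ) (j4_110) (j4_111) (Nat.ble 111 b)) (Nat.ble 110 b)) (Nat.ble 108 b)) (Nat.ble 104 b)) (Bool.rec (motive := fun _ => ℕ) (Bool.rec (motive := fun _ => ℕ) (Bool.rec (motive := fun _ => ℕ) (Bool.rec (motive := fun _ => ℕ) (j4_112) (j4_113) (Nat.ble 113 b)) (Bool.rec (motive := fun _ => ℕ) (j4_114) (j4_115) (Nat.ble 115 b)) (Nat.ble 114 b)) (Bool.rec (motive := fun _ => ℕ) (Bool.rec (motive := fun _ => ℕ) (j4_116) (j4_117) (Nat.ble 117 b)) (Bool.rec (motive := fun _ => ℕ) (j4_118) (j4_119) (Nat.ble 119 b)) (Nat.ble 118 b)) (Nat.ble 116 b)) (Bool.rec (motive := fun _ => ℕ) (Bool.rec (motive := fun _ =>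 ℕ) (Bool.rec (motive := fun _ => ℕ) (j4_120) (j4_121) (Nat.ble 121 b)) (Bool.rec (motive := fun _ => ℕ) (j4_122) (j4_123) (Nat.ble 123 b)) (Nat.ble 122 b)) (Bool.rec (motive := fun _ => ℕ) (Bool.rec (motive := fun _ => ℕ) (j4_124) (j4_125) (Nat.ble 125 b)) (Bool.rec (motive := fun _ => ℕ) (j4_126) (j4_127) (Nat.ble 127 b)) (Nat.ble 126 b)) (Nat.ble 124 b)) (Nat.ble 120 b)) (Nat.ble 112 b)) (Nat.ble 96 b)) (Nat.ble 64 b)) (Bool.rec (motive := fun _ => ℕ) (Bool.rec (motive := fun _ => ℕ) (Bool.rec (motive := fun _ => ℕ) (Bool.rec (motive := fun _ => ℕ) (Bool.rec (motive := fun _ => ℕ) (Bool.rec (motive := fun _ => ℕ) (Bool.rec (motive := fun _ => ℕ) (j4_128) (j4_129) (Nat.ble 129 b)) (Bool.rec (motive := fun _ => ℕ) (j4_130) (j4_131) (Nat.ble 131 b)) (Nat.ble 130 b)) (Bool.rec (motive := fun _ => ℕ) (Bool.rec (motive := fun _ => ℕ) (j4_132) (j4_133) (Nat.ble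 133 b)) (Bool.rec (motive := fun _ => ℕ) (j4_134) (j4_135) (Nat.ble 135 b)) (Nat.ble 134 b)) (Nat.ble 132 b)) (Bool.rec (motive := fun _ => ℕ) (Bool.rec (motive := fun _ => ℕ) (Bool.rec (motive := fun _ => ℕ) (j4_136) (j4_137) (Nat.ble 137 b)) (Bool.rec (motive := fun _ => ℕ) (j4_138) (j4_139) (Nat.ble 139 b)) (Nat.ble 138 b)) (Bool.rec (motive := fun _ => ℕ) (Bool.rec (motive := fun _ => ℕ) (j4_140) (j4_141) (Nat.ble 141 b)) (Bool.rec (motive := fun _ => ℕ) (j4_142) (j4_143) (Nat.ble 143 b)) (Nat.ble 142 b)) (Nat.ble 140 b)) (Nat.ble 136 b)) (Bool.rec (motive := fun _ => ℕ) (Bool.rec (motive := fun _ => ℕ) (Bool.rec (motive := fun _ => ℕ) (Bool.rec (motive := fun _ => ℕ) (j4_144) (j4_145) (Nat.ble 145 b)) (Bool.rec (motive := fun _ => ℕ) (j4_146) (j4_147) (Nat.ble 147 b)) (Nat.ble 146 b)) (Bool.rec (motive := fun _ => ℕ) (Bool.rec (motive := fun _ =>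 ℕ) (j4_148) (j4_149) (Nat.ble 149 b)) (Bool.rec (motive := fun _ => ℕ) (j4_150) (j4_151) (Nat.ble 151 b)) (Nat.ble 150 b)) (Nat.ble 148 b)) (Bool.rec (motive := fun _ => ℕ) (Bool.rec (motive := fun _ => ℕ) (Bool.rec (motive := fun _ => ℕ) (j4_152) (j4_153) (Nat.ble 153 b)) (Bool.rec (motive := fun _ => ℕ) (j4_154) (j4_155) (Nat.ble 155 b)) (Nat.ble 154 b)) (Bool.rec (motive := fun _ => ℕ) (Bool.rec (motive := fun _ => ℕ) (j4_156) (j4_157) (Nat.ble 157 b)) (Bool.rec (motive := fun _ => ℕ) (j4_158) (j4_159) (Nat.ble 159 b)) (Nat.ble 158 b)) (Nat.ble 156 b)) (Nat.ble 152 b)) (Nat.ble 144 b)) (Bool.rec (motive := fun _ => ℕ) (Bool.rec (motive := fun _ => ℕ) (Bool.rec (motive := fun _ => ℕ) (Bool.rec (motive := fun _ => ℕ) (Bool.rec (motive := fun _ => ℕ) (j4_160) (j4_161) (Nat.ble 161 b)) (Bool.rec (motive := fun _ => ℕ) (j4_162) (j4_163) (Nat.ble 163 b))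 (Nat.ble 162 b)) (Bool.rec (motive := fun _ => ℕ) (Bool.rec (motive := fun _ => ℕ) (j4_164) (j4_165) (Nat.ble 165 b)) (Bool.rec (motive := fun _ => ℕ) (j4_166) (j4_167) (Nat.ble 167 b)) (Nat.ble 166 b)) (Nat.ble 164 b)) (0) (Nat.ble 168 b)) (0) (Nat.ble 176 b)) (Nat.ble 160 b)) (0) (Nat.ble 192 b)) (Nat.ble 128 b))
noncomputable def ecol5 (b : ℕ) : ℕ := (Bool.rec (motive := fun _ => ℕ) (Bool.rec (motive := fun _ => ℕ) (Bool.rec (motive := fun _ => ℕ) (Bool.rec (motive := fun _ => ℕ) (Bool.rec (motive := fun _ => ℕ) (Bool.rec (motive := fun _ => ℕ) (Bool.rec (motive := fun _ => ℕ) (Bool.rec (motive := fun _ => ℕ) (e5_0) (e5_1) (Nat.ble 1 b)) (Bool.rec (motive := fun _ => ℕ) (e5_2) (e5_3) (Nat.ble 3 b)) (Nat.ble 2 b)) (Bool.rec (motive := fun _ => ℕ) (Bool.rec (motive := fun _ => ℕ) (e5_4) (e5_5) (Nat.ble 5 b)) (Bool.rec (motive := fun _ => ℕ) (e5_6) (e5_7)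 (Nat.ble 7 b)) (Nat.ble 6 b)) (Nat.ble 4 b)) (Bool.rec (motive := fun _ => ℕ) (Bool.rec (motive := fun _ => ℕ) (Bool.rec (motive := fun _ => ℕ) (e5_8) (e5_9) (Nat.ble 9 b)) (Bool.rec (motive := fun _ => ℕ) (e5_10) (e5_11) (Nat.ble 11 b)) (Nat.ble 10 b)) (Bool.rec (motive := fun _ => ℕ) (Bool.rec (motive := fun _ => ℕ) (e5_12) (e5_13) (Nat.ble 13 b)) (Bool.rec (motive := fun _ => ℕ) (e5_14) (e5_15) (Nat.ble 15 b)) (Nat.ble 14 b)) (Nat.ble 12 b)) (Nat.ble 8 b)) (Bool.rec (motive := fun _ => ℕ) (Bool.rec (motive := fun _ => ℕ) (Bool.rec (motive := fun _ => ℕ) (Bool.rec (motive := fun _ => ℕ) (e5_16) (e5_17) (Nat.ble 17 b)) (Bool.rec (motive := fun _ => ℕ) (e5_18) (e5_19) (Nat.ble 19 b)) (Nat.ble 18 b)) (Bool.rec (motive := fun _ => ℕ) (Bool.rec (motive := fun _ => ℕ) (e5_20) (e5_21) (Nat.ble 21 b)) (Bool.rec (motive := fun _ => ℕ) (e5_22) (e5_23) (Nat.ble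 23 b)) (Nat.ble 22 b)) (Nat.ble 20 b)) (Bool.rec (motive := fun _ => ℕ) (Bool.rec (motive := fun _ => ℕ) (Bool.rec (motive := fun _ => ℕ) (e5_24) (e5_25) (Nat.ble 25 b)) (Bool.rec (motive := fun _ => ℕ) (e5_26) (e5_27) (Nat.ble 27 b)) (Nat.ble 26 b)) (Bool.rec (motive := fun _ => ℕ) (Bool.rec (motive := fun _ => ℕ) (e5_28) (e5_29) (Nat.ble 29 b)) (Bool.rec (motive := fun _ => ℕ) (e5_30) (e5_31) (Nat.ble 31 b)) (Nat.ble 30 b)) (Nat.ble 28 b)) (Nat.ble 24 b)) (Nat.ble 16 b)) (Bool.rec (motive := fun _ => ℕ) (Bool.rec (motive := fun _ => ℕ) (Bool.rec (motive := fun _ => ℕ) (Bool.rec (motive := fun _ => ℕ) (Bool.rec (motive := fun _ => ℕ) (e5_32) (e5_33) (Nat.ble 33 b)) (Bool.rec (motive := fun _ => ℕ) (e5_34) (e5_35) (Nat.ble 35 b)) (Nat.ble 34 b)) (Bool.rec (motive := fun _ => ℕ) (Bool.rec (motive := fun _ => ℕ) (e5_36) (e5_37) (Nat.ble 37 b)) (Bool.rec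 (motive := fun _ => ℕ) (e5_38) (e5_39) (Nat.ble 39 b)) (Nat.ble 38 b)) (Nat.ble 36 b)) (Bool.rec (motive := fun _ => ℕ) (Bool.rec (motive := fun _ => ℕ) (Bool.rec (motive := fun _ => ℕ) (e5_40) (e5_41) (Nat.ble 41 b)) (Bool.rec (motive := fun _ => ℕ) (e5_42) (e5_43) (Nat.ble 43 b)) (Nat.ble 42 b)) (Bool.rec (motive := fun _ => ℕ) (Bool.rec (motive := fun _ => ℕ) (e5_44) (e5_45) (Nat.ble 45 b)) (Bool.rec (motive := fun _ => ℕ) (e5_46) (e5_47) (Nat.ble 47 b)) (Nat.ble 46 b)) (Nat.ble 44 b)) (Nat.ble 40 b)) (Bool.rec (motive := fun _ => ℕ) (Bool.rec (motive := fun _ => ℕ) (Bool.rec (motive := fun _ => ℕ) (Bool.rec (motive := fun _ => ℕ) (e5_48) (e5_49) (Nat.ble 49 b)) (Bool.rec (motive := fun _ => ℕ) (e5_50) (e5_51) (Nat.ble 51 b)) (Nat.ble 50 b)) (Bool.rec (motive := fun _ => ℕ) (Bool.rec (motive := fun _ => ℕ) (e5_52) (e5_53) (Nat.ble 53 b)) (Bool.rec (motive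 := fun _ => ℕ) (e5_54) (e5_55) (Nat.ble 55 b)) (Nat.ble 54 b)) (Nat.ble 52 b)) (Bool.rec (motive := fun _ => ℕ) (Bool.rec (motive := fun _ => ℕ) (Bool.rec (motive := fun _ => ℕ) (e5_56) (e5_57) (Nat.ble 57 b)) (Bool.rec (motive := fun _ => ℕ) (e5_58) (e5_59) (Nat.ble 59 b)) (Nat.ble 58 b)) (Bool.rec (motive := fun _ => ℕ) (Bool.rec (motive := fun _ => ℕ) (e5_60) (e5_61) (Nat.ble 61 b)) (Bool.rec (motive := fun _ => ℕ) (e5_62) (e5_63) (Nat.ble 63 b)) (Nat.ble 62 b)) (Nat.ble 60 b)) (Nat.ble 56 b)) (Nat.ble 48 b)) (Nat.ble 32 b)) (Bool.rec (motive := fun _ => ℕ) (Bool.rec (motive := fun _ => ℕ) (Bool.rec (motive := fun _ => ℕ) (Bool.rec (motive := fun _ => ℕ) (Bool.rec (motive := fun _ => ℕ) (Bool.rec (motive := fun _ => ℕ) (e5_64) (e5_65) (Nat.ble 65 b)) (Bool.rec (motive := fun _ => ℕ) (e5_66) (e5_67) (Nat.ble 67 b)) (Nat.ble 66 b)) (Bool.rec (motive :=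 fun _ => ℕ) (Bool.rec (motive := fun _ => ℕ) (e5_68) (e5_69) (Nat.ble 69 b)) (Bool.rec (motive := fun _ => ℕ) (e5_70) (e5_71) (Nat.ble 71 b)) (Nat.ble 70 b)) (Nat.ble 68 b)) (Bool.rec (motive := fun _ => ℕ) (Bool.rec (motive := fun _ => ℕ) (Bool.rec (motive := fun _ => ℕ) (e5_72) (e5_73) (Nat.ble 73 b)) (Bool.rec (motive := fun _ => ℕ) (e5_74) (e5_75) (Nat.ble 75 b)) (Nat.ble 74 b)) (Bool.rec (motive := fun _ => ℕ) (Bool.rec (motive := fun _ => ℕ) (e5_76) (e5_77) (Nat.ble 77 b)) (Bool.rec (motive := fun _ => ℕ) (e5_78) (e5_79) (Nat.ble 79 b)) (Nat.ble 78 b)) (Nat.ble 76 b)) (Nat.ble 72 b)) (Bool.rec (motive := fun _ => ℕ) (Bool.rec (motive := fun _ => ℕ) (Bool.rec (motive := fun _ => ℕ) (Bool.rec (motive := fun _ => ℕ) (e5_80) (e5_81) (Nat.ble 81 b)) (Bool.rec (motive := fun _ => ℕ) (e5_82) (e5_83) (Nat.ble 83 b)) (Nat.ble 82 b)) (Bool.rec (motive := fun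 _ => ℕ) (Bool.rec (motive := fun _ => ℕ) (e5_84) (e5_85) (Nat.ble 85 b)) (Bool.rec (motive := fun _ => ℕ) (e5_86) (e5_87) (Nat.ble 87 b)) (Nat.ble 86 b)) (Nat.ble 84 b)) (Bool.rec (motive := fun _ => ℕ) (Bool.rec (motive := fun _ => ℕ) (Bool.rec (motive := fun _ => ℕ) (e5_88) (e5_89) (Nat.ble 89 b)) (Bool.rec (motive := fun _ => ℕ) (e5_90) (e5_91) (Nat.ble 91 b)) (Nat.ble 90 b)) (Bool.rec (motive := fun _ => ℕ) (Bool.rec (motive := fun _ => ℕ) (e5_92) (e5_93) (Nat.ble 93 b)) (Bool.rec (motive := fun _ => ℕ) (e5_94) (e5_95) (Nat.ble 95 b)) (Nat.ble 94 b)) (Nat.ble 92 b)) (Nat.ble 88 b)) (Nat.ble 80 b)) (Bool.rec (motive := fun _ => ℕ) (Bool.rec (motive := fun _ => ℕ) (Bool.rec (motive := fun _ => ℕ) (Bool.rec (motive := fun _ => ℕ) (Bool.rec (motive := fun _ => ℕ) (e5_96) (e5_97) (Nat.ble 97 b)) (Bool.rec (motive := fun _ => ℕ) (e5_98) (e5_99) (Nat.ble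 99 b)) (Nat.ble 98 b)) (Bool.rec (motive := fun _ => ℕ) (Bool.rec (motive := fun _ => ℕ) (e5_100) (e5_101) (Nat.ble 101 b)) (Bool.rec (motive := fun _ => ℕ) (e5_102) (e5_103) (Nat.ble 103 b)) (Nat.ble 102 b)) (Nat.ble 100 b)) (Bool.rec (motive := fun _ => ℕ) (Bool.rec (motive := fun _ => ℕ) (Bool.rec (motive := fun _ => ℕ) (e5_104) (e5_105) (Nat.ble 105 b)) (Bool.rec (motive := fun _ => ℕ) (e5_106) (e5_107) (Nat.ble 107 b)) (Nat.ble 106 b)) (Bool.rec (motive := fun _ => ℕ) (Bool.rec (motive := fun _ => ℕ) (e5_108) (e5_109) (Nat.ble 109 b)) (Bool.rec (motive := fun _ => ℕ) (e5_110) (e5_111) (Nat.ble 111 b)) (Nat.ble 110 b)) (Nat.ble 108 b)) (Nat.ble 104 b)) (Bool.rec (motive := fun _ => ℕ) (Bool.rec (motive := fun _ => ℕ) (Bool.rec (motive := fun _ => ℕ) (Bool.rec (motive := fun _ => ℕ) (e5_112) (e5_113) (Nat.ble 113 b)) (Bool.rec (motive := fun _ => ℕ)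 (e5_114) (e5_115) (Nat.ble 115 b)) (Nat.ble 114 b)) (Bool.rec (motive := fun _ => ℕ) (Bool.rec (motive := fun _ => ℕ) (e5_116) (e5_117) (Nat.ble 117 b)) (Bool.rec (motive := fun _ => ℕ) (e5_118) (e5_119) (Nat.ble 119 b)) (Nat.ble 118 b)) (Nat.ble 116 b)) (Bool.rec (motive := fun _ => ℕ) (Bool.rec (motive := fun _ => ℕ) (Bool.rec (motive := fun _ => ℕ) (e5_120) (e5_121) (Nat.ble 121 b)) (Bool.rec (motive := fun _ => ℕ) (e5_122) (e5_123) (Nat.ble 123 b)) (Nat.ble 122 b)) (Bool.rec (motive := fun _ => ℕ) (Bool.rec (motive := fun _ => ℕ) (e5_124) (e5_125) (Nat.ble 125 b)) (Bool.rec (motive := fun _ => ℕ) (e5_126) (e5_127) (Nat.ble 127 b)) (Nat.ble 126 b)) (Nat.ble 124 b)) (Nat.ble 120 b)) (Nat.ble 112 b)) (Nat.ble 96 b)) (Nat.ble 64 b)) (Bool.rec (motive := fun _ => ℕ) (Bool.rec (motive := fun _ => ℕ) (Bool.rec (motive := fun _ => ℕ) (Bool.rec (motive := fun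 _ => ℕ) (Bool.rec (motive := fun _ => ℕ) (Bool.rec (motive := fun _ => ℕ) (Bool.rec (motive := fun _ => ℕ) (e5_128) (e5_129) (Nat.ble 129 b)) (Bool.rec (motive := fun _ => ℕ) (e5_130) (e5_131) (Nat.ble 131 b)) (Nat.ble 130 b)) (Bool.rec (motive := fun _ => ℕ) (Bool.rec (motive := fun _ => ℕ) (e5_132) (e5_133) (Nat.ble 133 b)) (Bool.rec (motive := fun _ => ℕ) (e5_134) (e5_135) (Nat.ble 135 b)) (Nat.ble 134 b)) (Nat.ble 132 b)) (Bool.rec (motive := fun _ => ℕ) (Bool.rec (motive := fun _ => ℕ) (Bool.rec (motive := fun _ => ℕ) (e5_136) (e5_137) (Nat.ble 137 b)) (Bool.rec (motive := fun _ => ℕ) (e5_138) (e5_139) (Nat.ble 139 b)) (Nat.ble 138 b)) (Bool.rec (motive := fun _ => ℕ) (Bool.rec (motive := fun _ => ℕ) (e5_140) (e5_141) (Nat.ble 141 b)) (Bool.rec (motive := fun _ => ℕ) (e5_142) (e5_143) (Nat.ble 143 b)) (Nat.ble 142 b)) (Nat.ble 140 b)) (Nat.ble 136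 b)) (Bool.rec (motive := fun _ => ℕ) (Bool.rec (motive := fun _ => ℕ) (Bool.rec (motive := fun _ => ℕ) (Bool.rec (motive := fun _ => ℕ) (e5_144) (e5_145) (Nat.ble 145 b)) (Bool.rec (motive := fun _ => ℕ) (e5_146) (e5_147) (Nat.ble 147 b)) (Nat.ble 146 b)) (Bool.rec (motive := fun _ => ℕ) (Bool.rec (motive := fun _ => ℕ) (e5_148) (e5_149) (Nat.ble 149 b)) (Bool.rec (motive := fun _ => ℕ) (e5_150) (e5_151) (Nat.ble 151 b)) (Nat.ble 150 b)) (Nat.ble 148 b)) (Bool.rec (motive := fun _ => ℕ) (Bool.rec (motive := fun _ => ℕ) (Bool.rec (motive := fun _ => ℕ) (e5_152) (e5_153) (Nat.ble 153 b)) (Bool.rec (motive := fun _ => ℕ) (e5_154) (e5_155) (Nat.ble 155 b)) (Nat.ble 154 b)) (Bool.rec (motive := fun _ => ℕ) (Bool.rec (motive := fun _ => ℕ) (e5_156) (e5_157) (Nat.ble 157 b)) (Bool.rec (motive := fun _ => ℕ) (e5_158) (e5_159) (Nat.ble 159 b)) (Nat.ble 158 b))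 (Nat.ble 156 b)) (Nat.ble 152 b)) (Nat.ble 144 b)) (Bool.rec (motive := fun _ => ℕ) (Bool.rec (motive := fun _ => ℕ) (Bool.rec (motive := fun _ => ℕ) (Bool.rec (motive := fun _ => ℕ) (Bool.rec (motive := fun _ => ℕ) (e5_160) (e5_161) (Nat.ble 161 b)) (Bool.rec (motive := fun _ => ℕ) (e5_162) (e5_163) (Nat.ble 163 b)) (Nat.ble 162 b)) (Bool.rec (motive := fun _ => ℕ) (Bool.rec (motive := fun _ => ℕ) (e5_164) (e5_165) (Nat.ble 165 b)) (Bool.rec (motive := fun _ => ℕ) (e5_166) (e5_167) (Nat.ble 167 b)) (Nat.ble 166 b)) (Nat.ble 164 b)) (0) (Nat.ble 168 b)) (0) (Nat.ble 176 b)) (Nat.ble 160 b)) (0) (Nat.ble 192 b)) (Nat.ble 128 b))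
noncomputable def jcol5 (b : ℕ) : ℕ := (Bool.rec (motive := fun _ => ℕ) (Bool.rec (motive := fun _ => ℕ) (Bool.rec (motive := fun _ => ℕ) (Bool.rec (motive := fun _ => ℕ) (Bool.rec (motive := fun _ => ℕ) (Bool.rec (motive := fun _ => ℕ) (Bool.rec (motive := fun _ => ℕ) (Bool.rec (motive := fun _ => ℕ) (j5_0) (j5_1) (Nat.ble 1 b)) (Bool.rec (motive := fun _ => ℕ) (j5_2) (j5_3) (Nat.ble 3 b)) (Nat.ble 2 b)) (Bool.rec (motive := fun _ => ℕ) (Bool.rec (motive := fun _ => ℕ) (j5_4) (j5_5) (Nat.ble 5 b)) (Bool.rec (motive := fun _ => ℕ) (j5_6) (j5_7) (Nat.ble 7 b)) (Nat.ble 6 b)) (Nat.ble 4 b)) (Bool.rec (motive := fun _ => ℕ) (Bool.rec (motive := fun _ => ℕ) (Bool.rec (motive := fun _ => ℕ) (j5_8) (j5_9) (Nat.ble 9 b)) (Bool.rec (motive := fun _ => ℕ) (j5_10) (j5_11) (Nat.ble 11 b)) (Nat.ble 10 b)) (Bool.rec (motive := fun _ => ℕ) (Bool.rec (motive := fun _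 => ℕ) (j5_12) (j5_13) (Nat.ble 13 b)) (Bool.rec (motive := fun _ => ℕ) (j5_14) (j5_15) (Nat.ble 15 b)) (Nat.ble 14 b)) (Nat.ble 12 b)) (Nat.ble 8 b)) (Bool.rec (motive := fun _ => ℕ) (Bool.rec (motive := fun _ => ℕ) (Bool.rec (motive := fun _ => ℕ) (Bool.rec (motive := fun _ => ℕ) (j5_16) (j5_17) (Nat.ble 17 b)) (Bool.rec (motive := fun _ => ℕ) (j5_18) (j5_19) (Nat.ble 19 b)) (Nat.ble 18 b)) (Bool.rec (motive := fun _ => ℕ) (Bool.rec (motive := fun _ => ℕ) (j5_20) (j5_21) (Nat.ble 21 b)) (Bool.rec (motive := fun _ => ℕ) (j5_22) (j5_23) (Nat.ble 23 b)) (Nat.ble 22 b)) (Nat.ble 20 b)) (Bool.rec (motive := fun _ => ℕ) (Bool.rec (motive := fun _ => ℕ) (Bool.rec (motive := fun _ => ℕ) (j5_24) (j5_25) (Nat.ble 25 b)) (Bool.rec (motive := fun _ => ℕ) (j5_26) (j5_27) (Nat.ble 27 b)) (Nat.ble 26 b)) (Bool.rec (motive := fun _ => ℕ) (Bool.rec (motive := fun _ =>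 ℕ) (j5_28) (j5_29) (Nat.ble 29 b)) (Bool.rec (motive := fun _ => ℕ) (j5_30) (j5_31) (Nat.ble 31 b)) (Nat.ble 30 b)) (Nat.ble 28 b)) (Nat.ble 24 b)) (Nat.ble 16 b)) (Bool.rec (motive := fun _ => ℕ) (Bool.rec (motive := fun _ => ℕ) (Bool.rec (motive := fun _ => ℕ) (Bool.rec (motive := fun _ => ℕ) (Bool.rec (motive := fun _ => ℕ) (j5_32) (j5_33) (Nat.ble 33 b)) (Bool.rec (motive := fun _ => ℕ) (j5_34) (j5_35) (Nat.ble 35 b)) (Nat.ble 34 b)) (Bool.rec (motive := fun _ => ℕ) (Bool.rec (motive := fun _ => ℕ) (j5_36) (j5_37) (Nat.ble 37 b)) (Bool.rec (motive := fun _ => ℕ) (j5_38) (j5_39) (Nat.ble 39 b)) (Nat.ble 38 b)) (Nat.ble 36 b)) (Bool.rec (motive := fun _ => ℕ) (Bool.rec (motive := fun _ => ℕ) (Bool.rec (motive := fun _ => ℕ) (j5_40) (j5_41) (Nat.ble 41 b)) (Bool.rec (motive := fun _ => ℕ) (j5_42) (j5_43) (Nat.ble 43 b)) (Nat.ble 42 b)) (Bool.rec (motive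 := fun _ => ℕ) (Bool.rec (motive := fun _ => ℕ) (j5_44) (j5_45) (Nat.ble 45 b)) (Bool.rec (motive := fun _ => ℕ) (j5_46) (j5_47) (Nat.ble 47 b)) (Nat.ble 46 b)) (Nat.ble 44 b)) (Nat.ble 40 b)) (Bool.rec (motive := fun _ => ℕ) (Bool.rec (motive := fun _ => ℕ) (Bool.rec (motive := fun _ => ℕ) (Bool.rec (motive := fun _ => ℕ) (j5_48) (j5_49) (Nat.ble 49 b)) (Bool.rec (motive := fun _ => ℕ) (j5_50) (j5_51) (Nat.ble 51 b)) (Nat.ble 50 b)) (Bool.rec (motive := fun _ => ℕ) (Bool.rec (motive := fun _ => ℕ) (j5_52) (j5_53) (Nat.ble 53 b)) (Bool.rec (motive := fun _ => ℕ) (j5_54) (j5_55) (Nat.ble 55 b)) (Nat.ble 54 b)) (Nat.ble 52 b)) (Bool.rec (motive := fun _ => ℕ) (Bool.rec (motive := fun _ => ℕ) (Bool.rec (motive := fun _ => ℕ) (j5_56) (j5_57) (Nat.ble 57 b)) (Bool.rec (motive := fun _ => ℕ) (j5_58) (j5_59) (Nat.ble 59 b)) (Nat.ble 58 b)) (Bool.rec (motive :=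 fun _ => ℕ) (Bool.rec (motive := fun _ => ℕ) (j5_60) (j5_61) (Nat.ble 61 b)) (Bool.rec (motive := fun _ => ℕ) (j5_62) (j5_63) (Nat.ble 63 b)) (Nat.ble 62 b)) (Nat.ble 60 b)) (Nat.ble 56 b)) (Nat.ble 48 b)) (Nat.ble 32 b)) (Bool.rec (motive := fun _ => ℕ) (Bool.rec (motive := fun _ => ℕ) (Bool.rec (motive := fun _ => ℕ) (Bool.rec (motive := fun _ => ℕ) (Bool.rec (motive := fun _ => ℕ) (Bool.rec (motive := fun _ => ℕ) (j5_64) (j5_65) (Nat.ble 65 b)) (Bool.rec (motive := fun _ => ℕ) (j5_66) (j5_67) (Nat.ble 67 b)) (Nat.ble 66 b)) (Bool.rec (motive := fun _ => ℕ) (Bool.rec (motive := fun _ => ℕ) (j5_68) (j5_69) (Nat.ble 69 b)) (Bool.rec (motive := fun _ => ℕ) (j5_70) (j5_71) (Nat.ble 71 b)) (Nat.ble 70 b)) (Nat.ble 68 b)) (Bool.rec (motive := fun _ => ℕ) (Bool.rec (motive := fun _ => ℕ) (Bool.rec (motive := fun _ => ℕ) (j5_72) (j5_73) (Nat.ble 73 b)) (Bool.rec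 (motive := fun _ => ℕ) (j5_74) (j5_75) (Nat.ble 75 b)) (Nat.ble 74 b)) (Bool.rec (motive := fun _ => ℕ) (Bool.rec (motive := fun _ => ℕ) (j5_76) (j5_77) (Nat.ble 77 b)) (Bool.rec (motive := fun _ => ℕ) (j5_78) (j5_79) (Nat.ble 79 b)) (Nat.ble 78 b)) (Nat.ble 76 b)) (Nat.ble 72 b)) (Bool.rec (motive := fun _ => ℕ) (Bool.rec (motive := fun _ => ℕ) (Bool.rec (motive := fun _ => ℕ) (Bool.rec (motive := fun _ => ℕ) (j5_80) (j5_81) (Nat.ble 81 b)) (Bool.rec (motive := fun _ => ℕ) (j5_82) (j5_83) (Nat.ble 83 b)) (Nat.ble 82 b)) (Bool.rec (motive := fun _ => ℕ) (Bool.rec (motive := fun _ => ℕ) (j5_84) (j5_85) (Nat.ble 85 b)) (Bool.rec (motive := fun _ => ℕ) (j5_86) (j5_87) (Nat.ble 87 b)) (Nat.ble 86 b)) (Nat.ble 84 b)) (Bool.rec (motive := fun _ => ℕ) (Bool.rec (motive := fun _ => ℕ) (Bool.rec (motive := fun _ => ℕ) (j5_88) (j5_89) (Nat.ble 89 b)) (Bool.rec (motive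 := fun _ => ℕ) (j5_90) (j5_91) (Nat.ble 91 b)) (Nat.ble 90 b)) (Bool.rec (motive := fun _ => ℕ) (Bool.rec (motive := fun _ => ℕ) (j5_92) (j5_93) (Nat.ble 93 b)) (Bool.rec (motive := fun _ => ℕ) (j5_94) (j5_95) (Nat.ble 95 b)) (Nat.ble 94 b)) (Nat.ble 92 b)) (Nat.ble 88 b)) (Nat.ble 80 b)) (Bool.rec (motive := fun _ => ℕ) (Bool.rec (motive := fun _ => ℕ) (Bool.rec (motive := fun _ => ℕ) (Bool.rec (motive := fun _ => ℕ) (Bool.rec (motive := fun _ => ℕ) (j5_96) (j5_97) (Nat.ble 97 b)) (Bool.rec (motive := fun _ => ℕ) (j5_98) (j5_99) (Nat.ble 99 b)) (Nat.ble 98 b)) (Bool.rec (motive := fun _ => ℕ) (Bool.rec (motive := fun _ => ℕ) (j5_100) (j5_101) (Nat.ble 101 b)) (Bool.rec (motive := fun _ => ℕ) (j5_102) (j5_103) (Nat.ble 103 b)) (Nat.ble 102 b)) (Nat.ble 100 b)) (Bool.rec (motive := fun _ => ℕ) (Bool.rec (motive := fun _ => ℕ) (Bool.rec (motive := fun _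 => ℕ) (j5_104) (j5_105) (Nat.ble 105 b)) (Bool.rec (motive := fun _ => ℕ) (j5_106) (j5_107) (Nat.ble 107 b)) (Nat.ble 106 b)) (Bool.rec (motive := fun _ => ℕ) (Bool.rec (motive := fun _ => ℕ) (j5_108) (j5_109) (Nat.ble 109 b)) (Bool.rec (motive := fun _ => ℕ) (j5_110) (j5_111) (Nat.ble 111 b)) (Nat.ble 110 b)) (Nat.ble 108 b)) (Nat.ble 104 b)) (Bool.rec (motive := fun _ => ℕ) (Bool.rec (motive := fun _ => ℕ) (Bool.rec (motive := fun _ => ℕ) (Bool.rec (motive := fun _ => ℕ) (j5_112) (j5_113) (Nat.ble 113 b)) (Bool.rec (motive := fun _ => ℕ) (j5_114) (j5_115) (Nat.ble 115 b)) (Nat.ble 114 b)) (Bool.rec (motive := fun _ => ℕ) (Bool.rec (motive := fun _ => ℕ) (j5_116) (j5_117) (Nat.ble 117 b)) (Bool.rec (motive := fun _ => ℕ) (j5_118) (j5_119) (Nat.ble 119 b)) (Nat.ble 118 b)) (Nat.ble 116 b)) (Bool.rec (motive := fun _ => ℕ) (Bool.rec (motive := fun _ =>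 ℕ) (Bool.rec (motive := fun _ => ℕ) (j5_120) (j5_121) (Nat.ble 121 b)) (Bool.rec (motive := fun _ => ℕ) (j5_122) (j5_123) (Nat.ble 123 b)) (Nat.ble 122 b)) (Bool.rec (motive := fun _ => ℕ) (Bool.rec (motive := fun _ => ℕ) (j5_124) (j5_125) (Nat.ble 125 b)) (Bool.rec (motive := fun _ => ℕ) (j5_126) (j5_127) (Nat.ble 127 b)) (Nat.ble 126 b)) (Nat.ble 124 b)) (Nat.ble 120 b)) (Nat.ble 112 b)) (Nat.ble 96 b)) (Nat.ble 64 b)) (Bool.rec (motive := fun _ => ℕ) (Bool.rec (motive := fun _ => ℕ) (Bool.rec (motive := fun _ => ℕ) (Bool.rec (motive := fun _ => ℕ) (Bool.rec (motive := fun _ => ℕ) (Bool.rec (motive := fun _ => ℕ) (Bool.rec (motive := fun _ => ℕ) (j5_128) (j5_129) (Nat.ble 129 b)) (Bool.rec (motive := fun _ => ℕ) (j5_130) (j5_131) (Nat.ble 131 b)) (Nat.ble 130 b)) (Bool.rec (motive := fun _ => ℕ) (Bool.rec (motive := fun _ => ℕ) (j5_132) (j5_133) (Nat.ble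 133 b)) (Bool.rec (motive := fun _ => ℕ) (j5_134) (j5_135) (Nat.ble 135 b)) (Nat.ble 134 b)) (Nat.ble 132 b)) (Bool.rec (motive := fun _ => ℕ) (Bool.rec (motive := fun _ => ℕ) (Bool.rec (motive := fun _ => ℕ) (j5_136) (j5_137) (Nat.ble 137 b)) (Bool.rec (motive := fun _ => ℕ) (j5_138) (j5_139) (Nat.ble 139 b)) (Nat.ble 138 b)) (Bool.rec (motive := fun _ => ℕ) (Bool.rec (motive := fun _ => ℕ) (j5_140) (j5_141) (Nat.ble 141 b)) (Bool.rec (motive := fun _ => ℕ) (j5_142) (j5_143) (Nat.ble 143 b)) (Nat.ble 142 b)) (Nat.ble 140 b)) (Nat.ble 136 b)) (Bool.rec (motive := fun _ => ℕ) (Bool.rec (motive := fun _ => ℕ) (Bool.rec (motive := fun _ => ℕ) (Bool.rec (motive := fun _ => ℕ) (j5_144) (j5_145) (Nat.ble 145 b)) (Bool.rec (motive := fun _ => ℕ) (j5_146) (j5_147) (Nat.ble 147 b)) (Nat.ble 146 b)) (Bool.rec (motive := fun _ => ℕ) (Bool.rec (motive := fun _ =>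 ℕ) (j5_148) (j5_149) (Nat.ble 149 b)) (Bool.rec (motive := fun _ => ℕ) (j5_150) (j5_151) (Nat.ble 151 b)) (Nat.ble 150 b)) (Nat.ble 148 b)) (Bool.rec (motive := fun _ => ℕ) (Bool.rec (motive := fun _ => ℕ) (Bool.rec (motive := fun _ => ℕ) (j5_152) (j5_153) (Nat.ble 153 b)) (Bool.rec (motive := fun _ => ℕ) (j5_154) (j5_155) (Nat.ble 155 b)) (Nat.ble 154 b)) (Bool.rec (motive := fun _ => ℕ) (Bool.rec (motive := fun _ => ℕ) (j5_156) (j5_157) (Nat.ble 157 b)) (Bool.rec (motive := fun _ => ℕ) (j5_158) (j5_159) (Nat.ble 159 b)) (Nat.ble 158 b)) (Nat.ble 156 b)) (Nat.ble 152 b)) (Nat.ble 144 b)) (Bool.rec (motive := fun _ => ℕ) (Bool.rec (motive := fun _ => ℕ) (Bool.rec (motive := fun _ => ℕ) (Bool.rec (motive := fun _ => ℕ) (Bool.rec (motive := fun _ => ℕ) (j5_160) (j5_161) (Nat.ble 161 b)) (Bool.rec (motive := fun _ => ℕ) (j5_162) (j5_163) (Nat.ble 163 b))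 (Nat.ble 162 b)) (Bool.rec (motive := fun _ => ℕ) (Bool.rec (motive := fun _ => ℕ) (j5_164) (j5_165) (Nat.ble 165 b)) (Bool.rec (motive := fun _ => ℕ) (j5_166) (j5_167) (Nat.ble 167 b)) (Nat.ble 166 b)) (Nat.ble 164 b)) (0) (Nat.ble 168 b)) (0) (Nat.ble 176 b)) (Nat.ble 160 b)) (0) (Nat.ble 192 b)) (Nat.ble 128 b))
noncomputable def ecol6 (b : ℕ) : ℕ := (Bool.rec (motive := fun _ => ℕ) (Bool.rec (motive := fun _ => ℕ) (Bool.rec (motive := fun _ => ℕ) (Bool.rec (motive := fun _ => ℕ) (Bool.rec (motive := fun _ => ℕ) (Bool.rec (motive := fun _ => ℕ) (Bool.rec (motive := fun _ => ℕ) (Bool.rec (motive := fun _ => ℕ) (e6_0) (e6_1) (Nat.ble 1 b)) (Bool.rec (motive := fun _ => ℕ) (e6_2) (e6_3) (Nat.ble 3 b)) (Nat.ble 2 b)) (Bool.rec (motive := fun _ => ℕ) (Bool.rec (motive := fun _ => ℕ) (e6_4) (e6_5) (Nat.ble 5 b)) (Bool.rec (motive := fun _ => ℕ) (e6_6) (e6_7)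 (Nat.ble 7 b)) (Nat.ble 6 b)) (Nat.ble 4 b)) (Bool.rec (motive := fun _ => ℕ) (Bool.rec (motive := fun _ => ℕ) (Bool.rec (motive := fun _ => ℕ) (e6_8) (e6_9) (Nat.ble 9 b)) (Bool.rec (motive := fun _ => ℕ) (e6_10) (e6_11) (Nat.ble 11 b)) (Nat.ble 10 b)) (Bool.rec (motive := fun _ => ℕ) (Bool.rec (motive := fun _ => ℕ) (e6_12) (e6_13) (Nat.ble 13 b)) (Bool.rec (motive := fun _ => ℕ) (e6_14) (e6_15) (Nat.ble 15 b)) (Nat.ble 14 b)) (Nat.ble 12 b)) (Nat.ble 8 b)) (Bool.rec (motive := fun _ => ℕ) (Bool.rec (motive := fun _ => ℕ) (Bool.rec (motive := fun _ => ℕ) (Bool.rec (motive := fun _ => ℕ) (e6_16) (e6_17) (Nat.ble 17 b)) (Bool.rec (motive := fun _ => ℕ) (e6_18) (e6_19) (Nat.ble 19 b)) (Nat.ble 18 b)) (Bool.rec (motive := fun _ => ℕ) (Bool.rec (motive := fun _ => ℕ) (e6_20) (e6_21) (Nat.ble 21 b)) (Bool.rec (motive := fun _ => ℕ) (e6_22) (e6_23) (Nat.ble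 23 b)) (Nat.ble 22 b)) (Nat.ble 20 b)) (Bool.rec (motive := fun _ => ℕ) (Bool.rec (motive := fun _ => ℕ) (Bool.rec (motive := fun _ => ℕ) (e6_24) (e6_25) (Nat.ble 25 b)) (Bool.rec (motive := fun _ => ℕ) (e6_26) (e6_27) (Nat.ble 27 b)) (Nat.ble 26 b)) (Bool.rec (motive := fun _ => ℕ) (Bool.rec (motive := fun _ => ℕ) (e6_28) (e6_29) (Nat.ble 29 b)) (Bool.rec (motive := fun _ => ℕ) (e6_30) (e6_31) (Nat.ble 31 b)) (Nat.ble 30 b)) (Nat.ble 28 b)) (Nat.ble 24 b)) (Nat.ble 16 b)) (Bool.rec (motive := fun _ => ℕ) (Bool.rec (motive := fun _ => ℕ) (Bool.rec (motive := fun _ => ℕ) (Bool.rec (motive := fun _ => ℕ) (Bool.rec (motive := fun _ => ℕ) (e6_32) (e6_33) (Nat.ble 33 b)) (Bool.rec (motive := fun _ => ℕ) (e6_34) (e6_35) (Nat.ble 35 b)) (Nat.ble 34 b)) (Bool.rec (motive := fun _ => ℕ) (Bool.rec (motive := fun _ => ℕ) (e6_36) (e6_37) (Nat.ble 37 b)) (Bool.rec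 (motive := fun _ => ℕ) (e6_38) (e6_39) (Nat.ble 39 b)) (Nat.ble 38 b)) (Nat.ble 36 b)) (Bool.rec (motive := fun _ => ℕ) (Bool.rec (motive := fun _ => ℕ) (Bool.rec (motive := fun _ => ℕ) (e6_40) (e6_41) (Nat.ble 41 b)) (Bool.rec (motive := fun _ => ℕ) (e6_42) (e6_43) (Nat.ble 43 b)) (Nat.ble 42 b)) (Bool.rec (motive := fun _ => ℕ) (Bool.rec (motive := fun _ => ℕ) (e6_44) (e6_45) (Nat.ble 45 b)) (Bool.rec (motive := fun _ => ℕ) (e6_46) (e6_47) (Nat.ble 47 b)) (Nat.ble 46 b)) (Nat.ble 44 b)) (Nat.ble 40 b)) (Bool.rec (motive := fun _ => ℕ) (Bool.rec (motive := fun _ => ℕ) (Bool.rec (motive := fun _ => ℕ) (Bool.rec (motive := fun _ => ℕ) (e6_48) (e6_49) (Nat.ble 49 b)) (Bool.rec (motive := fun _ => ℕ) (e6_50) (e6_51) (Nat.ble 51 b)) (Nat.ble 50 b)) (Bool.rec (motive := fun _ => ℕ) (Bool.rec (motive := fun _ => ℕ) (e6_52) (e6_53) (Nat.ble 53 b)) (Bool.rec (motive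 := fun _ => ℕ) (e6_54) (e6_55) (Nat.ble 55 b)) (Nat.ble 54 b)) (Nat.ble 52 b)) (Bool.rec (motive := fun _ => ℕ) (Bool.rec (motive := fun _ => ℕ) (Bool.rec (motive := fun _ => ℕ) (e6_56) (e6_57) (Nat.ble 57 b)) (Bool.rec (motive := fun _ => ℕ) (e6_58) (e6_59) (Nat.ble 59 b)) (Nat.ble 58 b)) (Bool.rec (motive := fun _ => ℕ) (Bool.rec (motive := fun _ => ℕ) (e6_60) (e6_61) (Nat.ble 61 b)) (Bool.rec (motive := fun _ => ℕ) (e6_62) (e6_63) (Nat.ble 63 b)) (Nat.ble 62 b)) (Nat.ble 60 b)) (Nat.ble 56 b)) (Nat.ble 48 b)) (Nat.ble 32 b)) (Bool.rec (motive := fun _ => ℕ) (Bool.rec (motive := fun _ => ℕ) (Bool.rec (motive := fun _ => ℕ) (Bool.rec (motive := fun _ => ℕ) (Bool.rec (motive := fun _ => ℕ) (Bool.rec (motive := fun _ => ℕ) (e6_64) (e6_65) (Nat.ble 65 b)) (Bool.rec (motive := fun _ => ℕ) (e6_66) (e6_67) (Nat.ble 67 b)) (Nat.ble 66 b)) (Bool.rec (motive :=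 fun _ => ℕ) (Bool.rec (motive := fun _ => ℕ) (e6_68) (e6_69) (Nat.ble 69 b)) (Bool.rec (motive := fun _ => ℕ) (e6_70) (e6_71) (Nat.ble 71 b)) (Nat.ble 70 b)) (Nat.ble 68 b)) (Bool.rec (motive := fun _ => ℕ) (Bool.rec (motive := fun _ => ℕ) (Bool.rec (motive := fun _ => ℕ) (e6_72) (e6_73) (Nat.ble 73 b)) (Bool.rec (motive := fun _ => ℕ) (e6_74) (e6_75) (Nat.ble 75 b)) (Nat.ble 74 b)) (Bool.rec (motive := fun _ => ℕ) (Bool.rec (motive := fun _ => ℕ) (e6_76) (e6_77) (Nat.ble 77 b)) (Bool.rec (motive := fun _ => ℕ) (e6_78) (e6_79) (Nat.ble 79 b)) (Nat.ble 78 b)) (Nat.ble 76 b)) (Nat.ble 72 b)) (Bool.rec (motive := fun _ => ℕ) (Bool.rec (motive := fun _ => ℕ) (Bool.rec (motive := fun _ => ℕ) (Bool.rec (motive := fun _ => ℕ) (e6_80) (e6_81) (Nat.ble 81 b)) (Bool.rec (motive := fun _ => ℕ) (e6_82) (e6_83) (Nat.ble 83 b)) (Nat.ble 82 b)) (Bool.rec (motive := fun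 _ => ℕ) (Bool.rec (motive := fun _ => ℕ) (e6_84) (e6_85) (Nat.ble 85 b)) (Bool.rec (motive := fun _ => ℕ) (e6_86) (e6_87) (Nat.ble 87 b)) (Nat.ble 86 b)) (Nat.ble 84 b)) (Bool.rec (motive := fun _ => ℕ) (Bool.rec (motive := fun _ => ℕ) (Bool.rec (motive := fun _ => ℕ) (e6_88) (e6_89) (Nat.ble 89 b)) (Bool.rec (motive := fun _ => ℕ) (e6_90) (e6_91) (Nat.ble 91 b)) (Nat.ble 90 b)) (Bool.rec (motive := fun _ => ℕ) (Bool.rec (motive := fun _ => ℕ) (e6_92) (e6_93) (Nat.ble 93 b)) (Bool.rec (motive := fun _ => ℕ) (e6_94) (e6_95) (Nat.ble 95 b)) (Nat.ble 94 b)) (Nat.ble 92 b)) (Nat.ble 88 b)) (Nat.ble 80 b)) (Bool.rec (motive := fun _ => ℕ) (Bool.rec (motive := fun _ => ℕ) (Bool.rec (motive := fun _ => ℕ) (Bool.rec (motive := fun _ => ℕ) (Bool.rec (motive := fun _ => ℕ) (e6_96) (e6_97) (Nat.ble 97 b)) (Bool.rec (motive := fun _ => ℕ) (e6_98) (e6_99) (Nat.ble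 99 b)) (Nat.ble 98 b)) (Bool.rec (motive := fun _ => ℕ) (Bool.rec (motive := fun _ => ℕ) (e6_100) (e6_101) (Nat.ble 101 b)) (Bool.rec (motive := fun _ => ℕ) (e6_102) (e6_103) (Nat.ble 103 b)) (Nat.ble 102 b)) (Nat.ble 100 b)) (Bool.rec (motive := fun _ => ℕ) (Bool.rec (motive := fun _ => ℕ) (Bool.rec (motive := fun _ => ℕ) (e6_104) (e6_105) (Nat.ble 105 b)) (Bool.rec (motive := fun _ => ℕ) (e6_106) (e6_107) (Nat.ble 107 b)) (Nat.ble 106 b)) (Bool.rec (motive := fun _ => ℕ) (Bool.rec (motive := fun _ => ℕ) (e6_108) (e6_109) (Nat.ble 109 b)) (Bool.rec (motive := fun _ => ℕ) (e6_110) (e6_111) (Nat.ble 111 b)) (Nat.ble 110 b)) (Nat.ble 108 b)) (Nat.ble 104 b)) (Bool.rec (motive := fun _ => ℕ) (Bool.rec (motive := fun _ => ℕ) (Bool.rec (motive := fun _ => ℕ) (Bool.rec (motive := fun _ => ℕ) (e6_112) (e6_113) (Nat.ble 113 b)) (Bool.rec (motive := fun _ => ℕ)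 (e6_114) (e6_115) (Nat.ble 115 b)) (Nat.ble 114 b)) (Bool.rec (motive := fun _ => ℕ) (Bool.rec (motive := fun _ => ℕ) (e6_116) (e6_117) (Nat.ble 117 b)) (Bool.rec (motive := fun _ => ℕ) (e6_118) (e6_119) (Nat.ble 119 b)) (Nat.ble 118 b)) (Nat.ble 116 b)) (Bool.rec (motive := fun _ => ℕ) (Bool.rec (motive := fun _ => ℕ) (Bool.rec (motive := fun _ => ℕ) (e6_120) (e6_121) (Nat.ble 121 b)) (Bool.rec (motive := fun _ => ℕ) (e6_122) (e6_123) (Nat.ble 123 b)) (Nat.ble 122 b)) (Bool.rec (motive := fun _ => ℕ) (Bool.rec (motive := fun _ => ℕ) (e6_124) (e6_125) (Nat.ble 125 b)) (Bool.rec (motive := fun _ => ℕ) (e6_126) (e6_127) (Nat.ble 127 b)) (Nat.ble 126 b)) (Nat.ble 124 b)) (Nat.ble 120 b)) (Nat.ble 112 b)) (Nat.ble 96 b)) (Nat.ble 64 b)) (Bool.rec (motive := fun _ => ℕ) (Bool.rec (motive := fun _ => ℕ) (Bool.rec (motive := fun _ => ℕ) (Bool.rec (motive := fun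 _ => ℕ) (Bool.rec (motive := fun _ => ℕ) (Bool.rec (motive := fun _ => ℕ) (Bool.rec (motive := fun _ => ℕ) (e6_128) (e6_129) (Nat.ble 129 b)) (Bool.rec (motive := fun _ => ℕ) (e6_130) (e6_131) (Nat.ble 131 b)) (Nat.ble 130 b)) (Bool.rec (motive := fun _ => ℕ) (Bool.rec (motive := fun _ => ℕ) (e6_132) (e6_133) (Nat.ble 133 b)) (Bool.rec (motive := fun _ => ℕ) (e6_134) (e6_135) (Nat.ble 135 b)) (Nat.ble 134 b)) (Nat.ble 132 b)) (Bool.rec (motive := fun _ => ℕ) (Bool.rec (motive := fun _ => ℕ) (Bool.rec (motive := fun _ => ℕ) (e6_136) (e6_137) (Nat.ble 137 b)) (Bool.rec (motive := fun _ => ℕ) (e6_138) (e6_139) (Nat.ble 139 b)) (Nat.ble 138 b)) (Bool.rec (motive := fun _ => ℕ) (Bool.rec (motive := fun _ => ℕ) (e6_140) (e6_141) (Nat.ble 141 b)) (Bool.rec (motive := fun _ => ℕ) (e6_142) (e6_143) (Nat.ble 143 b)) (Nat.ble 142 b)) (Nat.ble 140 b)) (Nat.ble 136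 b)) (Bool.rec (motive := fun _ => ℕ) (Bool.rec (motive := fun _ => ℕ) (Bool.rec (motive := fun _ => ℕ) (Bool.rec (motive := fun _ => ℕ) (e6_144) (e6_145) (Nat.ble 145 b)) (Bool.rec (motive := fun _ => ℕ) (e6_146) (e6_147) (Nat.ble 147 b)) (Nat.ble 146 b)) (Bool.rec (motive := fun _ => ℕ) (Bool.rec (motive := fun _ => ℕ) (e6_148) (e6_149) (Nat.ble 149 b)) (Bool.rec (motive := fun _ => ℕ) (e6_150) (e6_151) (Nat.ble 151 b)) (Nat.ble 150 b)) (Nat.ble 148 b)) (Bool.rec (motive := fun _ => ℕ) (Bool.rec (motive := fun _ => ℕ) (Bool.rec (motive := fun _ => ℕ) (e6_152) (e6_153) (Nat.ble 153 b)) (Bool.rec (motive := fun _ => ℕ) (e6_154) (e6_155) (Nat.ble 155 b)) (Nat.ble 154 b)) (Bool.rec (motive := fun _ => ℕ) (Bool.rec (motive := fun _ => ℕ) (e6_156) (e6_157) (Nat.ble 157 b)) (Bool.rec (motive := fun _ => ℕ) (e6_158) (e6_159) (Nat.ble 159 b)) (Nat.ble 158 b))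 (Nat.ble 156 b)) (Nat.ble 152 b)) (Nat.ble 144 b)) (Bool.rec (motive := fun _ => ℕ) (Bool.rec (motive := fun _ => ℕ) (Bool.rec (motive := fun _ => ℕ) (Bool.rec (motive := fun _ => ℕ) (Bool.rec (motive := fun _ => ℕ) (e6_160) (e6_161) (Nat.ble 161 b)) (Bool.rec (motive := fun _ => ℕ) (e6_162) (e6_163) (Nat.ble 163 b)) (Nat.ble 162 b)) (Bool.rec (motive := fun _ => ℕ) (Bool.rec (motive := fun _ => ℕ) (e6_164) (e6_165) (Nat.ble 165 b)) (Bool.rec (motive := fun _ => ℕ) (e6_166) (e6_167) (Nat.ble 167 b)) (Nat.ble 166 b)) (Nat.ble 164 b)) (0) (Nat.ble 168 b)) (0) (Nat.ble 176 b)) (Nat.ble 160 b)) (0) (Nat.ble 192 b)) (Nat.ble 128 b))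
noncomputable def jcol6 (b : ℕ) : ℕ := (Bool.rec (motive := fun _ => ℕ) (Bool.rec (motive := fun _ => ℕ) (Bool.rec (motive := fun _ => ℕ) (Bool.rec (motive := fun _ => ℕ) (Bool.rec (motive := fun _ => ℕ) (Bool.rec (motive := fun _ => ℕ) (Bool.rec (motive := fun _ => ℕ) (Bool.rec (motive := fun _ => ℕ) (j6_0) (j6_1) (Nat.ble 1 b)) (Bool.rec (motive := fun _ => ℕ) (j6_2) (j6_3) (Nat.ble 3 b)) (Nat.ble 2 b)) (Bool.rec (motive := fun _ => ℕ) (Bool.rec (motive := fun _ => ℕ) (j6_4) (j6_5) (Nat.ble 5 b)) (Bool.rec (motive := fun _ => ℕ) (j6_6) (j6_7) (Nat.ble 7 b)) (Nat.ble 6 b)) (Nat.ble 4 b)) (Bool.rec (motive := fun _ => ℕ) (Bool.rec (motive := fun _ => ℕ) (Bool.rec (motive := fun _ => ℕ) (j6_8) (j6_9) (Nat.ble 9 b)) (Bool.rec (motive := fun _ => ℕ) (j6_10) (j6_11) (Nat.ble 11 b)) (Nat.ble 10 b)) (Bool.rec (motive := fun _ => ℕ) (Bool.rec (motive := fun _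 => ℕ) (j6_12) (j6_13) (Nat.ble 13 b)) (Bool.rec (motive := fun _ => ℕ) (j6_14) (j6_15) (Nat.ble 15 b)) (Nat.ble 14 b)) (Nat.ble 12 b)) (Nat.ble 8 b)) (Bool.rec (motive := fun _ => ℕ) (Bool.rec (motive := fun _ => ℕ) (Bool.rec (motive := fun _ => ℕ) (Bool.rec (motive := fun _ => ℕ) (j6_16) (j6_17) (Nat.ble 17 b)) (Bool.rec (motive := fun _ => ℕ) (j6_18) (j6_19) (Nat.ble 19 b)) (Nat.ble 18 b)) (Bool.rec (motive := fun _ => ℕ) (Bool.rec (motive := fun _ => ℕ) (j6_20) (j6_21) (Nat.ble 21 b)) (Bool.rec (motive := fun _ => ℕ) (j6_22) (j6_23) (Nat.ble 23 b)) (Nat.ble 22 b)) (Nat.ble 20 b)) (Bool.rec (motive := fun _ => ℕ) (Bool.rec (motive := fun _ => ℕ) (Bool.rec (motive := fun _ => ℕ) (j6_24) (j6_25) (Nat.ble 25 b)) (Bool.rec (motive := fun _ => ℕ) (j6_26) (j6_27) (Nat.ble 27 b)) (Nat.ble 26 b)) (Bool.rec (motive := fun _ => ℕ) (Bool.rec (motive := fun _ =>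 ℕ) (j6_28) (j6_29) (Nat.ble 29 b)) (Bool.rec (motive := fun _ => ℕ) (j6_30) (j6_31) (Nat.ble 31 b)) (Nat.ble 30 b)) (Nat.ble 28 b)) (Nat.ble 24 b)) (Nat.ble 16 b)) (Bool.rec (motive := fun _ => ℕ) (Bool.rec (motive := fun _ => ℕ) (Bool.rec (motive := fun _ => ℕ) (Bool.rec (motive := fun _ => ℕ) (Bool.rec (motive := fun _ => ℕ) (j6_32) (j6_33) (Nat.ble 33 b)) (Bool.rec (motive := fun _ => ℕ) (j6_34) (j6_35) (Nat.ble 35 b)) (Nat.ble 34 b)) (Bool.rec (motive := fun _ => ℕ) (Bool.rec (motive := fun _ => ℕ) (j6_36) (j6_37) (Nat.ble 37 b)) (Bool.rec (motive := fun _ => ℕ) (j6_38) (j6_39) (Nat.ble 39 b)) (Nat.ble 38 b)) (Nat.ble 36 b)) (Bool.rec (motive := fun _ => ℕ) (Bool.rec (motive := fun _ => ℕ) (Bool.rec (motive := fun _ => ℕ) (j6_40) (j6_41) (Nat.ble 41 b)) (Bool.rec (motive := fun _ => ℕ) (j6_42) (j6_43) (Nat.ble 43 b)) (Nat.ble 42 b)) (Bool.rec (motive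 := fun _ => ℕ) (Bool.rec (motive := fun _ => ℕ) (j6_44) (j6_45) (Nat.ble 45 b)) (Bool.rec (motive := fun _ => ℕ) (j6_46) (j6_47) (Nat.ble 47 b)) (Nat.ble 46 b)) (Nat.ble 44 b)) (Nat.ble 40 b)) (Bool.rec (motive := fun _ => ℕ) (Bool.rec (motive := fun _ => ℕ) (Bool.rec (motive := fun _ => ℕ) (Bool.rec (motive := fun _ => ℕ) (j6_48) (j6_49) (Nat.ble 49 b)) (Bool.rec (motive := fun _ => ℕ) (j6_50) (j6_51) (Nat.ble 51 b)) (Nat.ble 50 b)) (Bool.rec (motive := fun _ => ℕ) (Bool.rec (motive := fun _ => ℕ) (j6_52) (j6_53) (Nat.ble 53 b)) (Bool.rec (motive := fun _ => ℕ) (j6_54) (j6_55) (Nat.ble 55 b)) (Nat.ble 54 b)) (Nat.ble 52 b)) (Bool.rec (motive := fun _ => ℕ) (Bool.rec (motive := fun _ => ℕ) (Bool.rec (motive := fun _ => ℕ) (j6_56) (j6_57) (Nat.ble 57 b)) (Bool.rec (motive := fun _ => ℕ) (j6_58) (j6_59) (Nat.ble 59 b)) (Nat.ble 58 b)) (Bool.rec (motive :=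 fun _ => ℕ) (Bool.rec (motive := fun _ => ℕ) (j6_60) (j6_61) (Nat.ble 61 b)) (Bool.rec (motive := fun _ => ℕ) (j6_62) (j6_63) (Nat.ble 63 b)) (Nat.ble 62 b)) (Nat.ble 60 b)) (Nat.ble 56 b)) (Nat.ble 48 b)) (Nat.ble 32 b)) (Bool.rec (motive := fun _ => ℕ) (Bool.rec (motive := fun _ => ℕ) (Bool.rec (motive := fun _ => ℕ) (Bool.rec (motive := fun _ => ℕ) (Bool.rec (motive := fun _ => ℕ) (Bool.rec (motive := fun _ => ℕ) (j6_64) (j6_65) (Nat.ble 65 b)) (Bool.rec (motive := fun _ => ℕ) (j6_66) (j6_67) (Nat.ble 67 b)) (Nat.ble 66 b)) (Bool.rec (motive := fun _ => ℕ) (Bool.rec (motive := fun _ => ℕ) (j6_68) (j6_69) (Nat.ble 69 b)) (Bool.rec (motive := fun _ => ℕ) (j6_70) (j6_71) (Nat.ble 71 b)) (Nat.ble 70 b)) (Nat.ble 68 b)) (Bool.rec (motive := fun _ => ℕ) (Bool.rec (motive := fun _ => ℕ) (Bool.rec (motive := fun _ => ℕ) (j6_72) (j6_73) (Nat.ble 73 b)) (Bool.rec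 (motive := fun _ => ℕ) (j6_74) (j6_75) (Nat.ble 75 b)) (Nat.ble 74 b)) (Bool.rec (motive := fun _ => ℕ) (Bool.rec (motive := fun _ => ℕ) (j6_76) (j6_77) (Nat.ble 77 b)) (Bool.rec (motive := fun _ => ℕ) (j6_78) (j6_79) (Nat.ble 79 b)) (Nat.ble 78 b)) (Nat.ble 76 b)) (Nat.ble 72 b)) (Bool.rec (motive := fun _ => ℕ) (Bool.rec (motive := fun _ => ℕ) (Bool.rec (motive := fun _ => ℕ) (Bool.rec (motive := fun _ => ℕ) (j6_80) (j6_81) (Nat.ble 81 b)) (Bool.rec (motive := fun _ => ℕ) (j6_82) (j6_83) (Nat.ble 83 b)) (Nat.ble 82 b)) (Bool.rec (motive := fun _ => ℕ) (Bool.rec (motive := fun _ => ℕ) (j6_84) (j6_85) (Nat.ble 85 b)) (Bool.rec (motive := fun _ => ℕ) (j6_86) (j6_87) (Nat.ble 87 b)) (Nat.ble 86 b)) (Nat.ble 84 b)) (Bool.rec (motive := fun _ => ℕ) (Bool.rec (motive := fun _ => ℕ) (Bool.rec (motive := fun _ => ℕ) (j6_88) (j6_89) (Nat.ble 89 b)) (Bool.rec (motive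 := fun _ => ℕ) (j6_90) (j6_91) (Nat.ble 91 b)) (Nat.ble 90 b)) (Bool.rec (motive := fun _ => ℕ) (Bool.rec (motive := fun _ => ℕ) (j6_92) (j6_93) (Nat.ble 93 b)) (Bool.rec (motive := fun _ => ℕ) (j6_94) (j6_95) (Nat.ble 95 b)) (Nat.ble 94 b)) (Nat.ble 92 b)) (Nat.ble 88 b)) (Nat.ble 80 b)) (Bool.rec (motive := fun _ => ℕ) (Bool.rec (motive := fun _ => ℕ) (Bool.rec (motive := fun _ => ℕ) (Bool.rec (motive := fun _ => ℕ) (Bool.rec (motive := fun _ => ℕ) (j6_96) (j6_97) (Nat.ble 97 b)) (Bool.rec (motive := fun _ => ℕ) (j6_98) (j6_99) (Nat.ble 99 b)) (Nat.ble 98 b)) (Bool.rec (motive := fun _ => ℕ) (Bool.rec (motive := fun _ => ℕ) (j6_100) (j6_101) (Nat.ble 101 b)) (Bool.rec (motive := fun _ => ℕ) (j6_102) (j6_103) (Nat.ble 103 b)) (Nat.ble 102 b)) (Nat.ble 100 b)) (Bool.rec (motive := fun _ => ℕ) (Bool.rec (motive := fun _ => ℕ) (Bool.rec (motive := fun _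 => ℕ) (j6_104) (j6_105) (Nat.ble 105 b)) (Bool.rec (motive := fun _ => ℕ) (j6_106) (j6_107) (Nat.ble 107 b)) (Nat.ble 106 b)) (Bool.rec (motive := fun _ => ℕ) (Bool.rec (motive := fun _ => ℕ) (j6_108) (j6_109) (Nat.ble 109 b)) (Bool.rec (motive := fun _ => ℕ) (j6_110) (j6_111) (Nat.ble 111 b)) (Nat.ble 110 b)) (Nat.ble 108 b)) (Nat.ble 104 b)) (Bool.rec (motive := fun _ => ℕ) (Bool.rec (motive := fun _ => ℕ) (Bool.rec (motive := fun _ => ℕ) (Bool.rec (motive := fun _ => ℕ) (j6_112) (j6_113) (Nat.ble 113 b)) (Bool.rec (motive := fun _ => ℕ) (j6_114) (j6_115) (Nat.ble 115 b)) (Nat.ble 114 b)) (Bool.rec (motive := fun _ => ℕ) (Bool.rec (motive := fun _ => ℕ) (j6_116) (j6_117) (Nat.ble 117 b)) (Bool.rec (motive := fun _ => ℕ) (j6_118) (j6_119) (Nat.ble 119 b)) (Nat.ble 118 b)) (Nat.ble 116 b)) (Bool.rec (motive := fun _ => ℕ) (Bool.rec (motive := fun _ =>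 ℕ) (Bool.rec (motive := fun _ => ℕ) (j6_120) (j6_121) (Nat.ble 121 b)) (Bool.rec (motive := fun _ => ℕ) (j6_122) (j6_123) (Nat.ble 123 b)) (Nat.ble 122 b)) (Bool.rec (motive := fun _ => ℕ) (Bool.rec (motive := fun _ => ℕ) (j6_124) (j6_125) (Nat.ble 125 b)) (Bool.rec (motive := fun _ => ℕ) (j6_126) (j6_127) (Nat.ble 127 b)) (Nat.ble 126 b)) (Nat.ble 124 b)) (Nat.ble 120 b)) (Nat.ble 112 b)) (Nat.ble 96 b)) (Nat.ble 64 b)) (Bool.rec (motive := fun _ => ℕ) (Bool.rec (motive := fun _ => ℕ) (Bool.rec (motive := fun _ => ℕ) (Bool.rec (motive := fun _ => ℕ) (Bool.rec (motive := fun _ => ℕ) (Bool.rec (motive := fun _ => ℕ) (Bool.rec (motive := fun _ => ℕ) (j6_128) (j6_129) (Nat.ble 129 b)) (Bool.rec (motive := fun _ => ℕ) (j6_130) (j6_131) (Nat.ble 131 b)) (Nat.ble 130 b)) (Bool.rec (motive := fun _ => ℕ) (Bool.rec (motive := fun _ => ℕ) (j6_132) (j6_133) (Nat.ble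 133 b)) (Bool.rec (motive := fun _ => ℕ) (j6_134) (j6_135) (Nat.ble 135 b)) (Nat.ble 134 b)) (Nat.ble 132 b)) (Bool.rec (motive := fun _ => ℕ) (Bool.rec (motive := fun _ => ℕ) (Bool.rec (motive := fun _ => ℕ) (j6_136) (j6_137) (Nat.ble 137 b)) (Bool.rec (motive := fun _ => ℕ) (j6_138) (j6_139) (Nat.ble 139 b)) (Nat.ble 138 b)) (Bool.rec (motive := fun _ => ℕ) (Bool.rec (motive := fun _ => ℕ) (j6_140) (j6_141) (Nat.ble 141 b)) (Bool.rec (motive := fun _ => ℕ) (j6_142) (j6_143) (Nat.ble 143 b)) (Nat.ble 142 b)) (Nat.ble 140 b)) (Nat.ble 136 b)) (Bool.rec (motive := fun _ => ℕ) (Bool.rec (motive := fun _ => ℕ) (Bool.rec (motive := fun _ => ℕ) (Bool.rec (motive := fun _ => ℕ) (j6_144) (j6_145) (Nat.ble 145 b)) (Bool.rec (motive := fun _ => ℕ) (j6_146) (j6_147) (Nat.ble 147 b)) (Nat.ble 146 b)) (Bool.rec (motive := fun _ => ℕ) (Bool.rec (motive := fun _ =>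 ℕ) (j6_148) (j6_149) (Nat.ble 149 b)) (Bool.rec (motive := fun _ => ℕ) (j6_150) (j6_151) (Nat.ble 151 b)) (Nat.ble 150 b)) (Nat.ble 148 b)) (Bool.rec (motive := fun _ => ℕ) (Bool.rec (motive := fun _ => ℕ) (Bool.rec (motive := fun _ => ℕ) (j6_152) (j6_153) (Nat.ble 153 b)) (Bool.rec (motive := fun _ => ℕ) (j6_154) (j6_155) (Nat.ble 155 b)) (Nat.ble 154 b)) (Bool.rec (motive := fun _ => ℕ) (Bool.rec (motive := fun _ => ℕ) (j6_156) (j6_157) (Nat.ble 157 b)) (Bool.rec (motive := fun _ => ℕ) (j6_158) (j6_159) (Nat.ble 159 b)) (Nat.ble 158 b)) (Nat.ble 156 b)) (Nat.ble 152 b)) (Nat.ble 144 b)) (Bool.rec (motive := fun _ => ℕ) (Bool.rec (motive := fun _ => ℕ) (Bool.rec (motive := fun _ => ℕ) (Bool.rec (motive := fun _ => ℕ) (Bool.rec (motive := fun _ => ℕ) (j6_160) (j6_161) (Nat.ble 161 b)) (Bool.rec (motive := fun _ => ℕ) (j6_162) (j6_163) (Nat.ble 163 b))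 (Nat.ble 162 b)) (Bool.rec (motive := fun _ => ℕ) (Bool.rec (motive := fun _ => ℕ) (j6_164) (j6_165) (Nat.ble 165 b)) (Bool.rec (motive := fun _ => ℕ) (j6_166) (j6_167) (Nat.ble 167 b)) (Nat.ble 166 b)) (Nat.ble 164 b)) (0) (Nat.ble 168 b)) (0) (Nat.ble 176 b)) (Nat.ble 160 b)) (0) (Nat.ble 192 b)) (Nat.ble 128 b))
noncomputable def ecol7 (b : ℕ) : ℕ := (Bool.rec (motive := fun _ => ℕ) (Bool.rec (motive := fun _ => ℕ) (Bool.rec (motive := fun _ => ℕ) (Bool.rec (motive := fun _ => ℕ) (Bool.rec (motive := fun _ => ℕ) (Bool.rec (motive := fun _ => ℕ) (Bool.rec (motive := fun _ => ℕ) (Bool.rec (motive := fun _ => ℕ) (e7_0) (e7_1) (Nat.ble 1 b)) (Bool.rec (motive := fun _ => ℕ) (e7_2) (e7_3) (Nat.ble 3 b)) (Nat.ble 2 b)) (Bool.rec (motive := fun _ => ℕ) (Bool.rec (motive := fun _ => ℕ) (e7_4) (e7_5) (Nat.ble 5 b)) (Bool.rec (motive := fun _ => ℕ) (e7_6) (e7_7)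 (Nat.ble 7 b)) (Nat.ble 6 b)) (Nat.ble 4 b)) (Bool.rec (motive := fun _ => ℕ) (Bool.rec (motive := fun _ => ℕ) (Bool.rec (motive := fun _ => ℕ) (e7_8) (e7_9) (Nat.ble 9 b)) (Bool.rec (motive := fun _ => ℕ) (e7_10) (e7_11) (Nat.ble 11 b)) (Nat.ble 10 b)) (Bool.rec (motive := fun _ => ℕ) (Bool.rec (motive := fun _ => ℕ) (e7_12) (e7_13) (Nat.ble 13 b)) (Bool.rec (motive := fun _ => ℕ) (e7_14) (e7_15) (Nat.ble 15 b)) (Nat.ble 14 b)) (Nat.ble 12 b)) (Nat.ble 8 b)) (Bool.rec (motive := fun _ => ℕ) (Bool.rec (motive := fun _ => ℕ) (Bool.rec (motive := fun _ => ℕ) (Bool.rec (motive := fun _ => ℕ) (e7_16) (e7_17) (Nat.ble 17 b)) (Bool.rec (motive := fun _ => ℕ) (e7_18) (e7_19) (Nat.ble 19 b)) (Nat.ble 18 b)) (Bool.rec (motive := fun _ => ℕ) (Bool.rec (motive := fun _ => ℕ) (e7_20) (e7_21) (Nat.ble 21 b)) (Bool.rec (motive := fun _ => ℕ) (e7_22) (e7_23) (Nat.ble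 23 b)) (Nat.ble 22 b)) (Nat.ble 20 b)) (Bool.rec (motive := fun _ => ℕ) (Bool.rec (motive := fun _ => ℕ) (Bool.rec (motive := fun _ => ℕ) (e7_24) (e7_25) (Nat.ble 25 b)) (Bool.rec (motive := fun _ => ℕ) (e7_26) (e7_27) (Nat.ble 27 b)) (Nat.ble 26 b)) (Bool.rec (motive := fun _ => ℕ) (Bool.rec (motive := fun _ => ℕ) (e7_28) (e7_29) (Nat.ble 29 b)) (Bool.rec (motive := fun _ => ℕ) (e7_30) (e7_31) (Nat.ble 31 b)) (Nat.ble 30 b)) (Nat.ble 28 b)) (Nat.ble 24 b)) (Nat.ble 16 b)) (Bool.rec (motive := fun _ => ℕ) (Bool.rec (motive := fun _ => ℕ) (Bool.rec (motive := fun _ => ℕ) (Bool.rec (motive := fun _ => ℕ) (Bool.rec (motive := fun _ => ℕ) (e7_32) (e7_33) (Nat.ble 33 b)) (Bool.rec (motive := fun _ => ℕ) (e7_34) (e7_35) (Nat.ble 35 b)) (Nat.ble 34 b)) (Bool.rec (motive := fun _ => ℕ) (Bool.rec (motive := fun _ => ℕ) (e7_36) (e7_37) (Nat.ble 37 b)) (Bool.rec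 (motive := fun _ => ℕ) (e7_38) (e7_39) (Nat.ble 39 b)) (Nat.ble 38 b)) (Nat.ble 36 b)) (Bool.rec (motive := fun _ => ℕ) (Bool.rec (motive := fun _ => ℕ) (Bool.rec (motive := fun _ => ℕ) (e7_40) (e7_41) (Nat.ble 41 b)) (Bool.rec (motive := fun _ => ℕ) (e7_42) (e7_43) (Nat.ble 43 b)) (Nat.ble 42 b)) (Bool.rec (motive := fun _ => ℕ) (Bool.rec (motive := fun _ => ℕ) (e7_44) (e7_45) (Nat.ble 45 b)) (Bool.rec (motive := fun _ => ℕ) (e7_46) (e7_47) (Nat.ble 47 b)) (Nat.ble 46 b)) (Nat.ble 44 b)) (Nat.ble 40 b)) (Bool.rec (motive := fun _ => ℕ) (Bool.rec (motive := fun _ => ℕ) (Bool.rec (motive := fun _ => ℕ) (Bool.rec (motive := fun _ => ℕ) (e7_48) (e7_49) (Nat.ble 49 b)) (Bool.rec (motive := fun _ => ℕ) (e7_50) (e7_51) (Nat.ble 51 b)) (Nat.ble 50 b)) (Bool.rec (motive := fun _ => ℕ) (Bool.rec (motive := fun _ => ℕ) (e7_52) (e7_53) (Nat.ble 53 b)) (Bool.rec (motive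 := fun _ => ℕ) (e7_54) (e7_55) (Nat.ble 55 b)) (Nat.ble 54 b)) (Nat.ble 52 b)) (Bool.rec (motive := fun _ => ℕ) (Bool.rec (motive := fun _ => ℕ) (Bool.rec (motive := fun _ => ℕ) (e7_56) (e7_57) (Nat.ble 57 b)) (Bool.rec (motive := fun _ => ℕ) (e7_58) (e7_59) (Nat.ble 59 b)) (Nat.ble 58 b)) (Bool.rec (motive := fun _ => ℕ) (Bool.rec (motive := fun _ => ℕ) (e7_60) (e7_61) (Nat.ble 61 b)) (Bool.rec (motive := fun _ => ℕ) (e7_62) (e7_63) (Nat.ble 63 b)) (Nat.ble 62 b)) (Nat.ble 60 b)) (Nat.ble 56 b)) (Nat.ble 48 b)) (Nat.ble 32 b)) (Bool.rec (motive := fun _ => ℕ) (Bool.rec (motive := fun _ => ℕ) (Bool.rec (motive := fun _ => ℕ) (Bool.rec (motive := fun _ => ℕ) (Bool.rec (motive := fun _ => ℕ) (Bool.rec (motive := fun _ => ℕ) (e7_64) (e7_65) (Nat.ble 65 b)) (Bool.rec (motive := fun _ => ℕ) (e7_66) (e7_67) (Nat.ble 67 b)) (Nat.ble 66 b)) (Bool.rec (motive :=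 fun _ => ℕ) (Bool.rec (motive := fun _ => ℕ) (e7_68) (e7_69) (Nat.ble 69 b)) (Bool.rec (motive := fun _ => ℕ) (e7_70) (e7_71) (Nat.ble 71 b)) (Nat.ble 70 b)) (Nat.ble 68 b)) (Bool.rec (motive := fun _ => ℕ) (Bool.rec (motive := fun _ => ℕ) (Bool.rec (motive := fun _ => ℕ) (e7_72) (e7_73) (Nat.ble 73 b)) (Bool.rec (motive := fun _ => ℕ) (e7_74) (e7_75) (Nat.ble 75 b)) (Nat.ble 74 b)) (Bool.rec (motive := fun _ => ℕ) (Bool.rec (motive := fun _ => ℕ) (e7_76) (e7_77) (Nat.ble 77 b)) (Bool.rec (motive := fun _ => ℕ) (e7_78) (e7_79) (Nat.ble 79 b)) (Nat.ble 78 b)) (Nat.ble 76 b)) (Nat.ble 72 b)) (Bool.rec (motive := fun _ => ℕ) (Bool.rec (motive := fun _ => ℕ) (Bool.rec (motive := fun _ => ℕ) (Bool.rec (motive := fun _ => ℕ) (e7_80) (e7_81) (Nat.ble 81 b)) (Bool.rec (motive := fun _ => ℕ) (e7_82) (e7_83) (Nat.ble 83 b)) (Nat.ble 82 b)) (Bool.rec (motive := fun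 _ => ℕ) (Bool.rec (motive := fun _ => ℕ) (e7_84) (e7_85) (Nat.ble 85 b)) (Bool.rec (motive := fun _ => ℕ) (e7_86) (e7_87) (Nat.ble 87 b)) (Nat.ble 86 b)) (Nat.ble 84 b)) (Bool.rec (motive := fun _ => ℕ) (Bool.rec (motive := fun _ => ℕ) (Bool.rec (motive := fun _ => ℕ) (e7_88) (e7_89) (Nat.ble 89 b)) (Bool.rec (motive := fun _ => ℕ) (e7_90) (e7_91) (Nat.ble 91 b)) (Nat.ble 90 b)) (Bool.rec (motive := fun _ => ℕ) (Bool.rec (motive := fun _ => ℕ) (e7_92) (e7_93) (Nat.ble 93 b)) (Bool.rec (motive := fun _ => ℕ) (e7_94) (e7_95) (Nat.ble 95 b)) (Nat.ble 94 b)) (Nat.ble 92 b)) (Nat.ble 88 b)) (Nat.ble 80 b)) (Bool.rec (motive := fun _ => ℕ) (Bool.rec (motive := fun _ => ℕ) (Bool.rec (motive := fun _ => ℕ) (Bool.rec (motive := fun _ => ℕ) (Bool.rec (motive := fun _ => ℕ) (e7_96) (e7_97) (Nat.ble 97 b)) (Bool.rec (motive := fun _ => ℕ) (e7_98) (e7_99) (Nat.ble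 99 b)) (Nat.ble 98 b)) (Bool.rec (motive := fun _ => ℕ) (Bool.rec (motive := fun _ => ℕ) (e7_100) (e7_101) (Nat.ble 101 b)) (Bool.rec (motive := fun _ => ℕ) (e7_102) (e7_103) (Nat.ble 103 b)) (Nat.ble 102 b)) (Nat.ble 100 b)) (Bool.rec (motive := fun _ => ℕ) (Bool.rec (motive := fun _ => ℕ) (Bool.rec (motive := fun _ => ℕ) (e7_104) (e7_105) (Nat.ble 105 b)) (Bool.rec (motive := fun _ => ℕ) (e7_106) (e7_107) (Nat.ble 107 b)) (Nat.ble 106 b)) (Bool.rec (motive := fun _ => ℕ) (Bool.rec (motive := fun _ => ℕ) (e7_108) (e7_109) (Nat.ble 109 b)) (Bool.rec (motive := fun _ => ℕ) (e7_110) (e7_111) (Nat.ble 111 b)) (Nat.ble 110 b)) (Nat.ble 108 b)) (Nat.ble 104 b)) (Bool.rec (motive := fun _ => ℕ) (Bool.rec (motive := fun _ => ℕ) (Bool.rec (motive := fun _ => ℕ) (Bool.rec (motive := fun _ => ℕ) (e7_112) (e7_113) (Nat.ble 113 b)) (Bool.rec (motive := fun _ => ℕ)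 (e7_114) (e7_115) (Nat.ble 115 b)) (Nat.ble 114 b)) (Bool.rec (motive := fun _ => ℕ) (Bool.rec (motive := fun _ => ℕ) (e7_116) (e7_117) (Nat.ble 117 b)) (Bool.rec (motive := fun _ => ℕ) (e7_118) (e7_119) (Nat.ble 119 b)) (Nat.ble 118 b)) (Nat.ble 116 b)) (Bool.rec (motive := fun _ => ℕ) (Bool.rec (motive := fun _ => ℕ) (Bool.rec (motive := fun _ => ℕ) (e7_120) (e7_121) (Nat.ble 121 b)) (Bool.rec (motive := fun _ => ℕ) (e7_122) (e7_123) (Nat.ble 123 b)) (Nat.ble 122 b)) (Bool.rec (motive := fun _ => ℕ) (Bool.rec (motive := fun _ => ℕ) (e7_124) (e7_125) (Nat.ble 125 b)) (Bool.rec (motive := fun _ => ℕ) (e7_126) (e7_127) (Nat.ble 127 b)) (Nat.ble 126 b)) (Nat.ble 124 b)) (Nat.ble 120 b)) (Nat.ble 112 b)) (Nat.ble 96 b)) (Nat.ble 64 b)) (Bool.rec (motive := fun _ => ℕ) (Bool.rec (motive := fun _ => ℕ) (Bool.rec (motive := fun _ => ℕ) (Bool.rec (motive := fun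 _ => ℕ) (Bool.rec (motive := fun _ => ℕ) (Bool.rec (motive := fun _ => ℕ) (Bool.rec (motive := fun _ => ℕ) (e7_128) (e7_129) (Nat.ble 129 b)) (Bool.rec (motive := fun _ => ℕ) (e7_130) (e7_131) (Nat.ble 131 b)) (Nat.ble 130 b)) (Bool.rec (motive := fun _ => ℕ) (Bool.rec (motive := fun _ => ℕ) (e7_132) (e7_133) (Nat.ble 133 b)) (Bool.rec (motive := fun _ => ℕ) (e7_134) (e7_135) (Nat.ble 135 b)) (Nat.ble 134 b)) (Nat.ble 132 b)) (Bool.rec (motive := fun _ => ℕ) (Bool.rec (motive := fun _ => ℕ) (Bool.rec (motive := fun _ => ℕ) (e7_136) (e7_137) (Nat.ble 137 b)) (Bool.rec (motive := fun _ => ℕ) (e7_138) (e7_139) (Nat.ble 139 b)) (Nat.ble 138 b)) (Bool.rec (motive := fun _ => ℕ) (Bool.rec (motive := fun _ => ℕ) (e7_140) (e7_141) (Nat.ble 141 b)) (Bool.rec (motive := fun _ => ℕ) (e7_142) (e7_143) (Nat.ble 143 b)) (Nat.ble 142 b)) (Nat.ble 140 b)) (Nat.ble 136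 b)) (Bool.rec (motive := fun _ => ℕ) (Bool.rec (motive := fun _ => ℕ) (Bool.rec (motive := fun _ => ℕ) (Bool.rec (motive := fun _ => ℕ) (e7_144) (e7_145) (Nat.ble 145 b)) (Bool.rec (motive := fun _ => ℕ) (e7_146) (e7_147) (Nat.ble 147 b)) (Nat.ble 146 b)) (Bool.rec (motive := fun _ => ℕ) (Bool.rec (motive := fun _ => ℕ) (e7_148) (e7_149) (Nat.ble 149 b)) (Bool.rec (motive := fun _ => ℕ) (e7_150) (e7_151) (Nat.ble 151 b)) (Nat.ble 150 b)) (Nat.ble 148 b)) (Bool.rec (motive := fun _ => ℕ) (Bool.rec (motive := fun _ => ℕ) (Bool.rec (motive := fun _ => ℕ) (e7_152) (e7_153) (Nat.ble 153 b)) (Bool.rec (motive := fun _ => ℕ) (e7_154) (e7_155) (Nat.ble 155 b)) (Nat.ble 154 b)) (Bool.rec (motive := fun _ => ℕ) (Bool.rec (motive := fun _ => ℕ) (e7_156) (e7_157) (Nat.ble 157 b)) (Bool.rec (motive := fun _ => ℕ) (e7_158) (e7_159) (Nat.ble 159 b)) (Nat.ble 158 b))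 (Nat.ble 156 b)) (Nat.ble 152 b)) (Nat.ble 144 b)) (Bool.rec (motive := fun _ => ℕ) (Bool.rec (motive := fun _ => ℕ) (Bool.rec (motive := fun _ => ℕ) (Bool.rec (motive := fun _ => ℕ) (Bool.rec (motive := fun _ => ℕ) (e7_160) (e7_161) (Nat.ble 161 b)) (Bool.rec (motive := fun _ => ℕ) (e7_162) (e7_163) (Nat.ble 163 b)) (Nat.ble 162 b)) (Bool.rec (motive := fun _ => ℕ) (Bool.rec (motive := fun _ => ℕ) (e7_164) (e7_165) (Nat.ble 165 b)) (Bool.rec (motive := fun _ => ℕ) (e7_166) (e7_167) (Nat.ble 167 b)) (Nat.ble 166 b)) (Nat.ble 164 b)) (0) (Nat.ble 168 b)) (0) (Nat.ble 176 b)) (Nat.ble 160 b)) (0) (Nat.ble 192 b)) (Nat.ble 128 b))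
noncomputable def jcol7 (b : ℕ) : ℕ := (Bool.rec (motive := fun _ => ℕ) (Bool.rec (motive := fun _ => ℕ) (Bool.rec (motive := fun _ => ℕ) (Bool.rec (motive := fun _ => ℕ) (Bool.rec (motive := fun _ => ℕ) (Bool.rec (motive := fun _ => ℕ) (Bool.rec (motive := fun _ => ℕ) (Bool.rec (motive := fun _ => ℕ) (j7_0) (j7_1) (Nat.ble 1 b)) (Bool.rec (motive := fun _ => ℕ) (j7_2) (j7_3) (Nat.ble 3 b)) (Nat.ble 2 b)) (Bool.rec (motive := fun _ => ℕ) (Bool.rec (motive := fun _ => ℕ) (j7_4) (j7_5) (Nat.ble 5 b)) (Bool.rec (motive := fun _ => ℕ) (j7_6) (j7_7) (Nat.ble 7 b)) (Nat.ble 6 b)) (Nat.ble 4 b)) (Bool.rec (motive := fun _ => ℕ) (Bool.rec (motive := fun _ => ℕ) (Bool.rec (motive := fun _ => ℕ) (j7_8) (j7_9) (Nat.ble 9 b)) (Bool.rec (motive := fun _ => ℕ) (j7_10) (j7_11) (Nat.ble 11 b)) (Nat.ble 10 b)) (Bool.rec (motive := fun _ => ℕ) (Bool.rec (motive := fun _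 => ℕ) (j7_12) (j7_13) (Nat.ble 13 b)) (Bool.rec (motive := fun _ => ℕ) (j7_14) (j7_15) (Nat.ble 15 b)) (Nat.ble 14 b)) (Nat.ble 12 b)) (Nat.ble 8 b)) (Bool.rec (motive := fun _ => ℕ) (Bool.rec (motive := fun _ => ℕ) (Bool.rec (motive := fun _ => ℕ) (Bool.rec (motive := fun _ => ℕ) (j7_16) (j7_17) (Nat.ble 17 b)) (Bool.rec (motive := fun _ => ℕ) (j7_18) (j7_19) (Nat.ble 19 b)) (Nat.ble 18 b)) (Bool.rec (motive := fun _ => ℕ) (Bool.rec (motive := fun _ => ℕ) (j7_20) (j7_21) (Nat.ble 21 b)) (Bool.rec (motive := fun _ => ℕ) (j7_22) (j7_23) (Nat.ble 23 b)) (Nat.ble 22 b)) (Nat.ble 20 b)) (Bool.rec (motive := fun _ => ℕ) (Bool.rec (motive := fun _ => ℕ) (Bool.rec (motive := fun _ => ℕ) (j7_24) (j7_25) (Nat.ble 25 b)) (Bool.rec (motive := fun _ => ℕ) (j7_26) (j7_27) (Nat.ble 27 b)) (Nat.ble 26 b)) (Bool.rec (motive := fun _ => ℕ) (Bool.rec (motive := fun _ =>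 ℕ) (j7_28) (j7_29) (Nat.ble 29 b)) (Bool.rec (motive := fun _ => ℕ) (j7_30) (j7_31) (Nat.ble 31 b)) (Nat.ble 30 b)) (Nat.ble 28 b)) (Nat.ble 24 b)) (Nat.ble 16 b)) (Bool.rec (motive := fun _ => ℕ) (Bool.rec (motive := fun _ => ℕ) (Bool.rec (motive := fun _ => ℕ) (Bool.rec (motive := fun _ => ℕ) (Bool.rec (motive := fun _ => ℕ) (j7_32) (j7_33) (Nat.ble 33 b)) (Bool.rec (motive := fun _ => ℕ) (j7_34) (j7_35) (Nat.ble 35 b)) (Nat.ble 34 b)) (Bool.rec (motive := fun _ => ℕ) (Bool.rec (motive := fun _ => ℕ) (j7_36) (j7_37) (Nat.ble 37 b)) (Bool.rec (motive := fun _ => ℕ) (j7_38) (j7_39) (Nat.ble 39 b)) (Nat.ble 38 b)) (Nat.ble 36 b)) (Bool.rec (motive := fun _ => ℕ) (Bool.rec (motive := fun _ => ℕ) (Bool.rec (motive := fun _ => ℕ) (j7_40) (j7_41) (Nat.ble 41 b)) (Bool.rec (motive := fun _ => ℕ) (j7_42) (j7_43) (Nat.ble 43 b)) (Nat.ble 42 b)) (Bool.rec (motive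 := fun _ => ℕ) (Bool.rec (motive := fun _ => ℕ) (j7_44) (j7_45) (Nat.ble 45 b)) (Bool.rec (motive := fun _ => ℕ) (j7_46) (j7_47) (Nat.ble 47 b)) (Nat.ble 46 b)) (Nat.ble 44 b)) (Nat.ble 40 b)) (Bool.rec (motive := fun _ => ℕ) (Bool.rec (motive := fun _ => ℕ) (Bool.rec (motive := fun _ => ℕ) (Bool.rec (motive := fun _ => ℕ) (j7_48) (j7_49) (Nat.ble 49 b)) (Bool.rec (motive := fun _ => ℕ) (j7_50) (j7_51) (Nat.ble 51 b)) (Nat.ble 50 b)) (Bool.rec (motive := fun _ => ℕ) (Bool.rec (motive := fun _ => ℕ) (j7_52) (j7_53) (Nat.ble 53 b)) (Bool.rec (motive := fun _ => ℕ) (j7_54) (j7_55) (Nat.ble 55 b)) (Nat.ble 54 b)) (Nat.ble 52 b)) (Bool.rec (motive := fun _ => ℕ) (Bool.rec (motive := fun _ => ℕ) (Bool.rec (motive := fun _ => ℕ) (j7_56) (j7_57) (Nat.ble 57 b)) (Bool.rec (motive := fun _ => ℕ) (j7_58) (j7_59) (Nat.ble 59 b)) (Nat.ble 58 b)) (Bool.rec (motive :=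 fun _ => ℕ) (Bool.rec (motive := fun _ => ℕ) (j7_60) (j7_61) (Nat.ble 61 b)) (Bool.rec (motive := fun _ => ℕ) (j7_62) (j7_63) (Nat.ble 63 b)) (Nat.ble 62 b)) (Nat.ble 60 b)) (Nat.ble 56 b)) (Nat.ble 48 b)) (Nat.ble 32 b)) (Bool.rec (motive := fun _ => ℕ) (Bool.rec (motive := fun _ => ℕ) (Bool.rec (motive := fun _ => ℕ) (Bool.rec (motive := fun _ => ℕ) (Bool.rec (motive := fun _ => ℕ) (Bool.rec (motive := fun _ => ℕ) (j7_64) (j7_65) (Nat.ble 65 b)) (Bool.rec (motive := fun _ => ℕ) (j7_66) (j7_67) (Nat.ble 67 b)) (Nat.ble 66 b)) (Bool.rec (motive := fun _ => ℕ) (Bool.rec (motive := fun _ => ℕ) (j7_68) (j7_69) (Nat.ble 69 b)) (Bool.rec (motive := fun _ => ℕ) (j7_70) (j7_71) (Nat.ble 71 b)) (Nat.ble 70 b)) (Nat.ble 68 b)) (Bool.rec (motive := fun _ => ℕ) (Bool.rec (motive := fun _ => ℕ) (Bool.rec (motive := fun _ => ℕ) (j7_72) (j7_73) (Nat.ble 73 b)) (Bool.rec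 (motive := fun _ => ℕ) (j7_74) (j7_75) (Nat.ble 75 b)) (Nat.ble 74 b)) (Bool.rec (motive := fun _ => ℕ) (Bool.rec (motive := fun _ => ℕ) (j7_76) (j7_77) (Nat.ble 77 b)) (Bool.rec (motive := fun _ => ℕ) (j7_78) (j7_79) (Nat.ble 79 b)) (Nat.ble 78 b)) (Nat.ble 76 b)) (Nat.ble 72 b)) (Bool.rec (motive := fun _ => ℕ) (Bool.rec (motive := fun _ => ℕ) (Bool.rec (motive := fun _ => ℕ) (Bool.rec (motive := fun _ => ℕ) (j7_80) (j7_81) (Nat.ble 81 b)) (Bool.rec (motive := fun _ => ℕ) (j7_82) (j7_83) (Nat.ble 83 b)) (Nat.ble 82 b)) (Bool.rec (motive := fun _ => ℕ) (Bool.rec (motive := fun _ => ℕ) (j7_84) (j7_85) (Nat.ble 85 b)) (Bool.rec (motive := fun _ => ℕ) (j7_86) (j7_87) (Nat.ble 87 b)) (Nat.ble 86 b)) (Nat.ble 84 b)) (Bool.rec (motive := fun _ => ℕ) (Bool.rec (motive := fun _ => ℕ) (Bool.rec (motive := fun _ => ℕ) (j7_88) (j7_89) (Nat.ble 89 b)) (Bool.rec (motive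 := fun _ => ℕ) (j7_90) (j7_91) (Nat.ble 91 b)) (Nat.ble 90 b)) (Bool.rec (motive := fun _ => ℕ) (Bool.rec (motive := fun _ => ℕ) (j7_92) (j7_93) (Nat.ble 93 b)) (Bool.rec (motive := fun _ => ℕ) (j7_94) (j7_95) (Nat.ble 95 b)) (Nat.ble 94 b)) (Nat.ble 92 b)) (Nat.ble 88 b)) (Nat.ble 80 b)) (Bool.rec (motive := fun _ => ℕ) (Bool.rec (motive := fun _ => ℕ) (Bool.rec (motive := fun _ => ℕ) (Bool.rec (motive := fun _ => ℕ) (Bool.rec (motive := fun _ => ℕ) (j7_96) (j7_97) (Nat.ble 97 b)) (Bool.rec (motive := fun _ => ℕ) (j7_98) (j7_99) (Nat.ble 99 b)) (Nat.ble 98 b)) (Bool.rec (motive := fun _ => ℕ) (Bool.rec (motive := fun _ => ℕ) (j7_100) (j7_101) (Nat.ble 101 b)) (Bool.rec (motive := fun _ => ℕ) (j7_102) (j7_103) (Nat.ble 103 b)) (Nat.ble 102 b)) (Nat.ble 100 b)) (Bool.rec (motive := fun _ => ℕ) (Bool.rec (motive := fun _ => ℕ) (Bool.rec (motive := fun _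 => ℕ) (j7_104) (j7_105) (Nat.ble 105 b)) (Bool.rec (motive := fun _ => ℕ) (j7_106) (j7_107) (Nat.ble 107 b)) (Nat.ble 106 b)) (Bool.rec (motive := fun _ => ℕ) (Bool.rec (motive := fun _ => ℕ) (j7_108) (j7_109) (Nat.ble 109 b)) (Bool.rec (motive := fun _ => ℕ) (j7_110) (j7_111) (Nat.ble 111 b)) (Nat.ble 110 b)) (Nat.ble 108 b)) (Nat.ble 104 b)) (Bool.rec (motive := fun _ => ℕ) (Bool.rec (motive := fun _ => ℕ) (Bool.rec (motive := fun _ => ℕ) (Bool.rec (motive := fun _ => ℕ) (j7_112) (j7_113) (Nat.ble 113 b)) (Bool.rec (motive := fun _ => ℕ) (j7_114) (j7_115) (Nat.ble 115 b)) (Nat.ble 114 b)) (Bool.rec (motive := fun _ => ℕ) (Bool.rec (motive := fun _ => ℕ) (j7_116) (j7_117) (Nat.ble 117 b)) (Bool.rec (motive := fun _ => ℕ) (j7_118) (j7_119) (Nat.ble 119 b)) (Nat.ble 118 b)) (Nat.ble 116 b)) (Bool.rec (motive := fun _ => ℕ) (Bool.rec (motive := fun _ =>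 ℕ) (Bool.rec (motive := fun _ => ℕ) (j7_120) (j7_121) (Nat.ble 121 b)) (Bool.rec (motive := fun _ => ℕ) (j7_122) (j7_123) (Nat.ble 123 b)) (Nat.ble 122 b)) (Bool.rec (motive := fun _ => ℕ) (Bool.rec (motive := fun _ => ℕ) (j7_124) (j7_125) (Nat.ble 125 b)) (Bool.rec (motive := fun _ => ℕ) (j7_126) (j7_127) (Nat.ble 127 b)) (Nat.ble 126 b)) (Nat.ble 124 b)) (Nat.ble 120 b)) (Nat.ble 112 b)) (Nat.ble 96 b)) (Nat.ble 64 b)) (Bool.rec (motive := fun _ => ℕ) (Bool.rec (motive := fun _ => ℕ) (Bool.rec (motive := fun _ => ℕ) (Bool.rec (motive := fun _ => ℕ) (Bool.rec (motive := fun _ => ℕ) (Bool.rec (motive := fun _ => ℕ) (Bool.rec (motive := fun _ => ℕ) (j7_128) (j7_129) (Nat.ble 129 b)) (Bool.rec (motive := fun _ => ℕ) (j7_130) (j7_131) (Nat.ble 131 b)) (Nat.ble 130 b)) (Bool.rec (motive := fun _ => ℕ) (Bool.rec (motive := fun _ => ℕ) (j7_132) (j7_133) (Nat.ble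 133 b)) (Bool.rec (motive := fun _ => ℕ) (j7_134) (j7_135) (Nat.ble 135 b)) (Nat.ble 134 b)) (Nat.ble 132 b)) (Bool.rec (motive := fun _ => ℕ) (Bool.rec (motive := fun _ => ℕ) (Bool.rec (motive := fun _ => ℕ) (j7_136) (j7_137) (Nat.ble 137 b)) (Bool.rec (motive := fun _ => ℕ) (j7_138) (j7_139) (Nat.ble 139 b)) (Nat.ble 138 b)) (Bool.rec (motive := fun _ => ℕ) (Bool.rec (motive := fun _ => ℕ) (j7_140) (j7_141) (Nat.ble 141 b)) (Bool.rec (motive := fun _ => ℕ) (j7_142) (j7_143) (Nat.ble 143 b)) (Nat.ble 142 b)) (Nat.ble 140 b)) (Nat.ble 136 b)) (Bool.rec (motive := fun _ => ℕ) (Bool.rec (motive := fun _ => ℕ) (Bool.rec (motive := fun _ => ℕ) (Bool.rec (motive := fun _ => ℕ) (j7_144) (j7_145) (Nat.ble 145 b)) (Bool.rec (motive := fun _ => ℕ) (j7_146) (j7_147) (Nat.ble 147 b)) (Nat.ble 146 b)) (Bool.rec (motive := fun _ => ℕ) (Bool.rec (motive := fun _ =>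 ℕ) (j7_148) (j7_149) (Nat.ble 149 b)) (Bool.rec (motive := fun _ => ℕ) (j7_150) (j7_151) (Nat.ble 151 b)) (Nat.ble 150 b)) (Nat.ble 148 b)) (Bool.rec (motive := fun _ => ℕ) (Bool.rec (motive := fun _ => ℕ) (Bool.rec (motive := fun _ => ℕ) (j7_152) (j7_153) (Nat.ble 153 b)) (Bool.rec (motive := fun _ => ℕ) (j7_154) (j7_155) (Nat.ble 155 b)) (Nat.ble 154 b)) (Bool.rec (motive := fun _ => ℕ) (Bool.rec (motive := fun _ => ℕ) (j7_156) (j7_157) (Nat.ble 157 b)) (Bool.rec (motive := fun _ => ℕ) (j7_158) (j7_159) (Nat.ble 159 b)) (Nat.ble 158 b)) (Nat.ble 156 b)) (Nat.ble 152 b)) (Nat.ble 144 b)) (Bool.rec (motive := fun _ => ℕ) (Bool.rec (motive := fun _ => ℕ) (Bool.rec (motive := fun _ => ℕ) (Bool.rec (motive := fun _ => ℕ) (Bool.rec (motive := fun _ => ℕ) (j7_160) (j7_161) (Nat.ble 161 b)) (Bool.rec (motive := fun _ => ℕ) (j7_162) (j7_163) (Nat.ble 163 b))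 (Nat.ble 162 b)) (Bool.rec (motive := fun _ => ℕ) (Bool.rec (motive := fun _ => ℕ) (j7_164) (j7_165) (Nat.ble 165 b)) (Bool.rec (motive := fun _ => ℕ) (j7_166) (j7_167) (Nat.ble 167 b)) (Nat.ble 166 b)) (Nat.ble 164 b)) (0) (Nat.ble 168 b)) (0) (Nat.ble 176 b)) (Nat.ble 160 b)) (0) (Nat.ble 192 b)) (Nat.ble 128 b))
noncomputable def ecol8 (b : ℕ) : ℕ := (Bool.rec (motive := fun _ => ℕ) (Bool.rec (motive := fun _ => ℕ) (Bool.rec (motive := fun _ => ℕ) (Bool.rec (motive := fun _ => ℕ) (Bool.rec (motive := fun _ => ℕ) (Bool.rec (motive := fun _ => ℕ) (Bool.rec (motive := fun _ => ℕ) (Bool.rec (motive := fun _ => ℕ) (e8_0) (e8_1) (Nat.ble 1 b)) (Bool.rec (motive := fun _ => ℕ) (e8_2) (e8_3) (Nat.ble 3 b)) (Nat.ble 2 b)) (Bool.rec (motive := fun _ => ℕ) (Bool.rec (motive := fun _ => ℕ) (e8_4) (e8_5) (Nat.ble 5 b)) (Bool.rec (motive := fun _ => ℕ) (e8_6) (e8_7)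 (Nat.ble 7 b)) (Nat.ble 6 b)) (Nat.ble 4 b)) (Bool.rec (motive := fun _ => ℕ) (Bool.rec (motive := fun _ => ℕ) (Bool.rec (motive := fun _ => ℕ) (e8_8) (e8_9) (Nat.ble 9 b)) (Bool.rec (motive := fun _ => ℕ) (e8_10) (e8_11) (Nat.ble 11 b)) (Nat.ble 10 b)) (Bool.rec (motive := fun _ => ℕ) (Bool.rec (motive := fun _ => ℕ) (e8_12) (e8_13) (Nat.ble 13 b)) (Bool.rec (motive := fun _ => ℕ) (e8_14) (e8_15) (Nat.ble 15 b)) (Nat.ble 14 b)) (Nat.ble 12 b)) (Nat.ble 8 b)) (Bool.rec (motive := fun _ => ℕ) (Bool.rec (motive := fun _ => ℕ) (Bool.rec (motive := fun _ => ℕ) (Bool.rec (motive := fun _ => ℕ) (e8_16) (e8_17) (Nat.ble 17 b)) (Bool.rec (motive := fun _ => ℕ) (e8_18) (e8_19) (Nat.ble 19 b)) (Nat.ble 18 b)) (Bool.rec (motive := fun _ => ℕ) (Bool.rec (motive := fun _ => ℕ) (e8_20) (e8_21) (Nat.ble 21 b)) (Bool.rec (motive := fun _ => ℕ) (e8_22) (e8_23) (Nat.ble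 23 b)) (Nat.ble 22 b)) (Nat.ble 20 b)) (Bool.rec (motive := fun _ => ℕ) (Bool.rec (motive := fun _ => ℕ) (Bool.rec (motive := fun _ => ℕ) (e8_24) (e8_25) (Nat.ble 25 b)) (Bool.rec (motive := fun _ => ℕ) (e8_26) (e8_27) (Nat.ble 27 b)) (Nat.ble 26 b)) (Bool.rec (motive := fun _ => ℕ) (Bool.rec (motive := fun _ => ℕ) (e8_28) (e8_29) (Nat.ble 29 b)) (Bool.rec (motive := fun _ => ℕ) (e8_30) (e8_31) (Nat.ble 31 b)) (Nat.ble 30 b)) (Nat.ble 28 b)) (Nat.ble 24 b)) (Nat.ble 16 b)) (Bool.rec (motive := fun _ => ℕ) (Bool.rec (motive := fun _ => ℕ) (Bool.rec (motive := fun _ => ℕ) (Bool.rec (motive := fun _ => ℕ) (Bool.rec (motive := fun _ => ℕ) (e8_32) (e8_33) (Nat.ble 33 b)) (Bool.rec (motive := fun _ => ℕ) (e8_34) (e8_35) (Nat.ble 35 b)) (Nat.ble 34 b)) (Bool.rec (motive := fun _ => ℕ) (Bool.rec (motive := fun _ => ℕ) (e8_36) (e8_37) (Nat.ble 37 b)) (Bool.rec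 (motive := fun _ => ℕ) (e8_38) (e8_39) (Nat.ble 39 b)) (Nat.ble 38 b)) (Nat.ble 36 b)) (Bool.rec (motive := fun _ => ℕ) (Bool.rec (motive := fun _ => ℕ) (Bool.rec (motive := fun _ => ℕ) (e8_40) (e8_41) (Nat.ble 41 b)) (Bool.rec (motive := fun _ => ℕ) (e8_42) (e8_43) (Nat.ble 43 b)) (Nat.ble 42 b)) (Bool.rec (motive := fun _ => ℕ) (Bool.rec (motive := fun _ => ℕ) (e8_44) (e8_45) (Nat.ble 45 b)) (Bool.rec (motive := fun _ => ℕ) (e8_46) (e8_47) (Nat.ble 47 b)) (Nat.ble 46 b)) (Nat.ble 44 b)) (Nat.ble 40 b)) (Bool.rec (motive := fun _ => ℕ) (Bool.rec (motive := fun _ => ℕ) (Bool.rec (motive := fun _ => ℕ) (Bool.rec (motive := fun _ => ℕ) (e8_48) (e8_49) (Nat.ble 49 b)) (Bool.rec (motive := fun _ => ℕ) (e8_50) (e8_51) (Nat.ble 51 b)) (Nat.ble 50 b)) (Bool.rec (motive := fun _ => ℕ) (Bool.rec (motive := fun _ => ℕ) (e8_52) (e8_53) (Nat.ble 53 b)) (Bool.rec (motive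 := fun _ => ℕ) (e8_54) (e8_55) (Nat.ble 55 b)) (Nat.ble 54 b)) (Nat.ble 52 b)) (Bool.rec (motive := fun _ => ℕ) (Bool.rec (motive := fun _ => ℕ) (Bool.rec (motive := fun _ => ℕ) (e8_56) (e8_57) (Nat.ble 57 b)) (Bool.rec (motive := fun _ => ℕ) (e8_58) (e8_59) (Nat.ble 59 b)) (Nat.ble 58 b)) (Bool.rec (motive := fun _ => ℕ) (Bool.rec (motive := fun _ => ℕ) (e8_60) (e8_61) (Nat.ble 61 b)) (Bool.rec (motive := fun _ => ℕ) (e8_62) (e8_63) (Nat.ble 63 b)) (Nat.ble 62 b)) (Nat.ble 60 b)) (Nat.ble 56 b)) (Nat.ble 48 b)) (Nat.ble 32 b)) (Bool.rec (motive := fun _ => ℕ) (Bool.rec (motive := fun _ => ℕ) (Bool.rec (motive := fun _ => ℕ) (Bool.rec (motive := fun _ => ℕ) (Bool.rec (motive := fun _ => ℕ) (Bool.rec (motive := fun _ => ℕ) (e8_64) (e8_65) (Nat.ble 65 b)) (Bool.rec (motive := fun _ => ℕ) (e8_66) (e8_67) (Nat.ble 67 b)) (Nat.ble 66 b)) (Bool.rec (motive :=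 fun _ => ℕ) (Bool.rec (motive := fun _ => ℕ) (e8_68) (e8_69) (Nat.ble 69 b)) (Bool.rec (motive := fun _ => ℕ) (e8_70) (e8_71) (Nat.ble 71 b)) (Nat.ble 70 b)) (Nat.ble 68 b)) (Bool.rec (motive := fun _ => ℕ) (Bool.rec (motive := fun _ => ℕ) (Bool.rec (motive := fun _ => ℕ) (e8_72) (e8_73) (Nat.ble 73 b)) (Bool.rec (motive := fun _ => ℕ) (e8_74) (e8_75) (Nat.ble 75 b)) (Nat.ble 74 b)) (Bool.rec (motive := fun _ => ℕ) (Bool.rec (motive := fun _ => ℕ) (e8_76) (e8_77) (Nat.ble 77 b)) (Bool.rec (motive := fun _ => ℕ) (e8_78) (e8_79) (Nat.ble 79 b)) (Nat.ble 78 b)) (Nat.ble 76 b)) (Nat.ble 72 b)) (Bool.rec (motive := fun _ => ℕ) (Bool.rec (motive := fun _ => ℕ) (Bool.rec (motive := fun _ => ℕ) (Bool.rec (motive := fun _ => ℕ) (e8_80) (e8_81) (Nat.ble 81 b)) (Bool.rec (motive := fun _ => ℕ) (e8_82) (e8_83) (Nat.ble 83 b)) (Nat.ble 82 b)) (Bool.rec (motive := fun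 _ => ℕ) (Bool.rec (motive := fun _ => ℕ) (e8_84) (e8_85) (Nat.ble 85 b)) (Bool.rec (motive := fun _ => ℕ) (e8_86) (e8_87) (Nat.ble 87 b)) (Nat.ble 86 b)) (Nat.ble 84 b)) (Bool.rec (motive := fun _ => ℕ) (Bool.rec (motive := fun _ => ℕ) (Bool.rec (motive := fun _ => ℕ) (e8_88) (e8_89) (Nat.ble 89 b)) (Bool.rec (motive := fun _ => ℕ) (e8_90) (e8_91) (Nat.ble 91 b)) (Nat.ble 90 b)) (Bool.rec (motive := fun _ => ℕ) (Bool.rec (motive := fun _ => ℕ) (e8_92) (e8_93) (Nat.ble 93 b)) (Bool.rec (motive := fun _ => ℕ) (e8_94) (e8_95) (Nat.ble 95 b)) (Nat.ble 94 b)) (Nat.ble 92 b)) (Nat.ble 88 b)) (Nat.ble 80 b)) (Bool.rec (motive := fun _ => ℕ) (Bool.rec (motive := fun _ => ℕ) (Bool.rec (motive := fun _ => ℕ) (Bool.rec (motive := fun _ => ℕ) (Bool.rec (motive := fun _ => ℕ) (e8_96) (e8_97) (Nat.ble 97 b)) (Bool.rec (motive := fun _ => ℕ) (e8_98) (e8_99) (Nat.ble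 99 b)) (Nat.ble 98 b)) (Bool.rec (motive := fun _ => ℕ) (Bool.rec (motive := fun _ => ℕ) (e8_100) (e8_101) (Nat.ble 101 b)) (Bool.rec (motive := fun _ => ℕ) (e8_102) (e8_103) (Nat.ble 103 b)) (Nat.ble 102 b)) (Nat.ble 100 b)) (Bool.rec (motive := fun _ => ℕ) (Bool.rec (motive := fun _ => ℕ) (Bool.rec (motive := fun _ => ℕ) (e8_104) (e8_105) (Nat.ble 105 b)) (Bool.rec (motive := fun _ => ℕ) (e8_106) (e8_107) (Nat.ble 107 b)) (Nat.ble 106 b)) (Bool.rec (motive := fun _ => ℕ) (Bool.rec (motive := fun _ => ℕ) (e8_108) (e8_109) (Nat.ble 109 b)) (Bool.rec (motive := fun _ => ℕ) (e8_110) (e8_111) (Nat.ble 111 b)) (Nat.ble 110 b)) (Nat.ble 108 b)) (Nat.ble 104 b)) (Bool.rec (motive := fun _ => ℕ) (Bool.rec (motive := fun _ => ℕ) (Bool.rec (motive := fun _ => ℕ) (Bool.rec (motive := fun _ => ℕ) (e8_112) (e8_113) (Nat.ble 113 b)) (Bool.rec (motive := fun _ => ℕ)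 (e8_114) (e8_115) (Nat.ble 115 b)) (Nat.ble 114 b)) (Bool.rec (motive := fun _ => ℕ) (Bool.rec (motive := fun _ => ℕ) (e8_116) (e8_117) (Nat.ble 117 b)) (Bool.rec (motive := fun _ => ℕ) (e8_118) (e8_119) (Nat.ble 119 b)) (Nat.ble 118 b)) (Nat.ble 116 b)) (Bool.rec (motive := fun _ => ℕ) (Bool.rec (motive := fun _ => ℕ) (Bool.rec (motive := fun _ => ℕ) (e8_120) (e8_121) (Nat.ble 121 b)) (Bool.rec (motive := fun _ => ℕ) (e8_122) (e8_123) (Nat.ble 123 b)) (Nat.ble 122 b)) (Bool.rec (motive := fun _ => ℕ) (Bool.rec (motive := fun _ => ℕ) (e8_124) (e8_125) (Nat.ble 125 b)) (Bool.rec (motive := fun _ => ℕ) (e8_126) (e8_127) (Nat.ble 127 b)) (Nat.ble 126 b)) (Nat.ble 124 b)) (Nat.ble 120 b)) (Nat.ble 112 b)) (Nat.ble 96 b)) (Nat.ble 64 b)) (Bool.rec (motive := fun _ => ℕ) (Bool.rec (motive := fun _ => ℕ) (Bool.rec (motive := fun _ => ℕ) (Bool.rec (motive := fun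 _ => ℕ) (Bool.rec (motive := fun _ => ℕ) (Bool.rec (motive := fun _ => ℕ) (Bool.rec (motive := fun _ => ℕ) (e8_128) (e8_129) (Nat.ble 129 b)) (Bool.rec (motive := fun _ => ℕ) (e8_130) (e8_131) (Nat.ble 131 b)) (Nat.ble 130 b)) (Bool.rec (motive := fun _ => ℕ) (Bool.rec (motive := fun _ => ℕ) (e8_132) (e8_133) (Nat.ble 133 b)) (Bool.rec (motive := fun _ => ℕ) (e8_134) (e8_135) (Nat.ble 135 b)) (Nat.ble 134 b)) (Nat.ble 132 b)) (Bool.rec (motive := fun _ => ℕ) (Bool.rec (motive := fun _ => ℕ) (Bool.rec (motive := fun _ => ℕ) (e8_136) (e8_137) (Nat.ble 137 b)) (Bool.rec (motive := fun _ => ℕ) (e8_138) (e8_139) (Nat.ble 139 b)) (Nat.ble 138 b)) (Bool.rec (motive := fun _ => ℕ) (Bool.rec (motive := fun _ => ℕ) (e8_140) (e8_141) (Nat.ble 141 b)) (Bool.rec (motive := fun _ => ℕ) (e8_142) (e8_143) (Nat.ble 143 b)) (Nat.ble 142 b)) (Nat.ble 140 b)) (Nat.ble 136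 b)) (Bool.rec (motive := fun _ => ℕ) (Bool.rec (motive := fun _ => ℕ) (Bool.rec (motive := fun _ => ℕ) (Bool.rec (motive := fun _ => ℕ) (e8_144) (e8_145) (Nat.ble 145 b)) (Bool.rec (motive := fun _ => ℕ) (e8_146) (e8_147) (Nat.ble 147 b)) (Nat.ble 146 b)) (Bool.rec (motive := fun _ => ℕ) (Bool.rec (motive := fun _ => ℕ) (e8_148) (e8_149) (Nat.ble 149 b)) (Bool.rec (motive := fun _ => ℕ) (e8_150) (e8_151) (Nat.ble 151 b)) (Nat.ble 150 b)) (Nat.ble 148 b)) (Bool.rec (motive := fun _ => ℕ) (Bool.rec (motive := fun _ => ℕ) (Bool.rec (motive := fun _ => ℕ) (e8_152) (e8_153) (Nat.ble 153 b)) (Bool.rec (motive := fun _ => ℕ) (e8_154) (e8_155) (Nat.ble 155 b)) (Nat.ble 154 b)) (Bool.rec (motive := fun _ => ℕ) (Bool.rec (motive := fun _ => ℕ) (e8_156) (e8_157) (Nat.ble 157 b)) (Bool.rec (motive := fun _ => ℕ) (e8_158) (e8_159) (Nat.ble 159 b)) (Nat.ble 158 b))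 (Nat.ble 156 b)) (Nat.ble 152 b)) (Nat.ble 144 b)) (Bool.rec (motive := fun _ => ℕ) (Bool.rec (motive := fun _ => ℕ) (Bool.rec (motive := fun _ => ℕ) (Bool.rec (motive := fun _ => ℕ) (Bool.rec (motive := fun _ => ℕ) (e8_160) (e8_161) (Nat.ble 161 b)) (Bool.rec (motive := fun _ => ℕ) (e8_162) (e8_163) (Nat.ble 163 b)) (Nat.ble 162 b)) (Bool.rec (motive := fun _ => ℕ) (Bool.rec (motive := fun _ => ℕ) (e8_164) (e8_165) (Nat.ble 165 b)) (Bool.rec (motive := fun _ => ℕ) (e8_166) (e8_167) (Nat.ble 167 b)) (Nat.ble 166 b)) (Nat.ble 164 b)) (0) (Nat.ble 168 b)) (0) (Nat.ble 176 b)) (Nat.ble 160 b)) (0) (Nat.ble 192 b)) (Nat.ble 128 b))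
noncomputable def jcol8 (b : ℕ) : ℕ := (Bool.rec (motive := fun _ => ℕ) (Bool.rec (motive := fun _ => ℕ) (Bool.rec (motive := fun _ => ℕ) (Bool.rec (motive := fun _ => ℕ) (Bool.rec (motive := fun _ => ℕ) (Bool.rec (motive := fun _ => ℕ) (Bool.rec (motive := fun _ => ℕ) (Bool.rec (motive := fun _ => ℕ) (j8_0) (j8_1) (Nat.ble 1 b)) (Bool.rec (motive := fun _ => ℕ) (j8_2) (j8_3) (Nat.ble 3 b)) (Nat.ble 2 b)) (Bool.rec (motive := fun _ => ℕ) (Bool.rec (motive := fun _ => ℕ) (j8_4) (j8_5) (Nat.ble 5 b)) (Bool.rec (motive := fun _ => ℕ) (j8_6) (j8_7) (Nat.ble 7 b)) (Nat.ble 6 b)) (Nat.ble 4 b)) (Bool.rec (motive := fun _ => ℕ) (Bool.rec (motive := fun _ => ℕ) (Bool.rec (motive := fun _ => ℕ) (j8_8) (j8_9) (Nat.ble 9 b)) (Bool.rec (motive := fun _ => ℕ) (j8_10) (j8_11) (Nat.ble 11 b)) (Nat.ble 10 b)) (Bool.rec (motive := fun _ => ℕ) (Bool.rec (motive := fun _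 => ℕ) (j8_12) (j8_13) (Nat.ble 13 b)) (Bool.rec (motive := fun _ => ℕ) (j8_14) (j8_15) (Nat.ble 15 b)) (Nat.ble 14 b)) (Nat.ble 12 b)) (Nat.ble 8 b)) (Bool.rec (motive := fun _ => ℕ) (Bool.rec (motive := fun _ => ℕ) (Bool.rec (motive := fun _ => ℕ) (Bool.rec (motive := fun _ => ℕ) (j8_16) (j8_17) (Nat.ble 17 b)) (Bool.rec (motive := fun _ => ℕ) (j8_18) (j8_19) (Nat.ble 19 b)) (Nat.ble 18 b)) (Bool.rec (motive := fun _ => ℕ) (Bool.rec (motive := fun _ => ℕ) (j8_20) (j8_21) (Nat.ble 21 b)) (Bool.rec (motive := fun _ => ℕ) (j8_22) (j8_23) (Nat.ble 23 b)) (Nat.ble 22 b)) (Nat.ble 20 b)) (Bool.rec (motive := fun _ => ℕ) (Bool.rec (motive := fun _ => ℕ) (Bool.rec (motive := fun _ => ℕ) (j8_24) (j8_25) (Nat.ble 25 b)) (Bool.rec (motive := fun _ => ℕ) (j8_26) (j8_27) (Nat.ble 27 b)) (Nat.ble 26 b)) (Bool.rec (motive := fun _ => ℕ) (Bool.rec (motive := fun _ =>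 ℕ) (j8_28) (j8_29) (Nat.ble 29 b)) (Bool.rec (motive := fun _ => ℕ) (j8_30) (j8_31) (Nat.ble 31 b)) (Nat.ble 30 b)) (Nat.ble 28 b)) (Nat.ble 24 b)) (Nat.ble 16 b)) (Bool.rec (motive := fun _ => ℕ) (Bool.rec (motive := fun _ => ℕ) (Bool.rec (motive := fun _ => ℕ) (Bool.rec (motive := fun _ => ℕ) (Bool.rec (motive := fun _ => ℕ) (j8_32) (j8_33) (Nat.ble 33 b)) (Bool.rec (motive := fun _ => ℕ) (j8_34) (j8_35) (Nat.ble 35 b)) (Nat.ble 34 b)) (Bool.rec (motive := fun _ => ℕ) (Bool.rec (motive := fun _ => ℕ) (j8_36) (j8_37) (Nat.ble 37 b)) (Bool.rec (motive := fun _ => ℕ) (j8_38) (j8_39) (Nat.ble 39 b)) (Nat.ble 38 b)) (Nat.ble 36 b)) (Bool.rec (motive := fun _ => ℕ) (Bool.rec (motive := fun _ => ℕ) (Bool.rec (motive := fun _ => ℕ) (j8_40) (j8_41) (Nat.ble 41 b)) (Bool.rec (motive := fun _ => ℕ) (j8_42) (j8_43) (Nat.ble 43 b)) (Nat.ble 42 b)) (Bool.rec (motive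 := fun _ => ℕ) (Bool.rec (motive := fun _ => ℕ) (j8_44) (j8_45) (Nat.ble 45 b)) (Bool.rec (motive := fun _ => ℕ) (j8_46) (j8_47) (Nat.ble 47 b)) (Nat.ble 46 b)) (Nat.ble 44 b)) (Nat.ble 40 b)) (Bool.rec (motive := fun _ => ℕ) (Bool.rec (motive := fun _ => ℕ) (Bool.rec (motive := fun _ => ℕ) (Bool.rec (motive := fun _ => ℕ) (j8_48) (j8_49) (Nat.ble 49 b)) (Bool.rec (motive := fun _ => ℕ) (j8_50) (j8_51) (Nat.ble 51 b)) (Nat.ble 50 b)) (Bool.rec (motive := fun _ => ℕ) (Bool.rec (motive := fun _ => ℕ) (j8_52) (j8_53) (Nat.ble 53 b)) (Bool.rec (motive := fun _ => ℕ) (j8_54) (j8_55) (Nat.ble 55 b)) (Nat.ble 54 b)) (Nat.ble 52 b)) (Bool.rec (motive := fun _ => ℕ) (Bool.rec (motive := fun _ => ℕ) (Bool.rec (motive := fun _ => ℕ) (j8_56) (j8_57) (Nat.ble 57 b)) (Bool.rec (motive := fun _ => ℕ) (j8_58) (j8_59) (Nat.ble 59 b)) (Nat.ble 58 b)) (Bool.rec (motive :=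 fun _ => ℕ) (Bool.rec (motive := fun _ => ℕ) (j8_60) (j8_61) (Nat.ble 61 b)) (Bool.rec (motive := fun _ => ℕ) (j8_62) (j8_63) (Nat.ble 63 b)) (Nat.ble 62 b)) (Nat.ble 60 b)) (Nat.ble 56 b)) (Nat.ble 48 b)) (Nat.ble 32 b)) (Bool.rec (motive := fun _ => ℕ) (Bool.rec (motive := fun _ => ℕ) (Bool.rec (motive := fun _ => ℕ) (Bool.rec (motive := fun _ => ℕ) (Bool.rec (motive := fun _ => ℕ) (Bool.rec (motive := fun _ => ℕ) (j8_64) (j8_65) (Nat.ble 65 b)) (Bool.rec (motive := fun _ => ℕ) (j8_66) (j8_67) (Nat.ble 67 b)) (Nat.ble 66 b)) (Bool.rec (motive := fun _ => ℕ) (Bool.rec (motive := fun _ => ℕ) (j8_68) (j8_69) (Nat.ble 69 b)) (Bool.rec (motive := fun _ => ℕ) (j8_70) (j8_71) (Nat.ble 71 b)) (Nat.ble 70 b)) (Nat.ble 68 b)) (Bool.rec (motive := fun _ => ℕ) (Bool.rec (motive := fun _ => ℕ) (Bool.rec (motive := fun _ => ℕ) (j8_72) (j8_73) (Nat.ble 73 b)) (Bool.rec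 (motive := fun _ => ℕ) (j8_74) (j8_75) (Nat.ble 75 b)) (Nat.ble 74 b)) (Bool.rec (motive := fun _ => ℕ) (Bool.rec (motive := fun _ => ℕ) (j8_76) (j8_77) (Nat.ble 77 b)) (Bool.rec (motive := fun _ => ℕ) (j8_78) (j8_79) (Nat.ble 79 b)) (Nat.ble 78 b)) (Nat.ble 76 b)) (Nat.ble 72 b)) (Bool.rec (motive := fun _ => ℕ) (Bool.rec (motive := fun _ => ℕ) (Bool.rec (motive := fun _ => ℕ) (Bool.rec (motive := fun _ => ℕ) (j8_80) (j8_81) (Nat.ble 81 b)) (Bool.rec (motive := fun _ => ℕ) (j8_82) (j8_83) (Nat.ble 83 b)) (Nat.ble 82 b)) (Bool.rec (motive := fun _ => ℕ) (Bool.rec (motive := fun _ => ℕ) (j8_84) (j8_85) (Nat.ble 85 b)) (Bool.rec (motive := fun _ => ℕ) (j8_86) (j8_87) (Nat.ble 87 b)) (Nat.ble 86 b)) (Nat.ble 84 b)) (Bool.rec (motive := fun _ => ℕ) (Bool.rec (motive := fun _ => ℕ) (Bool.rec (motive := fun _ => ℕ) (j8_88) (j8_89) (Nat.ble 89 b)) (Bool.rec (motive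 := fun _ => ℕ) (j8_90) (j8_91) (Nat.ble 91 b)) (Nat.ble 90 b)) (Bool.rec (motive := fun _ => ℕ) (Bool.rec (motive := fun _ => ℕ) (j8_92) (j8_93) (Nat.ble 93 b)) (Bool.rec (motive := fun _ => ℕ) (j8_94) (j8_95) (Nat.ble 95 b)) (Nat.ble 94 b)) (Nat.ble 92 b)) (Nat.ble 88 b)) (Nat.ble 80 b)) (Bool.rec (motive := fun _ => ℕ) (Bool.rec (motive := fun _ => ℕ) (Bool.rec (motive := fun _ => ℕ) (Bool.rec (motive := fun _ => ℕ) (Bool.rec (motive := fun _ => ℕ) (j8_96) (j8_97) (Nat.ble 97 b)) (Bool.rec (motive := fun _ => ℕ) (j8_98) (j8_99) (Nat.ble 99 b)) (Nat.ble 98 b)) (Bool.rec (motive := fun _ => ℕ) (Bool.rec (motive := fun _ => ℕ) (j8_100) (j8_101) (Nat.ble 101 b)) (Bool.rec (motive := fun _ => ℕ) (j8_102) (j8_103) (Nat.ble 103 b)) (Nat.ble 102 b)) (Nat.ble 100 b)) (Bool.rec (motive := fun _ => ℕ) (Bool.rec (motive := fun _ => ℕ) (Bool.rec (motive := fun _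 => ℕ) (j8_104) (j8_105) (Nat.ble 105 b)) (Bool.rec (motive := fun _ => ℕ) (j8_106) (j8_107) (Nat.ble 107 b)) (Nat.ble 106 b)) (Bool.rec (motive := fun _ => ℕ) (Bool.rec (motive := fun _ => ℕ) (j8_108) (j8_109) (Nat.ble 109 b)) (Bool.rec (motive := fun _ => ℕ) (j8_110) (j8_111) (Nat.ble 111 b)) (Nat.ble 110 b)) (Nat.ble 108 b)) (Nat.ble 104 b)) (Bool.rec (motive := fun _ => ℕ) (Bool.rec (motive := fun _ => ℕ) (Bool.rec (motive := fun _ => ℕ) (Bool.rec (motive := fun _ => ℕ) (j8_112) (j8_113) (Nat.ble 113 b)) (Bool.rec (motive := fun _ => ℕ) (j8_114) (j8_115) (Nat.ble 115 b)) (Nat.ble 114 b)) (Bool.rec (motive := fun _ => ℕ) (Bool.rec (motive := fun _ => ℕ) (j8_116) (j8_117) (Nat.ble 117 b)) (Bool.rec (motive := fun _ => ℕ) (j8_118) (j8_119) (Nat.ble 119 b)) (Nat.ble 118 b)) (Nat.ble 116 b)) (Bool.rec (motive := fun _ => ℕ) (Bool.rec (motive := fun _ =>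 ℕ) (Bool.rec (motive := fun _ => ℕ) (j8_120) (j8_121) (Nat.ble 121 b)) (Bool.rec (motive := fun _ => ℕ) (j8_122) (j8_123) (Nat.ble 123 b)) (Nat.ble 122 b)) (Bool.rec (motive := fun _ => ℕ) (Bool.rec (motive := fun _ => ℕ) (j8_124) (j8_125) (Nat.ble 125 b)) (Bool.rec (motive := fun _ => ℕ) (j8_126) (j8_127) (Nat.ble 127 b)) (Nat.ble 126 b)) (Nat.ble 124 b)) (Nat.ble 120 b)) (Nat.ble 112 b)) (Nat.ble 96 b)) (Nat.ble 64 b)) (Bool.rec (motive := fun _ => ℕ) (Bool.rec (motive := fun _ => ℕ) (Bool.rec (motive := fun _ => ℕ) (Bool.rec (motive := fun _ => ℕ) (Bool.rec (motive := fun _ => ℕ) (Bool.rec (motive := fun _ => ℕ) (Bool.rec (motive := fun _ => ℕ) (j8_128) (j8_129) (Nat.ble 129 b)) (Bool.rec (motive := fun _ => ℕ) (j8_130) (j8_131) (Nat.ble 131 b)) (Nat.ble 130 b)) (Bool.rec (motive := fun _ => ℕ) (Bool.rec (motive := fun _ => ℕ) (j8_132) (j8_133) (Nat.ble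 133 b)) (Bool.rec (motive := fun _ => ℕ) (j8_134) (j8_135) (Nat.ble 135 b)) (Nat.ble 134 b)) (Nat.ble 132 b)) (Bool.rec (motive := fun _ => ℕ) (Bool.rec (motive := fun _ => ℕ) (Bool.rec (motive := fun _ => ℕ) (j8_136) (j8_137) (Nat.ble 137 b)) (Bool.rec (motive := fun _ => ℕ) (j8_138) (j8_139) (Nat.ble 139 b)) (Nat.ble 138 b)) (Bool.rec (motive := fun _ => ℕ) (Bool.rec (motive := fun _ => ℕ) (j8_140) (j8_141) (Nat.ble 141 b)) (Bool.rec (motive := fun _ => ℕ) (j8_142) (j8_143) (Nat.ble 143 b)) (Nat.ble 142 b)) (Nat.ble 140 b)) (Nat.ble 136 b)) (Bool.rec (motive := fun _ => ℕ) (Bool.rec (motive := fun _ => ℕ) (Bool.rec (motive := fun _ => ℕ) (Bool.rec (motive := fun _ => ℕ) (j8_144) (j8_145) (Nat.ble 145 b)) (Bool.rec (motive := fun _ => ℕ) (j8_146) (j8_147) (Nat.ble 147 b)) (Nat.ble 146 b)) (Bool.rec (motive := fun _ => ℕ) (Bool.rec (motive := fun _ =>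 ℕ) (j8_148) (j8_149) (Nat.ble 149 b)) (Bool.rec (motive := fun _ => ℕ) (j8_150) (j8_151) (Nat.ble 151 b)) (Nat.ble 150 b)) (Nat.ble 148 b)) (Bool.rec (motive := fun _ => ℕ) (Bool.rec (motive := fun _ => ℕ) (Bool.rec (motive := fun _ => ℕ) (j8_152) (j8_153) (Nat.ble 153 b)) (Bool.rec (motive := fun _ => ℕ) (j8_154) (j8_155) (Nat.ble 155 b)) (Nat.ble 154 b)) (Bool.rec (motive := fun _ => ℕ) (Bool.rec (motive := fun _ => ℕ) (j8_156) (j8_157) (Nat.ble 157 b)) (Bool.rec (motive := fun _ => ℕ) (j8_158) (j8_159) (Nat.ble 159 b)) (Nat.ble 158 b)) (Nat.ble 156 b)) (Nat.ble 152 b)) (Nat.ble 144 b)) (Bool.rec (motive := fun _ => ℕ) (Bool.rec (motive := fun _ => ℕ) (Bool.rec (motive := fun _ => ℕ) (Bool.rec (motive := fun _ => ℕ) (Bool.rec (motive := fun _ => ℕ) (j8_160) (j8_161) (Nat.ble 161 b)) (Bool.rec (motive := fun _ => ℕ) (j8_162) (j8_163) (Nat.ble 163 b))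 (Nat.ble 162 b)) (Bool.rec (motive := fun _ => ℕ) (Bool.rec (motive := fun _ => ℕ) (j8_164) (j8_165) (Nat.ble 165 b)) (Bool.rec (motive := fun _ => ℕ) (j8_166) (j8_167) (Nat.ble 167 b)) (Nat.ble 166 b)) (Nat.ble 164 b)) (0) (Nat.ble 168 b)) (0) (Nat.ble 176 b)) (Nat.ble 160 b)) (0) (Nat.ble 192 b)) (Nat.ble 128 b))
noncomputable def ecol9 (b : ℕ) : ℕ := (Bool.rec (motive := fun _ => ℕ) (Bool.rec (motive := fun _ => ℕ) (Bool.rec (motive := fun _ => ℕ) (Bool.rec (motive := fun _ => ℕ) (Bool.rec (motive := fun _ => ℕ) (Bool.rec (motive := fun _ => ℕ) (Bool.rec (motive := fun _ => ℕ) (Bool.rec (motive := fun _ => ℕ) (e9_0) (e9_1) (Nat.ble 1 b)) (Bool.rec (motive := fun _ => ℕ) (e9_2) (e9_3) (Nat.ble 3 b)) (Nat.ble 2 b)) (Bool.rec (motive := fun _ => ℕ) (Bool.rec (motive := fun _ => ℕ) (e9_4) (e9_5) (Nat.ble 5 b)) (Bool.rec (motive := fun _ => ℕ) (e9_6) (e9_7)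 (Nat.ble 7 b)) (Nat.ble 6 b)) (Nat.ble 4 b)) (Bool.rec (motive := fun _ => ℕ) (Bool.rec (motive := fun _ => ℕ) (Bool.rec (motive := fun _ => ℕ) (e9_8) (e9_9) (Nat.ble 9 b)) (Bool.rec (motive := fun _ => ℕ) (e9_10) (e9_11) (Nat.ble 11 b)) (Nat.ble 10 b)) (Bool.rec (motive := fun _ => ℕ) (Bool.rec (motive := fun _ => ℕ) (e9_12) (e9_13) (Nat.ble 13 b)) (Bool.rec (motive := fun _ => ℕ) (e9_14) (e9_15) (Nat.ble 15 b)) (Nat.ble 14 b)) (Nat.ble 12 b)) (Nat.ble 8 b)) (Bool.rec (motive := fun _ => ℕ) (Bool.rec (motive := fun _ => ℕ) (Bool.rec (motive := fun _ => ℕ) (Bool.rec (motive := fun _ => ℕ) (e9_16) (e9_17) (Nat.ble 17 b)) (Bool.rec (motive := fun _ => ℕ) (e9_18) (e9_19) (Nat.ble 19 b)) (Nat.ble 18 b)) (Bool.rec (motive := fun _ => ℕ) (Bool.rec (motive := fun _ => ℕ) (e9_20) (e9_21) (Nat.ble 21 b)) (Bool.rec (motive := fun _ => ℕ) (e9_22) (e9_23) (Nat.ble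 23 b)) (Nat.ble 22 b)) (Nat.ble 20 b)) (Bool.rec (motive := fun _ => ℕ) (Bool.rec (motive := fun _ => ℕ) (Bool.rec (motive := fun _ => ℕ) (e9_24) (e9_25) (Nat.ble 25 b)) (Bool.rec (motive := fun _ => ℕ) (e9_26) (e9_27) (Nat.ble 27 b)) (Nat.ble 26 b)) (Bool.rec (motive := fun _ => ℕ) (Bool.rec (motive := fun _ => ℕ) (e9_28) (e9_29) (Nat.ble 29 b)) (Bool.rec (motive := fun _ => ℕ) (e9_30) (e9_31) (Nat.ble 31 b)) (Nat.ble 30 b)) (Nat.ble 28 b)) (Nat.ble 24 b)) (Nat.ble 16 b)) (Bool.rec (motive := fun _ => ℕ) (Bool.rec (motive := fun _ => ℕ) (Bool.rec (motive := fun _ => ℕ) (Bool.rec (motive := fun _ => ℕ) (Bool.rec (motive := fun _ => ℕ) (e9_32) (e9_33) (Nat.ble 33 b)) (Bool.rec (motive := fun _ => ℕ) (e9_34) (e9_35) (Nat.ble 35 b)) (Nat.ble 34 b)) (Bool.rec (motive := fun _ => ℕ) (Bool.rec (motive := fun _ => ℕ) (e9_36) (e9_37) (Nat.ble 37 b)) (Bool.rec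 (motive := fun _ => ℕ) (e9_38) (e9_39) (Nat.ble 39 b)) (Nat.ble 38 b)) (Nat.ble 36 b)) (Bool.rec (motive := fun _ => ℕ) (Bool.rec (motive := fun _ => ℕ) (Bool.rec (motive := fun _ => ℕ) (e9_40) (e9_41) (Nat.ble 41 b)) (Bool.rec (motive := fun _ => ℕ) (e9_42) (e9_43) (Nat.ble 43 b)) (Nat.ble 42 b)) (Bool.rec (motive := fun _ => ℕ) (Bool.rec (motive := fun _ => ℕ) (e9_44) (e9_45) (Nat.ble 45 b)) (Bool.rec (motive := fun _ => ℕ) (e9_46) (e9_47) (Nat.ble 47 b)) (Nat.ble 46 b)) (Nat.ble 44 b)) (Nat.ble 40 b)) (Bool.rec (motive := fun _ => ℕ) (Bool.rec (motive := fun _ => ℕ) (Bool.rec (motive := fun _ => ℕ) (Bool.rec (motive := fun _ => ℕ) (e9_48) (e9_49) (Nat.ble 49 b)) (Bool.rec (motive := fun _ => ℕ) (e9_50) (e9_51) (Nat.ble 51 b)) (Nat.ble 50 b)) (Bool.rec (motive := fun _ => ℕ) (Bool.rec (motive := fun _ => ℕ) (e9_52) (e9_53) (Nat.ble 53 b)) (Bool.rec (motive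 := fun _ => ℕ) (e9_54) (e9_55) (Nat.ble 55 b)) (Nat.ble 54 b)) (Nat.ble 52 b)) (Bool.rec (motive := fun _ => ℕ) (Bool.rec (motive := fun _ => ℕ) (Bool.rec (motive := fun _ => ℕ) (e9_56) (e9_57) (Nat.ble 57 b)) (Bool.rec (motive := fun _ => ℕ) (e9_58) (e9_59) (Nat.ble 59 b)) (Nat.ble 58 b)) (Bool.rec (motive := fun _ => ℕ) (Bool.rec (motive := fun _ => ℕ) (e9_60) (e9_61) (Nat.ble 61 b)) (Bool.rec (motive := fun _ => ℕ) (e9_62) (e9_63) (Nat.ble 63 b)) (Nat.ble 62 b)) (Nat.ble 60 b)) (Nat.ble 56 b)) (Nat.ble 48 b)) (Nat.ble 32 b)) (Bool.rec (motive := fun _ => ℕ) (Bool.rec (motive := fun _ => ℕ) (Bool.rec (motive := fun _ => ℕ) (Bool.rec (motive := fun _ => ℕ) (Bool.rec (motive := fun _ => ℕ) (Bool.rec (motive := fun _ => ℕ) (e9_64) (e9_65) (Nat.ble 65 b)) (Bool.rec (motive := fun _ => ℕ) (e9_66) (e9_67) (Nat.ble 67 b)) (Nat.ble 66 b)) (Bool.rec (motive :=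 fun _ => ℕ) (Bool.rec (motive := fun _ => ℕ) (e9_68) (e9_69) (Nat.ble 69 b)) (Bool.rec (motive := fun _ => ℕ) (e9_70) (e9_71) (Nat.ble 71 b)) (Nat.ble 70 b)) (Nat.ble 68 b)) (Bool.rec (motive := fun _ => ℕ) (Bool.rec (motive := fun _ => ℕ) (Bool.rec (motive := fun _ => ℕ) (e9_72) (e9_73) (Nat.ble 73 b)) (Bool.rec (motive := fun _ => ℕ) (e9_74) (e9_75) (Nat.ble 75 b)) (Nat.ble 74 b)) (Bool.rec (motive := fun _ => ℕ) (Bool.rec (motive := fun _ => ℕ) (e9_76) (e9_77) (Nat.ble 77 b)) (Bool.rec (motive := fun _ => ℕ) (e9_78) (e9_79) (Nat.ble 79 b)) (Nat.ble 78 b)) (Nat.ble 76 b)) (Nat.ble 72 b)) (Bool.rec (motive := fun _ => ℕ) (Bool.rec (motive := fun _ => ℕ) (Bool.rec (motive := fun _ => ℕ) (Bool.rec (motive := fun _ => ℕ) (e9_80) (e9_81) (Nat.ble 81 b)) (Bool.rec (motive := fun _ => ℕ) (e9_82) (e9_83) (Nat.ble 83 b)) (Nat.ble 82 b)) (Bool.rec (motive := fun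 _ => ℕ) (Bool.rec (motive := fun _ => ℕ) (e9_84) (e9_85) (Nat.ble 85 b)) (Bool.rec (motive := fun _ => ℕ) (e9_86) (e9_87) (Nat.ble 87 b)) (Nat.ble 86 b)) (Nat.ble 84 b)) (Bool.rec (motive := fun _ => ℕ) (Bool.rec (motive := fun _ => ℕ) (Bool.rec (motive := fun _ => ℕ) (e9_88) (e9_89) (Nat.ble 89 b)) (Bool.rec (motive := fun _ => ℕ) (e9_90) (e9_91) (Nat.ble 91 b)) (Nat.ble 90 b)) (Bool.rec (motive := fun _ => ℕ) (Bool.rec (motive := fun _ => ℕ) (e9_92) (e9_93) (Nat.ble 93 b)) (Bool.rec (motive := fun _ => ℕ) (e9_94) (e9_95) (Nat.ble 95 b)) (Nat.ble 94 b)) (Nat.ble 92 b)) (Nat.ble 88 b)) (Nat.ble 80 b)) (Bool.rec (motive := fun _ => ℕ) (Bool.rec (motive := fun _ => ℕ) (Bool.rec (motive := fun _ => ℕ) (Bool.rec (motive := fun _ => ℕ) (Bool.rec (motive := fun _ => ℕ) (e9_96) (e9_97) (Nat.ble 97 b)) (Bool.rec (motive := fun _ => ℕ) (e9_98) (e9_99) (Nat.ble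 99 b)) (Nat.ble 98 b)) (Bool.rec (motive := fun _ => ℕ) (Bool.rec (motive := fun _ => ℕ) (e9_100) (e9_101) (Nat.ble 101 b)) (Bool.rec (motive := fun _ => ℕ) (e9_102) (e9_103) (Nat.ble 103 b)) (Nat.ble 102 b)) (Nat.ble 100 b)) (Bool.rec (motive := fun _ => ℕ) (Bool.rec (motive := fun _ => ℕ) (Bool.rec (motive := fun _ => ℕ) (e9_104) (e9_105) (Nat.ble 105 b)) (Bool.rec (motive := fun _ => ℕ) (e9_106) (e9_107) (Nat.ble 107 b)) (Nat.ble 106 b)) (Bool.rec (motive := fun _ => ℕ) (Bool.rec (motive := fun _ => ℕ) (e9_108) (e9_109) (Nat.ble 109 b)) (Bool.rec (motive := fun _ => ℕ) (e9_110) (e9_111) (Nat.ble 111 b)) (Nat.ble 110 b)) (Nat.ble 108 b)) (Nat.ble 104 b)) (Bool.rec (motive := fun _ => ℕ) (Bool.rec (motive := fun _ => ℕ) (Bool.rec (motive := fun _ => ℕ) (Bool.rec (motive := fun _ => ℕ) (e9_112) (e9_113) (Nat.ble 113 b)) (Bool.rec (motive := fun _ => ℕ)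 (e9_114) (e9_115) (Nat.ble 115 b)) (Nat.ble 114 b)) (Bool.rec (motive := fun _ => ℕ) (Bool.rec (motive := fun _ => ℕ) (e9_116) (e9_117) (Nat.ble 117 b)) (Bool.rec (motive := fun _ => ℕ) (e9_118) (e9_119) (Nat.ble 119 b)) (Nat.ble 118 b)) (Nat.ble 116 b)) (Bool.rec (motive := fun _ => ℕ) (Bool.rec (motive := fun _ => ℕ) (Bool.rec (motive := fun _ => ℕ) (e9_120) (e9_121) (Nat.ble 121 b)) (Bool.rec (motive := fun _ => ℕ) (e9_122) (e9_123) (Nat.ble 123 b)) (Nat.ble 122 b)) (Bool.rec (motive := fun _ => ℕ) (Bool.rec (motive := fun _ => ℕ) (e9_124) (e9_125) (Nat.ble 125 b)) (Bool.rec (motive := fun _ => ℕ) (e9_126) (e9_127) (Nat.ble 127 b)) (Nat.ble 126 b)) (Nat.ble 124 b)) (Nat.ble 120 b)) (Nat.ble 112 b)) (Nat.ble 96 b)) (Nat.ble 64 b)) (Bool.rec (motive := fun _ => ℕ) (Bool.rec (motive := fun _ => ℕ) (Bool.rec (motive := fun _ => ℕ) (Bool.rec (motive := fun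 _ => ℕ) (Bool.rec (motive := fun _ => ℕ) (Bool.rec (motive := fun _ => ℕ) (Bool.rec (motive := fun _ => ℕ) (e9_128) (e9_129) (Nat.ble 129 b)) (Bool.rec (motive := fun _ => ℕ) (e9_130) (e9_131) (Nat.ble 131 b)) (Nat.ble 130 b)) (Bool.rec (motive := fun _ => ℕ) (Bool.rec (motive := fun _ => ℕ) (e9_132) (e9_133) (Nat.ble 133 b)) (Bool.rec (motive := fun _ => ℕ) (e9_134) (e9_135) (Nat.ble 135 b)) (Nat.ble 134 b)) (Nat.ble 132 b)) (Bool.rec (motive := fun _ => ℕ) (Bool.rec (motive := fun _ => ℕ) (Bool.rec (motive := fun _ => ℕ) (e9_136) (e9_137) (Nat.ble 137 b)) (Bool.rec (motive := fun _ => ℕ) (e9_138) (e9_139) (Nat.ble 139 b)) (Nat.ble 138 b)) (Bool.rec (motive := fun _ => ℕ) (Bool.rec (motive := fun _ => ℕ) (e9_140) (e9_141) (Nat.ble 141 b)) (Bool.rec (motive := fun _ => ℕ) (e9_142) (e9_143) (Nat.ble 143 b)) (Nat.ble 142 b)) (Nat.ble 140 b)) (Nat.ble 136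 b)) (Bool.rec (motive := fun _ => ℕ) (Bool.rec (motive := fun _ => ℕ) (Bool.rec (motive := fun _ => ℕ) (Bool.rec (motive := fun _ => ℕ) (e9_144) (e9_145) (Nat.ble 145 b)) (Bool.rec (motive := fun _ => ℕ) (e9_146) (e9_147) (Nat.ble 147 b)) (Nat.ble 146 b)) (Bool.rec (motive := fun _ => ℕ) (Bool.rec (motive := fun _ => ℕ) (e9_148) (e9_149) (Nat.ble 149 b)) (Bool.rec (motive := fun _ => ℕ) (e9_150) (e9_151) (Nat.ble 151 b)) (Nat.ble 150 b)) (Nat.ble 148 b)) (Bool.rec (motive := fun _ => ℕ) (Bool.rec (motive := fun _ => ℕ) (Bool.rec (motive := fun _ => ℕ) (e9_152) (e9_153) (Nat.ble 153 b)) (Bool.rec (motive := fun _ => ℕ) (e9_154) (e9_155) (Nat.ble 155 b)) (Nat.ble 154 b)) (Bool.rec (motive := fun _ => ℕ) (Bool.rec (motive := fun _ => ℕ) (e9_156) (e9_157) (Nat.ble 157 b)) (Bool.rec (motive := fun _ => ℕ) (e9_158) (e9_159) (Nat.ble 159 b)) (Nat.ble 158 b))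 (Nat.ble 156 b)) (Nat.ble 152 b)) (Nat.ble 144 b)) (Bool.rec (motive := fun _ => ℕ) (Bool.rec (motive := fun _ => ℕ) (Bool.rec (motive := fun _ => ℕ) (Bool.rec (motive := fun _ => ℕ) (Bool.rec (motive := fun _ => ℕ) (e9_160) (e9_161) (Nat.ble 161 b)) (Bool.rec (motive := fun _ => ℕ) (e9_162) (e9_163) (Nat.ble 163 b)) (Nat.ble 162 b)) (Bool.rec (motive := fun _ => ℕ) (Bool.rec (motive := fun _ => ℕ) (e9_164) (e9_165) (Nat.ble 165 b)) (Bool.rec (motive := fun _ => ℕ) (e9_166) (e9_167) (Nat.ble 167 b)) (Nat.ble 166 b)) (Nat.ble 164 b)) (0) (Nat.ble 168 b)) (0) (Nat.ble 176 b)) (Nat.ble 160 b)) (0) (Nat.ble 192 b)) (Nat.ble 128 b))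
noncomputable def jcol9 (b : ℕ) : ℕ := (Bool.rec (motive := fun _ => ℕ) (Bool.rec (motive := fun _ => ℕ) (Bool.rec (motive := fun _ => ℕ) (Bool.rec (motive := fun _ => ℕ) (Bool.rec (motive := fun _ => ℕ) (Bool.rec (motive := fun _ => ℕ) (Bool.rec (motive := fun _ => ℕ) (Bool.rec (motive := fun _ => ℕ) (j9_0) (j9_1) (Nat.ble 1 b)) (Bool.rec (motive := fun _ => ℕ) (j9_2) (j9_3) (Nat.ble 3 b)) (Nat.ble 2 b)) (Bool.rec (motive := fun _ => ℕ) (Bool.rec (motive := fun _ => ℕ) (j9_4) (j9_5) (Nat.ble 5 b)) (Bool.rec (motive := fun _ => ℕ) (j9_6) (j9_7) (Nat.ble 7 b)) (Nat.ble 6 b)) (Nat.ble 4 b)) (Bool.rec (motive := fun _ => ℕ) (Bool.rec (motive := fun _ => ℕ) (Bool.rec (motive := fun _ => ℕ) (j9_8) (j9_9) (Nat.ble 9 b)) (Bool.rec (motive := fun _ => ℕ) (j9_10) (j9_11) (Nat.ble 11 b)) (Nat.ble 10 b)) (Bool.rec (motive := fun _ => ℕ) (Bool.rec (motive := fun _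 => ℕ) (j9_12) (j9_13) (Nat.ble 13 b)) (Bool.rec (motive := fun _ => ℕ) (j9_14) (j9_15) (Nat.ble 15 b)) (Nat.ble 14 b)) (Nat.ble 12 b)) (Nat.ble 8 b)) (Bool.rec (motive := fun _ => ℕ) (Bool.rec (motive := fun _ => ℕ) (Bool.rec (motive := fun _ => ℕ) (Bool.rec (motive := fun _ => ℕ) (j9_16) (j9_17) (Nat.ble 17 b)) (Bool.rec (motive := fun _ => ℕ) (j9_18) (j9_19) (Nat.ble 19 b)) (Nat.ble 18 b)) (Bool.rec (motive := fun _ => ℕ) (Bool.rec (motive := fun _ => ℕ) (j9_20) (j9_21) (Nat.ble 21 b)) (Bool.rec (motive := fun _ => ℕ) (j9_22) (j9_23) (Nat.ble 23 b)) (Nat.ble 22 b)) (Nat.ble 20 b)) (Bool.rec (motive := fun _ => ℕ) (Bool.rec (motive := fun _ => ℕ) (Bool.rec (motive := fun _ => ℕ) (j9_24) (j9_25) (Nat.ble 25 b)) (Bool.rec (motive := fun _ => ℕ) (j9_26) (j9_27) (Nat.ble 27 b)) (Nat.ble 26 b)) (Bool.rec (motive := fun _ => ℕ) (Bool.rec (motive := fun _ =>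 ℕ) (j9_28) (j9_29) (Nat.ble 29 b)) (Bool.rec (motive := fun _ => ℕ) (j9_30) (j9_31) (Nat.ble 31 b)) (Nat.ble 30 b)) (Nat.ble 28 b)) (Nat.ble 24 b)) (Nat.ble 16 b)) (Bool.rec (motive := fun _ => ℕ) (Bool.rec (motive := fun _ => ℕ) (Bool.rec (motive := fun _ => ℕ) (Bool.rec (motive := fun _ => ℕ) (Bool.rec (motive := fun _ => ℕ) (j9_32) (j9_33) (Nat.ble 33 b)) (Bool.rec (motive := fun _ => ℕ) (j9_34) (j9_35) (Nat.ble 35 b)) (Nat.ble 34 b)) (Bool.rec (motive := fun _ => ℕ) (Bool.rec (motive := fun _ => ℕ) (j9_36) (j9_37) (Nat.ble 37 b)) (Bool.rec (motive := fun _ => ℕ) (j9_38) (j9_39) (Nat.ble 39 b)) (Nat.ble 38 b)) (Nat.ble 36 b)) (Bool.rec (motive := fun _ => ℕ) (Bool.rec (motive := fun _ => ℕ) (Bool.rec (motive := fun _ => ℕ) (j9_40) (j9_41) (Nat.ble 41 b)) (Bool.rec (motive := fun _ => ℕ) (j9_42) (j9_43) (Nat.ble 43 b)) (Nat.ble 42 b)) (Bool.rec (motive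 := fun _ => ℕ) (Bool.rec (motive := fun _ => ℕ) (j9_44) (j9_45) (Nat.ble 45 b)) (Bool.rec (motive := fun _ => ℕ) (j9_46) (j9_47) (Nat.ble 47 b)) (Nat.ble 46 b)) (Nat.ble 44 b)) (Nat.ble 40 b)) (Bool.rec (motive := fun _ => ℕ) (Bool.rec (motive := fun _ => ℕ) (Bool.rec (motive := fun _ => ℕ) (Bool.rec (motive := fun _ => ℕ) (j9_48) (j9_49) (Nat.ble 49 b)) (Bool.rec (motive := fun _ => ℕ) (j9_50) (j9_51) (Nat.ble 51 b)) (Nat.ble 50 b)) (Bool.rec (motive := fun _ => ℕ) (Bool.rec (motive := fun _ => ℕ) (j9_52) (j9_53) (Nat.ble 53 b)) (Bool.rec (motive := fun _ => ℕ) (j9_54) (j9_55) (Nat.ble 55 b)) (Nat.ble 54 b)) (Nat.ble 52 b)) (Bool.rec (motive := fun _ => ℕ) (Bool.rec (motive := fun _ => ℕ) (Bool.rec (motive := fun _ => ℕ) (j9_56) (j9_57) (Nat.ble 57 b)) (Bool.rec (motive := fun _ => ℕ) (j9_58) (j9_59) (Nat.ble 59 b)) (Nat.ble 58 b)) (Bool.rec (motive :=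 fun _ => ℕ) (Bool.rec (motive := fun _ => ℕ) (j9_60) (j9_61) (Nat.ble 61 b)) (Bool.rec (motive := fun _ => ℕ) (j9_62) (j9_63) (Nat.ble 63 b)) (Nat.ble 62 b)) (Nat.ble 60 b)) (Nat.ble 56 b)) (Nat.ble 48 b)) (Nat.ble 32 b)) (Bool.rec (motive := fun _ => ℕ) (Bool.rec (motive := fun _ => ℕ) (Bool.rec (motive := fun _ => ℕ) (Bool.rec (motive := fun _ => ℕ) (Bool.rec (motive := fun _ => ℕ) (Bool.rec (motive := fun _ => ℕ) (j9_64) (j9_65) (Nat.ble 65 b)) (Bool.rec (motive := fun _ => ℕ) (j9_66) (j9_67) (Nat.ble 67 b)) (Nat.ble 66 b)) (Bool.rec (motive := fun _ => ℕ) (Bool.rec (motive := fun _ => ℕ) (j9_68) (j9_69) (Nat.ble 69 b)) (Bool.rec (motive := fun _ => ℕ) (j9_70) (j9_71) (Nat.ble 71 b)) (Nat.ble 70 b)) (Nat.ble 68 b)) (Bool.rec (motive := fun _ => ℕ) (Bool.rec (motive := fun _ => ℕ) (Bool.rec (motive := fun _ => ℕ) (j9_72) (j9_73) (Nat.ble 73 b)) (Bool.rec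 (motive := fun _ => ℕ) (j9_74) (j9_75) (Nat.ble 75 b)) (Nat.ble 74 b)) (Bool.rec (motive := fun _ => ℕ) (Bool.rec (motive := fun _ => ℕ) (j9_76) (j9_77) (Nat.ble 77 b)) (Bool.rec (motive := fun _ => ℕ) (j9_78) (j9_79) (Nat.ble 79 b)) (Nat.ble 78 b)) (Nat.ble 76 b)) (Nat.ble 72 b)) (Bool.rec (motive := fun _ => ℕ) (Bool.rec (motive := fun _ => ℕ) (Bool.rec (motive := fun _ => ℕ) (Bool.rec (motive := fun _ => ℕ) (j9_80) (j9_81) (Nat.ble 81 b)) (Bool.rec (motive := fun _ => ℕ) (j9_82) (j9_83) (Nat.ble 83 b)) (Nat.ble 82 b)) (Bool.rec (motive := fun _ => ℕ) (Bool.rec (motive := fun _ => ℕ) (j9_84) (j9_85) (Nat.ble 85 b)) (Bool.rec (motive := fun _ => ℕ) (j9_86) (j9_87) (Nat.ble 87 b)) (Nat.ble 86 b)) (Nat.ble 84 b)) (Bool.rec (motive := fun _ => ℕ) (Bool.rec (motive := fun _ => ℕ) (Bool.rec (motive := fun _ => ℕ) (j9_88) (j9_89) (Nat.ble 89 b)) (Bool.rec (motive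 := fun _ => ℕ) (j9_90) (j9_91) (Nat.ble 91 b)) (Nat.ble 90 b)) (Bool.rec (motive := fun _ => ℕ) (Bool.rec (motive := fun _ => ℕ) (j9_92) (j9_93) (Nat.ble 93 b)) (Bool.rec (motive := fun _ => ℕ) (j9_94) (j9_95) (Nat.ble 95 b)) (Nat.ble 94 b)) (Nat.ble 92 b)) (Nat.ble 88 b)) (Nat.ble 80 b)) (Bool.rec (motive := fun _ => ℕ) (Bool.rec (motive := fun _ => ℕ) (Bool.rec (motive := fun _ => ℕ) (Bool.rec (motive := fun _ => ℕ) (Bool.rec (motive := fun _ => ℕ) (j9_96) (j9_97) (Nat.ble 97 b)) (Bool.rec (motive := fun _ => ℕ) (j9_98) (j9_99) (Nat.ble 99 b)) (Nat.ble 98 b)) (Bool.rec (motive := fun _ => ℕ) (Bool.rec (motive := fun _ => ℕ) (j9_100) (j9_101) (Nat.ble 101 b)) (Bool.rec (motive := fun _ => ℕ) (j9_102) (j9_103) (Nat.ble 103 b)) (Nat.ble 102 b)) (Nat.ble 100 b)) (Bool.rec (motive := fun _ => ℕ) (Bool.rec (motive := fun _ => ℕ) (Bool.rec (motive := fun _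 => ℕ) (j9_104) (j9_105) (Nat.ble 105 b)) (Bool.rec (motive := fun _ => ℕ) (j9_106) (j9_107) (Nat.ble 107 b)) (Nat.ble 106 b)) (Bool.rec (motive := fun _ => ℕ) (Bool.rec (motive := fun _ => ℕ) (j9_108) (j9_109) (Nat.ble 109 b)) (Bool.rec (motive := fun _ => ℕ) (j9_110) (j9_111) (Nat.ble 111 b)) (Nat.ble 110 b)) (Nat.ble 108 b)) (Nat.ble 104 b)) (Bool.rec (motive := fun _ => ℕ) (Bool.rec (motive := fun _ => ℕ) (Bool.rec (motive := fun _ => ℕ) (Bool.rec (motive := fun _ => ℕ) (j9_112) (j9_113) (Nat.ble 113 b)) (Bool.rec (motive := fun _ => ℕ) (j9_114) (j9_115) (Nat.ble 115 b)) (Nat.ble 114 b)) (Bool.rec (motive := fun _ => ℕ) (Bool.rec (motive := fun _ => ℕ) (j9_116) (j9_117) (Nat.ble 117 b)) (Bool.rec (motive := fun _ => ℕ) (j9_118) (j9_119) (Nat.ble 119 b)) (Nat.ble 118 b)) (Nat.ble 116 b)) (Bool.rec (motive := fun _ => ℕ) (Bool.rec (motive := fun _ =>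 ℕ) (Bool.rec (motive := fun _ => ℕ) (j9_120) (j9_121) (Nat.ble 121 b)) (Bool.rec (motive := fun _ => ℕ) (j9_122) (j9_123) (Nat.ble 123 b)) (Nat.ble 122 b)) (Bool.rec (motive := fun _ => ℕ) (Bool.rec (motive := fun _ => ℕ) (j9_124) (j9_125) (Nat.ble 125 b)) (Bool.rec (motive := fun _ => ℕ) (j9_126) (j9_127) (Nat.ble 127 b)) (Nat.ble 126 b)) (Nat.ble 124 b)) (Nat.ble 120 b)) (Nat.ble 112 b)) (Nat.ble 96 b)) (Nat.ble 64 b)) (Bool.rec (motive := fun _ => ℕ) (Bool.rec (motive := fun _ => ℕ) (Bool.rec (motive := fun _ => ℕ) (Bool.rec (motive := fun _ => ℕ) (Bool.rec (motive := fun _ => ℕ) (Bool.rec (motive := fun _ => ℕ) (Bool.rec (motive := fun _ => ℕ) (j9_128) (j9_129) (Nat.ble 129 b)) (Bool.rec (motive := fun _ => ℕ) (j9_130) (j9_131) (Nat.ble 131 b)) (Nat.ble 130 b)) (Bool.rec (motive := fun _ => ℕ) (Bool.rec (motive := fun _ => ℕ) (j9_132) (j9_133) (Nat.ble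 133 b)) (Bool.rec (motive := fun _ => ℕ) (j9_134) (j9_135) (Nat.ble 135 b)) (Nat.ble 134 b)) (Nat.ble 132 b)) (Bool.rec (motive := fun _ => ℕ) (Bool.rec (motive := fun _ => ℕ) (Bool.rec (motive := fun _ => ℕ) (j9_136) (j9_137) (Nat.ble 137 b)) (Bool.rec (motive := fun _ => ℕ) (j9_138) (j9_139) (Nat.ble 139 b)) (Nat.ble 138 b)) (Bool.rec (motive := fun _ => ℕ) (Bool.rec (motive := fun _ => ℕ) (j9_140) (j9_141) (Nat.ble 141 b)) (Bool.rec (motive := fun _ => ℕ) (j9_142) (j9_143) (Nat.ble 143 b)) (Nat.ble 142 b)) (Nat.ble 140 b)) (Nat.ble 136 b)) (Bool.rec (motive := fun _ => ℕ) (Bool.rec (motive := fun _ => ℕ) (Bool.rec (motive := fun _ => ℕ) (Bool.rec (motive := fun _ => ℕ) (j9_144) (j9_145) (Nat.ble 145 b)) (Bool.rec (motive := fun _ => ℕ) (j9_146) (j9_147) (Nat.ble 147 b)) (Nat.ble 146 b)) (Bool.rec (motive := fun _ => ℕ) (Bool.rec (motive := fun _ =>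 ℕ) (j9_148) (j9_149) (Nat.ble 149 b)) (Bool.rec (motive := fun _ => ℕ) (j9_150) (j9_151) (Nat.ble 151 b)) (Nat.ble 150 b)) (Nat.ble 148 b)) (Bool.rec (motive := fun _ => ℕ) (Bool.rec (motive := fun _ => ℕ) (Bool.rec (motive := fun _ => ℕ) (j9_152) (j9_153) (Nat.ble 153 b)) (Bool.rec (motive := fun _ => ℕ) (j9_154) (j9_155) (Nat.ble 155 b)) (Nat.ble 154 b)) (Bool.rec (motive := fun _ => ℕ) (Bool.rec (motive := fun _ => ℕ) (j9_156) (j9_157) (Nat.ble 157 b)) (Bool.rec (motive := fun _ => ℕ) (j9_158) (j9_159) (Nat.ble 159 b)) (Nat.ble 158 b)) (Nat.ble 156 b)) (Nat.ble 152 b)) (Nat.ble 144 b)) (Bool.rec (motive := fun _ => ℕ) (Bool.rec (motive := fun _ => ℕ) (Bool.rec (motive := fun _ => ℕ) (Bool.rec (motive := fun _ => ℕ) (Bool.rec (motive := fun _ => ℕ) (j9_160) (j9_161) (Nat.ble 161 b)) (Bool.rec (motive := fun _ => ℕ) (j9_162) (j9_163) (Nat.ble 163 b))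 (Nat.ble 162 b)) (Bool.rec (motive := fun _ => ℕ) (Bool.rec (motive := fun _ => ℕ) (j9_164) (j9_165) (Nat.ble 165 b)) (Bool.rec (motive := fun _ => ℕ) (j9_166) (j9_167) (Nat.ble 167 b)) (Nat.ble 166 b)) (Nat.ble 164 b)) (0) (Nat.ble 168 b)) (0) (Nat.ble 176 b)) (Nat.ble 160 b)) (0) (Nat.ble 192 b)) (Nat.ble 128 b))
noncomputable def ecol10 (b : ℕ) : ℕ := (Bool.rec (motive := fun _ => ℕ) (Bool.rec (motive := fun _ => ℕ) (Bool.rec (motive := fun _ => ℕ) (Bool.rec (motive := fun _ => ℕ) (Bool.rec (motive := fun _ => ℕ) (Bool.rec (motive := fun _ => ℕ) (Bool.rec (motive := fun _ => ℕ) (Bool.rec (motive := fun _ => ℕ) (e10_0) (e10_1) (Nat.ble 1 b)) (Bool.rec (motive := fun _ => ℕ) (e10_2) (e10_3) (Nat.ble 3 b)) (Nat.ble 2 b)) (Bool.rec (motive := fun _ => ℕ) (Bool.rec (motive := fun _ => ℕ) (e10_4) (e10_5) (Nat.ble 5 b)) (Bool.rec (motive := fun _ => ℕ) (e10_6)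 (e10_7) (Nat.ble 7 b)) (Nat.ble 6 b)) (Nat.ble 4 b)) (Bool.rec (motive := fun _ => ℕ) (Bool.rec (motive := fun _ => ℕ) (Bool.rec (motive := fun _ => ℕ) (e10_8) (e10_9) (Nat.ble 9 b)) (Bool.rec (motive := fun _ => ℕ) (e10_10) (e10_11) (Nat.ble 11 b)) (Nat.ble 10 b)) (Bool.rec (motive := fun _ => ℕ) (Bool.rec (motive := fun _ => ℕ) (e10_12) (e10_13) (Nat.ble 13 b)) (Bool.rec (motive := fun _ => ℕ) (e10_14) (e10_15) (Nat.ble 15 b)) (Nat.ble 14 b)) (Nat.ble 12 b)) (Nat.ble 8 b)) (Bool.rec (motive := fun _ => ℕ) (Bool.rec (motive := fun _ => ℕ) (Bool.rec (motive := fun _ => ℕ) (Bool.rec (motive := fun _ => ℕ) (e10_16) (e10_17) (Nat.ble 17 b)) (Bool.rec (motive := fun _ => ℕ) (e10_18) (e10_19) (Nat.ble 19 b)) (Nat.ble 18 b)) (Bool.rec (motive := fun _ => ℕ) (Bool.rec (motive := fun _ => ℕ) (e10_20) (e10_21) (Nat.ble 21 b)) (Bool.rec (motive := fun _ => ℕ) (e10_22)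 (e10_23) (Nat.ble 23 b)) (Nat.ble 22 b)) (Nat.ble 20 b)) (Bool.rec (motive := fun _ => ℕ) (Bool.rec (motive := fun _ => ℕ) (Bool.rec (motive := fun _ => ℕ) (e10_24) (e10_25) (Nat.ble 25 b)) (Bool.rec (motive := fun _ => ℕ) (e10_26) (e10_27) (Nat.ble 27 b)) (Nat.ble 26 b)) (Bool.rec (motive := fun _ => ℕ) (Bool.rec (motive := fun _ => ℕ) (e10_28) (e10_29) (Nat.ble 29 b)) (Bool.rec (motive := fun _ => ℕ) (e10_30) (e10_31) (Nat.ble 31 b)) (Nat.ble 30 b)) (Nat.ble 28 b)) (Nat.ble 24 b)) (Nat.ble 16 b)) (Bool.rec (motive := fun _ => ℕ) (Bool.rec (motive := fun _ => ℕ) (Bool.rec (motive := fun _ => ℕ) (Bool.rec (motive := fun _ => ℕ) (Bool.rec (motive := fun _ => ℕ) (e10_32) (e10_33) (Nat.ble 33 b)) (Bool.rec (motive := fun _ => ℕ) (e10_34) (e10_35) (Nat.ble 35 b)) (Nat.ble 34 b)) (Bool.rec (motive := fun _ => ℕ) (Bool.rec (motive := fun _ => ℕ) (e10_36) (e10_37)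 (Nat.ble 37 b)) (Bool.rec (motive := fun _ => ℕ) (e10_38) (e10_39) (Nat.ble 39 b)) (Nat.ble 38 b)) (Nat.ble 36 b)) (Bool.rec (motive := fun _ => ℕ) (Bool.rec (motive := fun _ => ℕ) (Bool.rec (motive := fun _ => ℕ) (e10_40) (e10_41) (Nat.ble 41 b)) (Bool.rec (motive := fun _ => ℕ) (e10_42) (e10_43) (Nat.ble 43 b)) (Nat.ble 42 b)) (Bool.rec (motive := fun _ => ℕ) (Bool.rec (motive := fun _ => ℕ) (e10_44) (e10_45) (Nat.ble 45 b)) (Bool.rec (motive := fun _ => ℕ) (e10_46) (e10_47) (Nat.ble 47 b)) (Nat.ble 46 b)) (Nat.ble 44 b)) (Nat.ble 40 b)) (Bool.rec (motive := fun _ => ℕ) (Bool.rec (motive := fun _ => ℕ) (Bool.rec (motive := fun _ => ℕ) (Bool.rec (motive := fun _ => ℕ) (e10_48) (e10_49) (Nat.ble 49 b)) (Bool.rec (motive := fun _ => ℕ) (e10_50) (e10_51) (Nat.ble 51 b)) (Nat.ble 50 b)) (Bool.rec (motive := fun _ => ℕ) (Bool.rec (motive := fun _ => ℕ) (e10_52)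 (e10_53) (Nat.ble 53 b)) (Bool.rec (motive := fun _ => ℕ) (e10_54) (e10_55) (Nat.ble 55 b)) (Nat.ble 54 b)) (Nat.ble 52 b)) (Bool.rec (motive := fun _ => ℕ) (Bool.rec (motive := fun _ => ℕ) (Bool.rec (motive := fun _ => ℕ) (e10_56) (e10_57) (Nat.ble 57 b)) (Bool.rec (motive := fun _ => ℕ) (e10_58) (e10_59) (Nat.ble 59 b)) (Nat.ble 58 b)) (Bool.rec (motive := fun _ => ℕ) (Bool.rec (motive := fun _ => ℕ) (e10_60) (e10_61) (Nat.ble 61 b)) (Bool.rec (motive := fun _ => ℕ) (e10_62) (e10_63) (Nat.ble 63 b)) (Nat.ble 62 b)) (Nat.ble 60 b)) (Nat.ble 56 b)) (Nat.ble 48 b)) (Nat.ble 32 b)) (Bool.rec (motive := fun _ => ℕ) (Bool.rec (motive := fun _ => ℕ) (Bool.rec (motive := fun _ => ℕ) (Bool.rec (motive := fun _ => ℕ) (Bool.rec (motive := fun _ => ℕ) (Bool.rec (motive := fun _ => ℕ) (e10_64) (e10_65) (Nat.ble 65 b)) (Bool.rec (motive := fun _ => ℕ) (e10_66) (e10_67)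 (Nat.ble 67 b)) (Nat.ble 66 b)) (Bool.rec (motive := fun _ => ℕ) (Bool.rec (motive := fun _ => ℕ) (e10_68) (e10_69) (Nat.ble 69 b)) (Bool.rec (motive := fun _ => ℕ) (e10_70) (e10_71) (Nat.ble 71 b)) (Nat.ble 70 b)) (Nat.ble 68 b)) (Bool.rec (motive := fun _ => ℕ) (Bool.rec (motive := fun _ => ℕ) (Bool.rec (motive := fun _ => ℕ) (e10_72) (e10_73) (Nat.ble 73 b)) (Bool.rec (motive := fun _ => ℕ) (e10_74) (e10_75) (Nat.ble 75 b)) (Nat.ble 74 b)) (Bool.rec (motive := fun _ => ℕ) (Bool.rec (motive := fun _ => ℕ) (e10_76) (e10_77) (Nat.ble 77 b)) (Bool.rec (motive := fun _ => ℕ) (e10_78) (e10_79) (Nat.ble 79 b)) (Nat.ble 78 b)) (Nat.ble 76 b)) (Nat.ble 72 b)) (Bool.rec (motive := fun _ => ℕ) (Bool.rec (motive := fun _ => ℕ) (Bool.rec (motive := fun _ => ℕ) (Bool.rec (motive := fun _ => ℕ) (e10_80) (e10_81) (Nat.ble 81 b)) (Bool.rec (motive := fun _ => ℕ) (e10_82)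 (e10_83) (Nat.ble 83 b)) (Nat.ble 82 b)) (Bool.rec (motive := fun _ => ℕ) (Bool.rec (motive := fun _ => ℕ) (e10_84) (e10_85) (Nat.ble 85 b)) (Bool.rec (motive := fun _ => ℕ) (e10_86) (e10_87) (Nat.ble 87 b)) (Nat.ble 86 b)) (Nat.ble 84 b)) (Bool.rec (motive := fun _ => ℕ) (Bool.rec (motive := fun _ => ℕ) (Bool.rec (motive := fun _ => ℕ) (e10_88) (e10_89) (Nat.ble 89 b)) (Bool.rec (motive := fun _ => ℕ) (e10_90) (e10_91) (Nat.ble 91 b)) (Nat.ble 90 b)) (Bool.rec (motive := fun _ => ℕ) (Bool.rec (motive := fun _ => ℕ) (e10_92) (e10_93) (Nat.ble 93 b)) (Bool.rec (motive := fun _ => ℕ) (e10_94) (e10_95) (Nat.ble 95 b)) (Nat.ble 94 b)) (Nat.ble 92 b)) (Nat.ble 88 b)) (Nat.ble 80 b)) (Bool.rec (motive := fun _ => ℕ) (Bool.rec (motive := fun _ => ℕ) (Bool.rec (motive := fun _ => ℕ) (Bool.rec (motive := fun _ => ℕ) (Bool.rec (motive := fun _ => ℕ) (e10_96) (e10_97)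 (Nat.ble 97 b)) (Bool.rec (motive := fun _ => ℕ) (e10_98) (e10_99) (Nat.ble 99 b)) (Nat.ble 98 b)) (Bool.rec (motive := fun _ => ℕ) (Bool.rec (motive := fun _ => ℕ) (e10_100) (e10_101) (Nat.ble 101 b)) (Bool.rec (motive := fun _ => ℕ) (e10_102) (e10_103) (Nat.ble 103 b)) (Nat.ble 102 b)) (Nat.ble 100 b)) (Bool.rec (motive := fun _ => ℕ) (Bool.rec (motive := fun _ => ℕ) (Bool.rec (motive := fun _ => ℕ) (e10_104) (e10_105) (Nat.ble 105 b)) (Bool.rec (motive := fun _ => ℕ) (e10_106) (e10_107) (Nat.ble 107 b)) (Nat.ble 106 b)) (Bool.rec (motive := fun _ => ℕ) (Bool.rec (motive := fun _ => ℕ) (e10_108) (e10_109) (Nat.ble 109 b)) (Bool.rec (motive := fun _ => ℕ) (e10_110) (e10_111) (Nat.ble 111 b)) (Nat.ble 110 b)) (Nat.ble 108 b)) (Nat.ble 104 b)) (Bool.rec (motive := fun _ => ℕ) (Bool.rec (motive := fun _ => ℕ) (Bool.rec (motive := fun _ => ℕ) (Bool.rec (motive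 := fun _ => ℕ) (e10_112) (e10_113) (Nat.ble 113 b)) (Bool.rec (motive := fun _ => ℕ) (e10_114) (e10_115) (Nat.ble 115 b)) (Nat.ble 114 b)) (Bool.rec (motive := fun _ => ℕ) (Bool.rec (motive := fun _ => ℕ) (e10_116) (e10_117) (Nat.ble 117 b)) (Bool.rec (motive := fun _ => ℕ) (e10_118) (e10_119) (Nat.ble 119 b)) (Nat.ble 118 b)) (Nat.ble 116 b)) (Bool.rec (motive := fun _ => ℕ) (Bool.rec (motive := fun _ => ℕ) (Bool.rec (motive := fun _ => ℕ) (e10_120) (e10_121) (Nat.ble 121 b)) (Bool.rec (motive := fun _ => ℕ) (e10_122) (e10_123) (Nat.ble 123 b)) (Nat.ble 122 b)) (Bool.rec (motive := fun _ => ℕ) (Bool.rec (motive := fun _ => ℕ) (e10_124) (e10_125) (Nat.ble 125 b)) (Bool.rec (motive := fun _ => ℕ) (e10_126) (e10_127) (Nat.ble 127 b)) (Nat.ble 126 b)) (Nat.ble 124 b)) (Nat.ble 120 b)) (Nat.ble 112 b)) (Nat.ble 96 b)) (Nat.ble 64 b)) (Bool.rec (motive := fun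 _ => ℕ) (Bool.rec (motive := fun _ => ℕ) (Bool.rec (motive := fun _ => ℕ) (Bool.rec (motive := fun _ => ℕ) (Bool.rec (motive := fun _ => ℕ) (Bool.rec (motive := fun _ => ℕ) (Bool.rec (motive := fun _ => ℕ) (e10_128) (e10_129) (Nat.ble 129 b)) (Bool.rec (motive := fun _ => ℕ) (e10_130) (e10_131) (Nat.ble 131 b)) (Nat.ble 130 b)) (Bool.rec (motive := fun _ => ℕ) (Bool.rec (motive := fun _ => ℕ) (e10_132) (e10_133) (Nat.ble 133 b)) (Bool.rec (motive := fun _ => ℕ) (e10_134) (e10_135) (Nat.ble 135 b)) (Nat.ble 134 b)) (Nat.ble 132 b)) (Bool.rec (motive := fun _ => ℕ) (Bool.rec (motive := fun _ => ℕ) (Bool.rec (motive := fun _ => ℕ) (e10_136) (e10_137) (Nat.ble 137 b)) (Bool.rec (motive := fun _ => ℕ) (e10_138) (e10_139) (Nat.ble 139 b)) (Nat.ble 138 b)) (Bool.rec (motive := fun _ => ℕ) (Bool.rec (motive := fun _ => ℕ) (e10_140) (e10_141) (Nat.ble 141 b)) (Bool.rec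 (motive := fun _ => ℕ) (e10_142) (e10_143) (Nat.ble 143 b)) (Nat.ble 142 b)) (Nat.ble 140 b)) (Nat.ble 136 b)) (Bool.rec (motive := fun _ => ℕ) (Bool.rec (motive := fun _ => ℕ) (Bool.rec (motive := fun _ => ℕ) (Bool.rec (motive := fun _ => ℕ) (e10_144) (e10_145) (Nat.ble 145 b)) (Bool.rec (motive := fun _ => ℕ) (e10_146) (e10_147) (Nat.ble 147 b)) (Nat.ble 146 b)) (Bool.rec (motive := fun _ => ℕ) (Bool.rec (motive := fun _ => ℕ) (e10_148) (e10_149) (Nat.ble 149 b)) (Bool.rec (motive := fun _ => ℕ) (e10_150) (e10_151) (Nat.ble 151 b)) (Nat.ble 150 b)) (Nat.ble 148 b)) (Bool.rec (motive := fun _ => ℕ) (Bool.rec (motive := fun _ => ℕ) (Bool.rec (motive := fun _ => ℕ) (e10_152) (e10_153) (Nat.ble 153 b)) (Bool.rec (motive := fun _ => ℕ) (e10_154) (e10_155) (Nat.ble 155 b)) (Nat.ble 154 b)) (Bool.rec (motive := fun _ => ℕ) (Bool.rec (motive := fun _ => ℕ) (e10_156)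 (e10_157) (Nat.ble 157 b)) (Bool.rec (motive := fun _ => ℕ) (e10_158) (e10_159) (Nat.ble 159 b)) (Nat.ble 158 b)) (Nat.ble 156 b)) (Nat.ble 152 b)) (Nat.ble 144 b)) (Bool.rec (motive := fun _ => ℕ) (Bool.rec (motive := fun _ => ℕ) (Bool.rec (motive := fun _ => ℕ) (Bool.rec (motive := fun _ => ℕ) (Bool.rec (motive := fun _ => ℕ) (e10_160) (e10_161) (Nat.ble 161 b)) (Bool.rec (motive := fun _ => ℕ) (e10_162) (e10_163) (Nat.ble 163 b)) (Nat.ble 162 b)) (Bool.rec (motive := fun _ => ℕ) (Bool.rec (motive := fun _ => ℕ) (e10_164) (e10_165) (Nat.ble 165 b)) (Bool.rec (motive := fun _ => ℕ) (e10_166) (e10_167) (Nat.ble 167 b)) (Nat.ble 166 b)) (Nat.ble 164 b)) (0) (Nat.ble 168 b)) (0) (Nat.ble 176 b)) (Nat.ble 160 b)) (0) (Nat.ble 192 b)) (Nat.ble 128 b))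
noncomputable def jcol10 (b : ℕ) : ℕ := (Bool.rec (motive := fun _ => ℕ) (Bool.rec (motive := fun _ => ℕ) (Bool.rec (motive := fun _ => ℕ) (Bool.rec (motive := fun _ => ℕ) (Bool.rec (motive := fun _ => ℕ) (Bool.rec (motive := fun _ => ℕ) (Bool.rec (motive := fun _ => ℕ) (Bool.rec (motive := fun _ => ℕ) (j10_0) (j10_1) (Nat.ble 1 b)) (Bool.rec (motive := fun _ => ℕ) (j10_2) (j10_3) (Nat.ble 3 b)) (Nat.ble 2 b)) (Bool.rec (motive := fun _ => ℕ) (Bool.rec (motive := fun _ => ℕ) (j10_4) (j10_5) (Nat.ble 5 b)) (Bool.rec (motive := fun _ => ℕ) (j10_6) (j10_7) (Nat.ble 7 b)) (Nat.ble 6 b)) (Nat.ble 4 b)) (Bool.rec (motive := fun _ => ℕ) (Bool.rec (motive := fun _ => ℕ) (Bool.rec (motive := fun _ => ℕ) (j10_8) (j10_9) (Nat.ble 9 b)) (Bool.rec (motive := fun _ => ℕ) (j10_10) (j10_11) (Nat.ble 11 b)) (Nat.ble 10 b)) (Bool.rec (motive := fun _ => ℕ) (Bool.rec (motive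 := fun _ => ℕ) (j10_12) (j10_13) (Nat.ble 13 b)) (Bool.rec (motive := fun _ => ℕ) (j10_14) (j10_15) (Nat.ble 15 b)) (Nat.ble 14 b)) (Nat.ble 12 b)) (Nat.ble 8 b)) (Bool.rec (motive := fun _ => ℕ) (Bool.rec (motive := fun _ => ℕ) (Bool.rec (motive := fun _ => ℕ) (Bool.rec (motive := fun _ => ℕ) (j10_16) (j10_17) (Nat.ble 17 b)) (Bool.rec (motive := fun _ => ℕ) (j10_18) (j10_19) (Nat.ble 19 b)) (Nat.ble 18 b)) (Bool.rec (motive := fun _ => ℕ) (Bool.rec (motive := fun _ => ℕ) (j10_20) (j10_21) (Nat.ble 21 b)) (Bool.rec (motive := fun _ => ℕ) (j10_22) (j10_23) (Nat.ble 23 b)) (Nat.ble 22 b)) (Nat.ble 20 b)) (Bool.rec (motive := fun _ => ℕ) (Bool.rec (motive := fun _ => ℕ) (Bool.rec (motive := fun _ => ℕ) (j10_24) (j10_25) (Nat.ble 25 b)) (Bool.rec (motive := fun _ => ℕ) (j10_26) (j10_27) (Nat.ble 27 b)) (Nat.ble 26 b)) (Bool.rec (motive := fun _ => ℕ) (Bool.rec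 (motive := fun _ => ℕ) (j10_28) (j10_29) (Nat.ble 29 b)) (Bool.rec (motive := fun _ => ℕ) (j10_30) (j10_31) (Nat.ble 31 b)) (Nat.ble 30 b)) (Nat.ble 28 b)) (Nat.ble 24 b)) (Nat.ble 16 b)) (Bool.rec (motive := fun _ => ℕ) (Bool.rec (motive := fun _ => ℕ) (Bool.rec (motive := fun _ => ℕ) (Bool.rec (motive := fun _ => ℕ) (Bool.rec (motive := fun _ => ℕ) (j10_32) (j10_33) (Nat.ble 33 b)) (Bool.rec (motive := fun _ => ℕ) (j10_34) (j10_35) (Nat.ble 35 b)) (Nat.ble 34 b)) (Bool.rec (motive := fun _ => ℕ) (Bool.rec (motive := fun _ => ℕ) (j10_36) (j10_37) (Nat.ble 37 b)) (Bool.rec (motive := fun _ => ℕ) (j10_38) (j10_39) (Nat.ble 39 b)) (Nat.ble 38 b)) (Nat.ble 36 b)) (Bool.rec (motive := fun _ => ℕ) (Bool.rec (motive := fun _ => ℕ) (Bool.rec (motive := fun _ => ℕ) (j10_40) (j10_41) (Nat.ble 41 b)) (Bool.rec (motive := fun _ => ℕ) (j10_42) (j10_43) (Nat.ble 43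 b)) (Nat.ble 42 b)) (Bool.rec (motive := fun _ => ℕ) (Bool.rec (motive := fun _ => ℕ) (j10_44) (j10_45) (Nat.ble 45 b)) (Bool.rec (motive := fun _ => ℕ) (j10_46) (j10_47) (Nat.ble 47 b)) (Nat.ble 46 b)) (Nat.ble 44 b)) (Nat.ble 40 b)) (Bool.rec (motive := fun _ => ℕ) (Bool.rec (motive := fun _ => ℕ) (Bool.rec (motive := fun _ => ℕ) (Bool.rec (motive := fun _ => ℕ) (j10_48) (j10_49) (Nat.ble 49 b)) (Bool.rec (motive := fun _ => ℕ) (j10_50) (j10_51) (Nat.ble 51 b)) (Nat.ble 50 b)) (Bool.rec (motive := fun _ => ℕ) (Bool.rec (motive := fun _ => ℕ) (j10_52) (j10_53) (Nat.ble 53 b)) (Bool.rec (motive := fun _ => ℕ) (j10_54) (j10_55) (Nat.ble 55 b)) (Nat.ble 54 b)) (Nat.ble 52 b)) (Bool.rec (motive := fun _ => ℕ) (Bool.rec (motive := fun _ => ℕ) (Bool.rec (motive := fun _ => ℕ) (j10_56) (j10_57) (Nat.ble 57 b)) (Bool.rec (motive := fun _ => ℕ) (j10_58) (j10_59)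 (Nat.ble 59 b)) (Nat.ble 58 b)) (Bool.rec (motive := fun _ => ℕ) (Bool.rec (motive := fun _ => ℕ) (j10_60) (j10_61) (Nat.ble 61 b)) (Bool.rec (motive := fun _ => ℕ) (j10_62) (j10_63) (Nat.ble 63 b)) (Nat.ble 62 b)) (Nat.ble 60 b)) (Nat.ble 56 b)) (Nat.ble 48 b)) (Nat.ble 32 b)) (Bool.rec (motive := fun _ => ℕ) (Bool.rec (motive := fun _ => ℕ) (Bool.rec (motive := fun _ => ℕ) (Bool.rec (motive := fun _ => ℕ) (Bool.rec (motive := fun _ => ℕ) (Bool.rec (motive := fun _ => ℕ) (j10_64) (j10_65) (Nat.ble 65 b)) (Bool.rec (motive := fun _ => ℕ) (j10_66) (j10_67) (Nat.ble 67 b)) (Nat.ble 66 b)) (Bool.rec (motive := fun _ => ℕ) (Bool.rec (motive := fun _ => ℕ) (j10_68) (j10_69) (Nat.ble 69 b)) (Bool.rec (motive := fun _ => ℕ) (j10_70) (j10_71) (Nat.ble 71 b)) (Nat.ble 70 b)) (Nat.ble 68 b)) (Bool.rec (motive := fun _ => ℕ) (Bool.rec (motive := fun _ => ℕ) (Bool.rec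 (motive := fun _ => ℕ) (j10_72) (j10_73) (Nat.ble 73 b)) (Bool.rec (motive := fun _ => ℕ) (j10_74) (j10_75) (Nat.ble 75 b)) (Nat.ble 74 b)) (Bool.rec (motive := fun _ => ℕ) (Bool.rec (motive := fun _ => ℕ) (j10_76) (j10_77) (Nat.ble 77 b)) (Bool.rec (motive := fun _ => ℕ) (j10_78) (j10_79) (Nat.ble 79 b)) (Nat.ble 78 b)) (Nat.ble 76 b)) (Nat.ble 72 b)) (Bool.rec (motive := fun _ => ℕ) (Bool.rec (motive := fun _ => ℕ) (Bool.rec (motive := fun _ => ℕ) (Bool.rec (motive := fun _ => ℕ) (j10_80) (j10_81) (Nat.ble 81 b)) (Bool.rec (motive := fun _ => ℕ) (j10_82) (j10_83) (Nat.ble 83 b)) (Nat.ble 82 b)) (Bool.rec (motive := fun _ => ℕ) (Bool.rec (motive := fun _ => ℕ) (j10_84) (j10_85) (Nat.ble 85 b)) (Bool.rec (motive := fun _ => ℕ) (j10_86) (j10_87) (Nat.ble 87 b)) (Nat.ble 86 b)) (Nat.ble 84 b)) (Bool.rec (motive := fun _ => ℕ) (Bool.rec (motive := fun _ =>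 ℕ) (Bool.rec (motive := fun _ => ℕ) (j10_88) (j10_89) (Nat.ble 89 b)) (Bool.rec (motive := fun _ => ℕ) (j10_90) (j10_91) (Nat.ble 91 b)) (Nat.ble 90 b)) (Bool.rec (motive := fun _ => ℕ) (Bool.rec (motive := fun _ => ℕ) (j10_92) (j10_93) (Nat.ble 93 b)) (Bool.rec (motive := fun _ => ℕ) (j10_94) (j10_95) (Nat.ble 95 b)) (Nat.ble 94 b)) (Nat.ble 92 b)) (Nat.ble 88 b)) (Nat.ble 80 b)) (Bool.rec (motive := fun _ => ℕ) (Bool.rec (motive := fun _ => ℕ) (Bool.rec (motive := fun _ => ℕ) (Bool.rec (motive := fun _ => ℕ) (Bool.rec (motive := fun _ => ℕ) (j10_96) (j10_97) (Nat.ble 97 b)) (Bool.rec (motive := fun _ => ℕ) (j10_98) (j10_99) (Nat.ble 99 b)) (Nat.ble 98 b)) (Bool.rec (motive := fun _ => ℕ) (Bool.rec (motive := fun _ => ℕ) (j10_100) (j10_101) (Nat.ble 101 b)) (Bool.rec (motive := fun _ => ℕ) (j10_102) (j10_103) (Nat.ble 103 b)) (Nat.ble 102 b)) (Nat.ble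 100 b)) (Bool.rec (motive := fun _ => ℕ) (Bool.rec (motive := fun _ => ℕ) (Bool.rec (motive := fun _ => ℕ) (j10_104) (j10_105) (Nat.ble 105 b)) (Bool.rec (motive := fun _ => ℕ) (j10_106) (j10_107) (Nat.ble 107 b)) (Nat.ble 106 b)) (Bool.rec (motive := fun _ => ℕ) (Bool.rec (motive := fun _ => ℕ) (j10_108) (j10_109) (Nat.ble 109 b)) (Bool.rec (motive := fun _ => ℕ) (j10_110) (j10_111) (Nat.ble 111 b)) (Nat.ble 110 b)) (Nat.ble 108 b)) (Nat.ble 104 b)) (Bool.rec (motive := fun _ => ℕ) (Bool.rec (motive := fun _ => ℕ) (Bool.rec (motive := fun _ => ℕ) (Bool.rec (motive := fun _ => ℕ) (j10_112) (j10_113) (Nat.ble 113 b)) (Bool.rec (motive := fun _ => ℕ) (j10_114) (j10_115) (Nat.ble 115 b)) (Nat.ble 114 b)) (Bool.rec (motive := fun _ => ℕ) (Bool.rec (motive := fun _ => ℕ) (j10_116) (j10_117) (Nat.ble 117 b)) (Bool.rec (motive := fun _ => ℕ) (j10_118) (j10_119)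 (Nat.ble 119 b)) (Nat.ble 118 b)) (Nat.ble 116 b)) (Bool.rec (motive := fun _ => ℕ) (Bool.rec (motive := fun _ => ℕ) (Bool.rec (motive := fun _ => ℕ) (j10_120) (j10_121) (Nat.ble 121 b)) (Bool.rec (motive := fun _ => ℕ) (j10_122) (j10_123) (Nat.ble 123 b)) (Nat.ble 122 b)) (Bool.rec (motive := fun _ => ℕ) (Bool.rec (motive := fun _ => ℕ) (j10_124) (j10_125) (Nat.ble 125 b)) (Bool.rec (motive := fun _ => ℕ) (j10_126) (j10_127) (Nat.ble 127 b)) (Nat.ble 126 b)) (Nat.ble 124 b)) (Nat.ble 120 b)) (Nat.ble 112 b)) (Nat.ble 96 b)) (Nat.ble 64 b)) (Bool.rec (motive := fun _ => ℕ) (Bool.rec (motive := fun _ => ℕ) (Bool.rec (motive := fun _ => ℕ) (Bool.rec (motive := fun _ => ℕ) (Bool.rec (motive := fun _ => ℕ) (Bool.rec (motive := fun _ => ℕ) (Bool.rec (motive := fun _ => ℕ) (j10_128) (j10_129) (Nat.ble 129 b)) (Bool.rec (motive := fun _ => ℕ) (j10_130) (j10_131)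 (Nat.ble 131 b)) (Nat.ble 130 b)) (Bool.rec (motive := fun _ => ℕ) (Bool.rec (motive := fun _ => ℕ) (j10_132) (j10_133) (Nat.ble 133 b)) (Bool.rec (motive := fun _ => ℕ) (j10_134) (j10_135) (Nat.ble 135 b)) (Nat.ble 134 b)) (Nat.ble 132 b)) (Bool.rec (motive := fun _ => ℕ) (Bool.rec (motive := fun _ => ℕ) (Bool.rec (motive := fun _ => ℕ) (j10_136) (j10_137) (Nat.ble 137 b)) (Bool.rec (motive := fun _ => ℕ) (j10_138) (j10_139) (Nat.ble 139 b)) (Nat.ble 138 b)) (Bool.rec (motive := fun _ => ℕ) (Bool.rec (motive := fun _ => ℕ) (j10_140) (j10_141) (Nat.ble 141 b)) (Bool.rec (motive := fun _ => ℕ) (j10_142) (j10_143) (Nat.ble 143 b)) (Nat.ble 142 b)) (Nat.ble 140 b)) (Nat.ble 136 b)) (Bool.rec (motive := fun _ => ℕ) (Bool.rec (motive := fun _ => ℕ) (Bool.rec (motive := fun _ => ℕ) (Bool.rec (motive := fun _ => ℕ) (j10_144) (j10_145) (Nat.ble 145 b)) (Bool.rec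 (motive := fun _ => ℕ) (j10_146) (j10_147) (Nat.ble 147 b)) (Nat.ble 146 b)) (Bool.rec (motive := fun _ => ℕ) (Bool.rec (motive := fun _ => ℕ) (j10_148) (j10_149) (Nat.ble 149 b)) (Bool.rec (motive := fun _ => ℕ) (j10_150) (j10_151) (Nat.ble 151 b)) (Nat.ble 150 b)) (Nat.ble 148 b)) (Bool.rec (motive := fun _ => ℕ) (Bool.rec (motive := fun _ => ℕ) (Bool.rec (motive := fun _ => ℕ) (j10_152) (j10_153) (Nat.ble 153 b)) (Bool.rec (motive := fun _ => ℕ) (j10_154) (j10_155) (Nat.ble 155 b)) (Nat.ble 154 b)) (Bool.rec (motive := fun _ => ℕ) (Bool.rec (motive := fun _ => ℕ) (j10_156) (j10_157) (Nat.ble 157 b)) (Bool.rec (motive := fun _ => ℕ) (j10_158) (j10_159) (Nat.ble 159 b)) (Nat.ble 158 b)) (Nat.ble 156 b)) (Nat.ble 152 b)) (Nat.ble 144 b)) (Bool.rec (motive := fun _ => ℕ) (Bool.rec (motive := fun _ => ℕ) (Bool.rec (motive := fun _ => ℕ) (Bool.rec (motive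 := fun _ => ℕ) (Bool.rec (motive := fun _ => ℕ) (j10_160) (j10_161) (Nat.ble 161 b)) (Bool.rec (motive := fun _ => ℕ) (j10_162) (j10_163) (Nat.ble 163 b)) (Nat.ble 162 b)) (Bool.rec (motive := fun _ => ℕ) (Bool.rec (motive := fun _ => ℕ) (j10_164) (j10_165) (Nat.ble 165 b)) (Bool.rec (motive := fun _ => ℕ) (j10_166) (j10_167) (Nat.ble 167 b)) (Nat.ble 166 b)) (Nat.ble 164 b)) (0) (Nat.ble 168 b)) (0) (Nat.ble 176 b)) (Nat.ble 160 b)) (0) (Nat.ble 192 b)) (Nat.ble 128 b))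
noncomputable def ecol11 (b : ℕ) : ℕ := (Bool.rec (motive := fun _ => ℕ) (Bool.rec (motive := fun _ => ℕ) (Bool.rec (motive := fun _ => ℕ) (Bool.rec (motive := fun _ => ℕ) (Bool.rec (motive := fun _ => ℕ) (Bool.rec (motive := fun _ => ℕ) (Bool.rec (motive := fun _ => ℕ) (Bool.rec (motive := fun _ => ℕ) (e11_0) (e11_1) (Nat.ble 1 b)) (Bool.rec (motive := fun _ => ℕ) (e11_2) (e11_3) (Nat.ble 3 b)) (Nat.ble 2 b)) (Bool.rec (motive := fun _ => ℕ) (Bool.rec (motive := fun _ => ℕ) (e11_4) (e11_5) (Nat.ble 5 b)) (Bool.rec (motive := fun _ => ℕ) (e11_6) (e11_7) (Nat.ble 7 b)) (Nat.ble 6 b)) (Nat.ble 4 b)) (Bool.rec (motive := fun _ => ℕ) (Bool.rec (motive := fun _ => ℕ) (Bool.rec (motive := fun _ => ℕ) (e11_8) (e11_9) (Nat.ble 9 b)) (Bool.rec (motive := fun _ => ℕ) (e11_10) (e11_11) (Nat.ble 11 b)) (Nat.ble 10 b)) (Bool.rec (motive := fun _ => ℕ) (Bool.rec (motive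 := fun _ => ℕ) (e11_12) (e11_13) (Nat.ble 13 b)) (Bool.rec (motive := fun _ => ℕ) (e11_14) (e11_15) (Nat.ble 15 b)) (Nat.ble 14 b)) (Nat.ble 12 b)) (Nat.ble 8 b)) (Bool.rec (motive := fun _ => ℕ) (Bool.rec (motive := fun _ => ℕ) (Bool.rec (motive := fun _ => ℕ) (Bool.rec (motive := fun _ => ℕ) (e11_16) (e11_17) (Nat.ble 17 b)) (Bool.rec (motive := fun _ => ℕ) (e11_18) (e11_19) (Nat.ble 19 b)) (Nat.ble 18 b)) (Bool.rec (motive := fun _ => ℕ) (Bool.rec (motive := fun _ => ℕ) (e11_20) (e11_21) (Nat.ble 21 b)) (Bool.rec (motive := fun _ => ℕ) (e11_22) (e11_23) (Nat.ble 23 b)) (Nat.ble 22 b)) (Nat.ble 20 b)) (Bool.rec (motive := fun _ => ℕ) (Bool.rec (motive := fun _ => ℕ) (Bool.rec (motive := fun _ => ℕ) (e11_24) (e11_25) (Nat.ble 25 b)) (Bool.rec (motive := fun _ => ℕ) (e11_26) (e11_27) (Nat.ble 27 b)) (Nat.ble 26 b)) (Bool.rec (motive := fun _ => ℕ) (Bool.rec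 (motive := fun _ => ℕ) (e11_28) (e11_29) (Nat.ble 29 b)) (Bool.rec (motive := fun _ => ℕ) (e11_30) (e11_31) (Nat.ble 31 b)) (Nat.ble 30 b)) (Nat.ble 28 b)) (Nat.ble 24 b)) (Nat.ble 16 b)) (Bool.rec (motive := fun _ => ℕ) (Bool.rec (motive := fun _ => ℕ) (Bool.rec (motive := fun _ => ℕ) (Bool.rec (motive := fun _ => ℕ) (Bool.rec (motive := fun _ => ℕ) (e11_32) (e11_33) (Nat.ble 33 b)) (Bool.rec (motive := fun _ => ℕ) (e11_34) (e11_35) (Nat.ble 35 b)) (Nat.ble 34 b)) (Bool.rec (motive := fun _ => ℕ) (Bool.rec (motive := fun _ => ℕ) (e11_36) (e11_37) (Nat.ble 37 b)) (Bool.rec (motive := fun _ => ℕ) (e11_38) (e11_39) (Nat.ble 39 b)) (Nat.ble 38 b)) (Nat.ble 36 b)) (Bool.rec (motive := fun _ => ℕ) (Bool.rec (motive := fun _ => ℕ) (Bool.rec (motive := fun _ => ℕ) (e11_40) (e11_41) (Nat.ble 41 b)) (Bool.rec (motive := fun _ => ℕ) (e11_42) (e11_43) (Nat.ble 43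 b)) (Nat.ble 42 b)) (Bool.rec (motive := fun _ => ℕ) (Bool.rec (motive := fun _ => ℕ) (e11_44) (e11_45) (Nat.ble 45 b)) (Bool.rec (motive := fun _ => ℕ) (e11_46) (e11_47) (Nat.ble 47 b)) (Nat.ble 46 b)) (Nat.ble 44 b)) (Nat.ble 40 b)) (Bool.rec (motive := fun _ => ℕ) (Bool.rec (motive := fun _ => ℕ) (Bool.rec (motive := fun _ => ℕ) (Bool.rec (motive := fun _ => ℕ) (e11_48) (e11_49) (Nat.ble 49 b)) (Bool.rec (motive := fun _ => ℕ) (e11_50) (e11_51) (Nat.ble 51 b)) (Nat.ble 50 b)) (Bool.rec (motive := fun _ => ℕ) (Bool.rec (motive := fun _ => ℕ) (e11_52) (e11_53) (Nat.ble 53 b)) (Bool.rec (motive := fun _ => ℕ) (e11_54) (e11_55) (Nat.ble 55 b)) (Nat.ble 54 b)) (Nat.ble 52 b)) (Bool.rec (motive := fun _ => ℕ) (Bool.rec (motive := fun _ => ℕ) (Bool.rec (motive := fun _ => ℕ) (e11_56) (e11_57) (Nat.ble 57 b)) (Bool.rec (motive := fun _ => ℕ) (e11_58) (e11_59)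 (Nat.ble 59 b)) (Nat.ble 58 b)) (Bool.rec (motive := fun _ => ℕ) (Bool.rec (motive := fun _ => ℕ) (e11_60) (e11_61) (Nat.ble 61 b)) (Bool.rec (motive := fun _ => ℕ) (e11_62) (e11_63) (Nat.ble 63 b)) (Nat.ble 62 b)) (Nat.ble 60 b)) (Nat.ble 56 b)) (Nat.ble 48 b)) (Nat.ble 32 b)) (Bool.rec (motive := fun _ => ℕ) (Bool.rec (motive := fun _ => ℕ) (Bool.rec (motive := fun _ => ℕ) (Bool.rec (motive := fun _ => ℕ) (Bool.rec (motive := fun _ => ℕ) (Bool.rec (motive := fun _ => ℕ) (e11_64) (e11_65) (Nat.ble 65 b)) (Bool.rec (motive := fun _ => ℕ) (e11_66) (e11_67) (Nat.ble 67 b)) (Nat.ble 66 b)) (Bool.rec (motive := fun _ => ℕ) (Bool.rec (motive := fun _ => ℕ) (e11_68) (e11_69) (Nat.ble 69 b)) (Bool.rec (motive := fun _ => ℕ) (e11_70) (e11_71) (Nat.ble 71 b)) (Nat.ble 70 b)) (Nat.ble 68 b)) (Bool.rec (motive := fun _ => ℕ) (Bool.rec (motive := fun _ => ℕ) (Bool.rec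 (motive := fun _ => ℕ) (e11_72) (e11_73) (Nat.ble 73 b)) (Bool.rec (motive := fun _ => ℕ) (e11_74) (e11_75) (Nat.ble 75 b)) (Nat.ble 74 b)) (Bool.rec (motive := fun _ => ℕ) (Bool.rec (motive := fun _ => ℕ) (e11_76) (e11_77) (Nat.ble 77 b)) (Bool.rec (motive := fun _ => ℕ) (e11_78) (e11_79) (Nat.ble 79 b)) (Nat.ble 78 b)) (Nat.ble 76 b)) (Nat.ble 72 b)) (Bool.rec (motive := fun _ => ℕ) (Bool.rec (motive := fun _ => ℕ) (Bool.rec (motive := fun _ => ℕ) (Bool.rec (motive := fun _ => ℕ) (e11_80) (e11_81) (Nat.ble 81 b)) (Bool.rec (motive := fun _ => ℕ) (e11_82) (e11_83) (Nat.ble 83 b)) (Nat.ble 82 b)) (Bool.rec (motive := fun _ => ℕ) (Bool.rec (motive := fun _ => ℕ) (e11_84) (e11_85) (Nat.ble 85 b)) (Bool.rec (motive := fun _ => ℕ) (e11_86) (e11_87) (Nat.ble 87 b)) (Nat.ble 86 b)) (Nat.ble 84 b)) (Bool.rec (motive := fun _ => ℕ) (Bool.rec (motive := fun _ =>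 ℕ) (Bool.rec (motive := fun _ => ℕ) (e11_88) (e11_89) (Nat.ble 89 b)) (Bool.rec (motive := fun _ => ℕ) (e11_90) (e11_91) (Nat.ble 91 b)) (Nat.ble 90 b)) (Bool.rec (motive := fun _ => ℕ) (Bool.rec (motive := fun _ => ℕ) (e11_92) (e11_93) (Nat.ble 93 b)) (Bool.rec (motive := fun _ => ℕ) (e11_94) (e11_95) (Nat.ble 95 b)) (Nat.ble 94 b)) (Nat.ble 92 b)) (Nat.ble 88 b)) (Nat.ble 80 b)) (Bool.rec (motive := fun _ => ℕ) (Bool.rec (motive := fun _ => ℕ) (Bool.rec (motive := fun _ => ℕ) (Bool.rec (motive := fun _ => ℕ) (Bool.rec (motive := fun _ => ℕ) (e11_96) (e11_97) (Nat.ble 97 b)) (Bool.rec (motive := fun _ => ℕ) (e11_98) (e11_99) (Nat.ble 99 b)) (Nat.ble 98 b)) (Bool.rec (motive := fun _ => ℕ) (Bool.rec (motive := fun _ => ℕ) (e11_100) (e11_101) (Nat.ble 101 b)) (Bool.rec (motive := fun _ => ℕ) (e11_102) (e11_103) (Nat.ble 103 b)) (Nat.ble 102 b)) (Nat.ble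 100 b)) (Bool.rec (motive := fun _ => ℕ) (Bool.rec (motive := fun _ => ℕ) (Bool.rec (motive := fun _ => ℕ) (e11_104) (e11_105) (Nat.ble 105 b)) (Bool.rec (motive := fun _ => ℕ) (e11_106) (e11_107) (Nat.ble 107 b)) (Nat.ble 106 b)) (Bool.rec (motive := fun _ => ℕ) (Bool.rec (motive := fun _ => ℕ) (e11_108) (e11_109) (Nat.ble 109 b)) (Bool.rec (motive := fun _ => ℕ) (e11_110) (e11_111) (Nat.ble 111 b)) (Nat.ble 110 b)) (Nat.ble 108 b)) (Nat.ble 104 b)) (Bool.rec (motive := fun _ => ℕ) (Bool.rec (motive := fun _ => ℕ) (Bool.rec (motive := fun _ => ℕ) (Bool.rec (motive := fun _ => ℕ) (e11_112) (e11_113) (Nat.ble 113 b)) (Bool.rec (motive := fun _ => ℕ) (e11_114) (e11_115) (Nat.ble 115 b)) (Nat.ble 114 b)) (Bool.rec (motive := fun _ => ℕ) (Bool.rec (motive := fun _ => ℕ) (e11_116) (e11_117) (Nat.ble 117 b)) (Bool.rec (motive := fun _ => ℕ) (e11_118) (e11_119)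 (Nat.ble 119 b)) (Nat.ble 118 b)) (Nat.ble 116 b)) (Bool.rec (motive := fun _ => ℕ) (Bool.rec (motive := fun _ => ℕ) (Bool.rec (motive := fun _ => ℕ) (e11_120) (e11_121) (Nat.ble 121 b)) (Bool.rec (motive := fun _ => ℕ) (e11_122) (e11_123) (Nat.ble 123 b)) (Nat.ble 122 b)) (Bool.rec (motive := fun _ => ℕ) (Bool.rec (motive := fun _ => ℕ) (e11_124) (e11_125) (Nat.ble 125 b)) (Bool.rec (motive := fun _ => ℕ) (e11_126) (e11_127) (Nat.ble 127 b)) (Nat.ble 126 b)) (Nat.ble 124 b)) (Nat.ble 120 b)) (Nat.ble 112 b)) (Nat.ble 96 b)) (Nat.ble 64 b)) (Bool.rec (motive := fun _ => ℕ) (Bool.rec (motive := fun _ => ℕ) (Bool.rec (motive := fun _ => ℕ) (Bool.rec (motive := fun _ => ℕ) (Bool.rec (motive := fun _ => ℕ) (Bool.rec (motive := fun _ => ℕ) (Bool.rec (motive := fun _ => ℕ) (e11_128) (e11_129) (Nat.ble 129 b)) (Bool.rec (motive := fun _ => ℕ) (e11_130) (e11_131)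 (Nat.ble 131 b)) (Nat.ble 130 b)) (Bool.rec (motive := fun _ => ℕ) (Bool.rec (motive := fun _ => ℕ) (e11_132) (e11_133) (Nat.ble 133 b)) (Bool.rec (motive := fun _ => ℕ) (e11_134) (e11_135) (Nat.ble 135 b)) (Nat.ble 134 b)) (Nat.ble 132 b)) (Bool.rec (motive := fun _ => ℕ) (Bool.rec (motive := fun _ => ℕ) (Bool.rec (motive := fun _ => ℕ) (e11_136) (e11_137) (Nat.ble 137 b)) (Bool.rec (motive := fun _ => ℕ) (e11_138) (e11_139) (Nat.ble 139 b)) (Nat.ble 138 b)) (Bool.rec (motive := fun _ => ℕ) (Bool.rec (motive := fun _ => ℕ) (e11_140) (e11_141) (Nat.ble 141 b)) (Bool.rec (motive := fun _ => ℕ) (e11_142) (e11_143) (Nat.ble 143 b)) (Nat.ble 142 b)) (Nat.ble 140 b)) (Nat.ble 136 b)) (Bool.rec (motive := fun _ => ℕ) (Bool.rec (motive := fun _ => ℕ) (Bool.rec (motive := fun _ => ℕ) (Bool.rec (motive := fun _ => ℕ) (e11_144) (e11_145) (Nat.ble 145 b)) (Bool.rec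 (motive := fun _ => ℕ) (e11_146) (e11_147) (Nat.ble 147 b)) (Nat.ble 146 b)) (Bool.rec (motive := fun _ => ℕ) (Bool.rec (motive := fun _ => ℕ) (e11_148) (e11_149) (Nat.ble 149 b)) (Bool.rec (motive := fun _ => ℕ) (e11_150) (e11_151) (Nat.ble 151 b)) (Nat.ble 150 b)) (Nat.ble 148 b)) (Bool.rec (motive := fun _ => ℕ) (Bool.rec (motive := fun _ => ℕ) (Bool.rec (motive := fun _ => ℕ) (e11_152) (e11_153) (Nat.ble 153 b)) (Bool.rec (motive := fun _ => ℕ) (e11_154) (e11_155) (Nat.ble 155 b)) (Nat.ble 154 b)) (Bool.rec (motive := fun _ => ℕ) (Bool.rec (motive := fun _ => ℕ) (e11_156) (e11_157) (Nat.ble 157 b)) (Bool.rec (motive := fun _ => ℕ) (e11_158) (e11_159) (Nat.ble 159 b)) (Nat.ble 158 b)) (Nat.ble 156 b)) (Nat.ble 152 b)) (Nat.ble 144 b)) (Bool.rec (motive := fun _ => ℕ) (Bool.rec (motive := fun _ => ℕ) (Bool.rec (motive := fun _ => ℕ) (Bool.rec (motive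 := fun _ => ℕ) (Bool.rec (motive := fun _ => ℕ) (e11_160) (e11_161) (Nat.ble 161 b)) (Bool.rec (motive := fun _ => ℕ) (e11_162) (e11_163) (Nat.ble 163 b)) (Nat.ble 162 b)) (Bool.rec (motive := fun _ => ℕ) (Bool.rec (motive := fun _ => ℕ) (e11_164) (e11_165) (Nat.ble 165 b)) (Bool.rec (motive := fun _ => ℕ) (e11_166) (e11_167) (Nat.ble 167 b)) (Nat.ble 166 b)) (Nat.ble 164 b)) (0) (Nat.ble 168 b)) (0) (Nat.ble 176 b)) (Nat.ble 160 b)) (0) (Nat.ble 192 b)) (Nat.ble 128 b))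
noncomputable def jcol11 (b : ℕ) : ℕ := (Bool.rec (motive := fun _ => ℕ) (Bool.rec (motive := fun _ => ℕ) (Bool.rec (motive := fun _ => ℕ) (Bool.rec (motive := fun _ => ℕ) (Bool.rec (motive := fun _ => ℕ) (Bool.rec (motive := fun _ => ℕ) (Bool.rec (motive := fun _ => ℕ) (Bool.rec (motive := fun _ => ℕ) (j11_0) (j11_1) (Nat.ble 1 b)) (Bool.rec (motive := fun _ => ℕ) (j11_2) (j11_3) (Nat.ble 3 b)) (Nat.ble 2 b)) (Bool.rec (motive := fun _ => ℕ) (Bool.rec (motive := fun _ => ℕ) (j11_4) (j11_5) (Nat.ble 5 b)) (Bool.rec (motive := fun _ => ℕ) (j11_6) (j11_7) (Nat.ble 7 b)) (Nat.ble 6 b)) (Nat.ble 4 b)) (Bool.rec (motive := fun _ => ℕ) (Bool.rec (motive := fun _ => ℕ) (Bool.rec (motive := fun _ => ℕ) (j11_8) (j11_9) (Nat.ble 9 b)) (Bool.rec (motive := fun _ => ℕ) (j11_10) (j11_11) (Nat.ble 11 b)) (Nat.ble 10 b)) (Bool.rec (motive := fun _ => ℕ) (Bool.rec (motive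 := fun _ => ℕ) (j11_12) (j11_13) (Nat.ble 13 b)) (Bool.rec (motive := fun _ => ℕ) (j11_14) (j11_15) (Nat.ble 15 b)) (Nat.ble 14 b)) (Nat.ble 12 b)) (Nat.ble 8 b)) (Bool.rec (motive := fun _ => ℕ) (Bool.rec (motive := fun _ => ℕ) (Bool.rec (motive := fun _ => ℕ) (Bool.rec (motive := fun _ => ℕ) (j11_16) (j11_17) (Nat.ble 17 b)) (Bool.rec (motive := fun _ => ℕ) (j11_18) (j11_19) (Nat.ble 19 b)) (Nat.ble 18 b)) (Bool.rec (motive := fun _ => ℕ) (Bool.rec (motive := fun _ => ℕ) (j11_20) (j11_21) (Nat.ble 21 b)) (Bool.rec (motive := fun _ => ℕ) (j11_22) (j11_23) (Nat.ble 23 b)) (Nat.ble 22 b)) (Nat.ble 20 b)) (Bool.rec (motive := fun _ => ℕ) (Bool.rec (motive := fun _ => ℕ) (Bool.rec (motive := fun _ => ℕ) (j11_24) (j11_25) (Nat.ble 25 b)) (Bool.rec (motive := fun _ => ℕ) (j11_26) (j11_27) (Nat.ble 27 b)) (Nat.ble 26 b)) (Bool.rec (motive := fun _ => ℕ) (Bool.rec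 (motive := fun _ => ℕ) (j11_28) (j11_29) (Nat.ble 29 b)) (Bool.rec (motive := fun _ => ℕ) (j11_30) (j11_31) (Nat.ble 31 b)) (Nat.ble 30 b)) (Nat.ble 28 b)) (Nat.ble 24 b)) (Nat.ble 16 b)) (Bool.rec (motive := fun _ => ℕ) (Bool.rec (motive := fun _ => ℕ) (Bool.rec (motive := fun _ => ℕ) (Bool.rec (motive := fun _ => ℕ) (Bool.rec (motive := fun _ => ℕ) (j11_32) (j11_33) (Nat.ble 33 b)) (Bool.rec (motive := fun _ => ℕ) (j11_34) (j11_35) (Nat.ble 35 b)) (Nat.ble 34 b)) (Bool.rec (motive := fun _ => ℕ) (Bool.rec (motive := fun _ => ℕ) (j11_36) (j11_37) (Nat.ble 37 b)) (Bool.rec (motive := fun _ => ℕ) (j11_38) (j11_39) (Nat.ble 39 b)) (Nat.ble 38 b)) (Nat.ble 36 b)) (Bool.rec (motive := fun _ => ℕ) (Bool.rec (motive := fun _ => ℕ) (Bool.rec (motive := fun _ => ℕ) (j11_40) (j11_41) (Nat.ble 41 b)) (Bool.rec (motive := fun _ => ℕ) (j11_42) (j11_43) (Nat.ble 43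 b)) (Nat.ble 42 b)) (Bool.rec (motive := fun _ => ℕ) (Bool.rec (motive := fun _ => ℕ) (j11_44) (j11_45) (Nat.ble 45 b)) (Bool.rec (motive := fun _ => ℕ) (j11_46) (j11_47) (Nat.ble 47 b)) (Nat.ble 46 b)) (Nat.ble 44 b)) (Nat.ble 40 b)) (Bool.rec (motive := fun _ => ℕ) (Bool.rec (motive := fun _ => ℕ) (Bool.rec (motive := fun _ => ℕ) (Bool.rec (motive := fun _ => ℕ) (j11_48) (j11_49) (Nat.ble 49 b)) (Bool.rec (motive := fun _ => ℕ) (j11_50) (j11_51) (Nat.ble 51 b)) (Nat.ble 50 b)) (Bool.rec (motive := fun _ => ℕ) (Bool.rec (motive := fun _ => ℕ) (j11_52) (j11_53) (Nat.ble 53 b)) (Bool.rec (motive := fun _ => ℕ) (j11_54) (j11_55) (Nat.ble 55 b)) (Nat.ble 54 b)) (Nat.ble 52 b)) (Bool.rec (motive := fun _ => ℕ) (Bool.rec (motive := fun _ => ℕ) (Bool.rec (motive := fun _ => ℕ) (j11_56) (j11_57) (Nat.ble 57 b)) (Bool.rec (motive := fun _ => ℕ) (j11_58) (j11_59)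 (Nat.ble 59 b)) (Nat.ble 58 b)) (Bool.rec (motive := fun _ => ℕ) (Bool.rec (motive := fun _ => ℕ) (j11_60) (j11_61) (Nat.ble 61 b)) (Bool.rec (motive := fun _ => ℕ) (j11_62) (j11_63) (Nat.ble 63 b)) (Nat.ble 62 b)) (Nat.ble 60 b)) (Nat.ble 56 b)) (Nat.ble 48 b)) (Nat.ble 32 b)) (Bool.rec (motive := fun _ => ℕ) (Bool.rec (motive := fun _ => ℕ) (Bool.rec (motive := fun _ => ℕ) (Bool.rec (motive := fun _ => ℕ) (Bool.rec (motive := fun _ => ℕ) (Bool.rec (motive := fun _ => ℕ) (j11_64) (j11_65) (Nat.ble 65 b)) (Bool.rec (motive := fun _ => ℕ) (j11_66) (j11_67) (Nat.ble 67 b)) (Nat.ble 66 b)) (Bool.rec (motive := fun _ => ℕ) (Bool.rec (motive := fun _ => ℕ) (j11_68) (j11_69) (Nat.ble 69 b)) (Bool.rec (motive := fun _ => ℕ) (j11_70) (j11_71) (Nat.ble 71 b)) (Nat.ble 70 b)) (Nat.ble 68 b)) (Bool.rec (motive := fun _ => ℕ) (Bool.rec (motive := fun _ => ℕ) (Bool.rec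 (motive := fun _ => ℕ) (j11_72) (j11_73) (Nat.ble 73 b)) (Bool.rec (motive := fun _ => ℕ) (j11_74) (j11_75) (Nat.ble 75 b)) (Nat.ble 74 b)) (Bool.rec (motive := fun _ => ℕ) (Bool.rec (motive := fun _ => ℕ) (j11_76) (j11_77) (Nat.ble 77 b)) (Bool.rec (motive := fun _ => ℕ) (j11_78) (j11_79) (Nat.ble 79 b)) (Nat.ble 78 b)) (Nat.ble 76 b)) (Nat.ble 72 b)) (Bool.rec (motive := fun _ => ℕ) (Bool.rec (motive := fun _ => ℕ) (Bool.rec (motive := fun _ => ℕ) (Bool.rec (motive := fun _ => ℕ) (j11_80) (j11_81) (Nat.ble 81 b)) (Bool.rec (motive := fun _ => ℕ) (j11_82) (j11_83) (Nat.ble 83 b)) (Nat.ble 82 b)) (Bool.rec (motive := fun _ => ℕ) (Bool.rec (motive := fun _ => ℕ) (j11_84) (j11_85) (Nat.ble 85 b)) (Bool.rec (motive := fun _ => ℕ) (j11_86) (j11_87) (Nat.ble 87 b)) (Nat.ble 86 b)) (Nat.ble 84 b)) (Bool.rec (motive := fun _ => ℕ) (Bool.rec (motive := fun _ =>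 ℕ) (Bool.rec (motive := fun _ => ℕ) (j11_88) (j11_89) (Nat.ble 89 b)) (Bool.rec (motive := fun _ => ℕ) (j11_90) (j11_91) (Nat.ble 91 b)) (Nat.ble 90 b)) (Bool.rec (motive := fun _ => ℕ) (Bool.rec (motive := fun _ => ℕ) (j11_92) (j11_93) (Nat.ble 93 b)) (Bool.rec (motive := fun _ => ℕ) (j11_94) (j11_95) (Nat.ble 95 b)) (Nat.ble 94 b)) (Nat.ble 92 b)) (Nat.ble 88 b)) (Nat.ble 80 b)) (Bool.rec (motive := fun _ => ℕ) (Bool.rec (motive := fun _ => ℕ) (Bool.rec (motive := fun _ => ℕ) (Bool.rec (motive := fun _ => ℕ) (Bool.rec (motive := fun _ => ℕ) (j11_96) (j11_97) (Nat.ble 97 b)) (Bool.rec (motive := fun _ => ℕ) (j11_98) (j11_99) (Nat.ble 99 b)) (Nat.ble 98 b)) (Bool.rec (motive := fun _ => ℕ) (Bool.rec (motive := fun _ => ℕ) (j11_100) (j11_101) (Nat.ble 101 b)) (Bool.rec (motive := fun _ => ℕ) (j11_102) (j11_103) (Nat.ble 103 b)) (Nat.ble 102 b)) (Nat.ble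 100 b)) (Bool.rec (motive := fun _ => ℕ) (Bool.rec (motive := fun _ => ℕ) (Bool.rec (motive := fun _ => ℕ) (j11_104) (j11_105) (Nat.ble 105 b)) (Bool.rec (motive := fun _ => ℕ) (j11_106) (j11_107) (Nat.ble 107 b)) (Nat.ble 106 b)) (Bool.rec (motive := fun _ => ℕ) (Bool.rec (motive := fun _ => ℕ) (j11_108) (j11_109) (Nat.ble 109 b)) (Bool.rec (motive := fun _ => ℕ) (j11_110) (j11_111) (Nat.ble 111 b)) (Nat.ble 110 b)) (Nat.ble 108 b)) (Nat.ble 104 b)) (Bool.rec (motive := fun _ => ℕ) (Bool.rec (motive := fun _ => ℕ) (Bool.rec (motive := fun _ => ℕ) (Bool.rec (motive := fun _ => ℕ) (j11_112) (j11_113) (Nat.ble 113 b)) (Bool.rec (motive := fun _ => ℕ) (j11_114) (j11_115) (Nat.ble 115 b)) (Nat.ble 114 b)) (Bool.rec (motive := fun _ => ℕ) (Bool.rec (motive := fun _ => ℕ) (j11_116) (j11_117) (Nat.ble 117 b)) (Bool.rec (motive := fun _ => ℕ) (j11_118) (j11_119)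 (Nat.ble 119 b)) (Nat.ble 118 b)) (Nat.ble 116 b)) (Bool.rec (motive := fun _ => ℕ) (Bool.rec (motive := fun _ => ℕ) (Bool.rec (motive := fun _ => ℕ) (j11_120) (j11_121) (Nat.ble 121 b)) (Bool.rec (motive := fun _ => ℕ) (j11_122) (j11_123) (Nat.ble 123 b)) (Nat.ble 122 b)) (Bool.rec (motive := fun _ => ℕ) (Bool.rec (motive := fun _ => ℕ) (j11_124) (j11_125) (Nat.ble 125 b)) (Bool.rec (motive := fun _ => ℕ) (j11_126) (j11_127) (Nat.ble 127 b)) (Nat.ble 126 b)) (Nat.ble 124 b)) (Nat.ble 120 b)) (Nat.ble 112 b)) (Nat.ble 96 b)) (Nat.ble 64 b)) (Bool.rec (motive := fun _ => ℕ) (Bool.rec (motive := fun _ => ℕ) (Bool.rec (motive := fun _ => ℕ) (Bool.rec (motive := fun _ => ℕ) (Bool.rec (motive := fun _ => ℕ) (Bool.rec (motive := fun _ => ℕ) (Bool.rec (motive := fun _ => ℕ) (j11_128) (j11_129) (Nat.ble 129 b)) (Bool.rec (motive := fun _ => ℕ) (j11_130) (j11_131)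 (Nat.ble 131 b)) (Nat.ble 130 b)) (Bool.rec (motive := fun _ => ℕ) (Bool.rec (motive := fun _ => ℕ) (j11_132) (j11_133) (Nat.ble 133 b)) (Bool.rec (motive := fun _ => ℕ) (j11_134) (j11_135) (Nat.ble 135 b)) (Nat.ble 134 b)) (Nat.ble 132 b)) (Bool.rec (motive := fun _ => ℕ) (Bool.rec (motive := fun _ => ℕ) (Bool.rec (motive := fun _ => ℕ) (j11_136) (j11_137) (Nat.ble 137 b)) (Bool.rec (motive := fun _ => ℕ) (j11_138) (j11_139) (Nat.ble 139 b)) (Nat.ble 138 b)) (Bool.rec (motive := fun _ => ℕ) (Bool.rec (motive := fun _ => ℕ) (j11_140) (j11_141) (Nat.ble 141 b)) (Bool.rec (motive := fun _ => ℕ) (j11_142) (j11_143) (Nat.ble 143 b)) (Nat.ble 142 b)) (Nat.ble 140 b)) (Nat.ble 136 b)) (Bool.rec (motive := fun _ => ℕ) (Bool.rec (motive := fun _ => ℕ) (Bool.rec (motive := fun _ => ℕ) (Bool.rec (motive := fun _ => ℕ) (j11_144) (j11_145) (Nat.ble 145 b)) (Bool.rec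 (motive := fun _ => ℕ) (j11_146) (j11_147) (Nat.ble 147 b)) (Nat.ble 146 b)) (Bool.rec (motive := fun _ => ℕ) (Bool.rec (motive := fun _ => ℕ) (j11_148) (j11_149) (Nat.ble 149 b)) (Bool.rec (motive := fun _ => ℕ) (j11_150) (j11_151) (Nat.ble 151 b)) (Nat.ble 150 b)) (Nat.ble 148 b)) (Bool.rec (motive := fun _ => ℕ) (Bool.rec (motive := fun _ => ℕ) (Bool.rec (motive := fun _ => ℕ) (j11_152) (j11_153) (Nat.ble 153 b)) (Bool.rec (motive := fun _ => ℕ) (j11_154) (j11_155) (Nat.ble 155 b)) (Nat.ble 154 b)) (Bool.rec (motive := fun _ => ℕ) (Bool.rec (motive := fun _ => ℕ) (j11_156) (j11_157) (Nat.ble 157 b)) (Bool.rec (motive := fun _ => ℕ) (j11_158) (j11_159) (Nat.ble 159 b)) (Nat.ble 158 b)) (Nat.ble 156 b)) (Nat.ble 152 b)) (Nat.ble 144 b)) (Bool.rec (motive := fun _ => ℕ) (Bool.rec (motive := fun _ => ℕ) (Bool.rec (motive := fun _ => ℕ) (Bool.rec (motive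 := fun _ => ℕ) (Bool.rec (motive := fun _ => ℕ) (j11_160) (j11_161) (Nat.ble 161 b)) (Bool.rec (motive := fun _ => ℕ) (j11_162) (j11_163) (Nat.ble 163 b)) (Nat.ble 162 b)) (Bool.rec (motive := fun _ => ℕ) (Bool.rec (motive := fun _ => ℕ) (j11_164) (j11_165) (Nat.ble 165 b)) (Bool.rec (motive := fun _ => ℕ) (j11_166) (j11_167) (Nat.ble 167 b)) (Nat.ble 166 b)) (Nat.ble 164 b)) (0) (Nat.ble 168 b)) (0) (Nat.ble 176 b)) (Nat.ble 160 b)) (0) (Nat.ble 192 b)) (Nat.ble 128 b))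
noncomputable def ecol12 (b : ℕ) : ℕ := (Bool.rec (motive := fun _ => ℕ) (Bool.rec (motive := fun _ => ℕ) (Bool.rec (motive := fun _ => ℕ) (Bool.rec (motive := fun _ => ℕ) (Bool.rec (motive := fun _ => ℕ) (Bool.rec (motive := fun _ => ℕ) (Bool.rec (motive := fun _ => ℕ) (Bool.rec (motive := fun _ => ℕ) (e12_0) (e12_1) (Nat.ble 1 b)) (Bool.rec (motive := fun _ => ℕ) (e12_2) (e12_3) (Nat.ble 3 b)) (Nat.ble 2 b)) (Bool.rec (motive := fun _ => ℕ) (Bool.rec (motive := fun _ => ℕ) (e12_4) (e12_5) (Nat.ble 5 b)) (Bool.rec (motive := fun _ => ℕ) (e12_6) (e12_7) (Nat.ble 7 b)) (Nat.ble 6 b)) (Nat.ble 4 b)) (Bool.rec (motive := fun _ => ℕ) (Bool.rec (motive := fun _ => ℕ) (Bool.rec (motive := fun _ => ℕ) (e12_8) (e12_9) (Nat.ble 9 b)) (Bool.rec (motive := fun _ => ℕ) (e12_10) (e12_11) (Nat.ble 11 b)) (Nat.ble 10 b)) (Bool.rec (motive := fun _ => ℕ) (Bool.rec (motive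 := fun _ => ℕ) (e12_12) (e12_13) (Nat.ble 13 b)) (Bool.rec (motive := fun _ => ℕ) (e12_14) (e12_15) (Nat.ble 15 b)) (Nat.ble 14 b)) (Nat.ble 12 b)) (Nat.ble 8 b)) (Bool.rec (motive := fun _ => ℕ) (Bool.rec (motive := fun _ => ℕ) (Bool.rec (motive := fun _ => ℕ) (Bool.rec (motive := fun _ => ℕ) (e12_16) (e12_17) (Nat.ble 17 b)) (Bool.rec (motive := fun _ => ℕ) (e12_18) (e12_19) (Nat.ble 19 b)) (Nat.ble 18 b)) (Bool.rec (motive := fun _ => ℕ) (Bool.rec (motive := fun _ => ℕ) (e12_20) (e12_21) (Nat.ble 21 b)) (Bool.rec (motive := fun _ => ℕ) (e12_22) (e12_23) (Nat.ble 23 b)) (Nat.ble 22 b)) (Nat.ble 20 b)) (Bool.rec (motive := fun _ => ℕ) (Bool.rec (motive := fun _ => ℕ) (Bool.rec (motive := fun _ => ℕ) (e12_24) (e12_25) (Nat.ble 25 b)) (Bool.rec (motive := fun _ => ℕ) (e12_26) (e12_27) (Nat.ble 27 b)) (Nat.ble 26 b)) (Bool.rec (motive := fun _ => ℕ) (Bool.rec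 (motive := fun _ => ℕ) (e12_28) (e12_29) (Nat.ble 29 b)) (Bool.rec (motive := fun _ => ℕ) (e12_30) (e12_31) (Nat.ble 31 b)) (Nat.ble 30 b)) (Nat.ble 28 b)) (Nat.ble 24 b)) (Nat.ble 16 b)) (Bool.rec (motive := fun _ => ℕ) (Bool.rec (motive := fun _ => ℕ) (Bool.rec (motive := fun _ => ℕ) (Bool.rec (motive := fun _ => ℕ) (Bool.rec (motive := fun _ => ℕ) (e12_32) (e12_33) (Nat.ble 33 b)) (Bool.rec (motive := fun _ => ℕ) (e12_34) (e12_35) (Nat.ble 35 b)) (Nat.ble 34 b)) (Bool.rec (motive := fun _ => ℕ) (Bool.rec (motive := fun _ => ℕ) (e12_36) (e12_37) (Nat.ble 37 b)) (Bool.rec (motive := fun _ => ℕ) (e12_38) (e12_39) (Nat.ble 39 b)) (Nat.ble 38 b)) (Nat.ble 36 b)) (Bool.rec (motive := fun _ => ℕ) (Bool.rec (motive := fun _ => ℕ) (Bool.rec (motive := fun _ => ℕ) (e12_40) (e12_41) (Nat.ble 41 b)) (Bool.rec (motive := fun _ => ℕ) (e12_42) (e12_43) (Nat.ble 43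 b)) (Nat.ble 42 b)) (Bool.rec (motive := fun _ => ℕ) (Bool.rec (motive := fun _ => ℕ) (e12_44) (e12_45) (Nat.ble 45 b)) (Bool.rec (motive := fun _ => ℕ) (e12_46) (e12_47) (Nat.ble 47 b)) (Nat.ble 46 b)) (Nat.ble 44 b)) (Nat.ble 40 b)) (Bool.rec (motive := fun _ => ℕ) (Bool.rec (motive := fun _ => ℕ) (Bool.rec (motive := fun _ => ℕ) (Bool.rec (motive := fun _ => ℕ) (e12_48) (e12_49) (Nat.ble 49 b)) (Bool.rec (motive := fun _ => ℕ) (e12_50) (e12_51) (Nat.ble 51 b)) (Nat.ble 50 b)) (Bool.rec (motive := fun _ => ℕ) (Bool.rec (motive := fun _ => ℕ) (e12_52) (e12_53) (Nat.ble 53 b)) (Bool.rec (motive := fun _ => ℕ) (e12_54) (e12_55) (Nat.ble 55 b)) (Nat.ble 54 b)) (Nat.ble 52 b)) (Bool.rec (motive := fun _ => ℕ) (Bool.rec (motive := fun _ => ℕ) (Bool.rec (motive := fun _ => ℕ) (e12_56) (e12_57) (Nat.ble 57 b)) (Bool.rec (motive := fun _ => ℕ) (e12_58) (e12_59)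 (Nat.ble 59 b)) (Nat.ble 58 b)) (Bool.rec (motive := fun _ => ℕ) (Bool.rec (motive := fun _ => ℕ) (e12_60) (e12_61) (Nat.ble 61 b)) (Bool.rec (motive := fun _ => ℕ) (e12_62) (e12_63) (Nat.ble 63 b)) (Nat.ble 62 b)) (Nat.ble 60 b)) (Nat.ble 56 b)) (Nat.ble 48 b)) (Nat.ble 32 b)) (Bool.rec (motive := fun _ => ℕ) (Bool.rec (motive := fun _ => ℕ) (Bool.rec (motive := fun _ => ℕ) (Bool.rec (motive := fun _ => ℕ) (Bool.rec (motive := fun _ => ℕ) (Bool.rec (motive := fun _ => ℕ) (e12_64) (e12_65) (Nat.ble 65 b)) (Bool.rec (motive := fun _ => ℕ) (e12_66) (e12_67) (Nat.ble 67 b)) (Nat.ble 66 b)) (Bool.rec (motive := fun _ => ℕ) (Bool.rec (motive := fun _ => ℕ) (e12_68) (e12_69) (Nat.ble 69 b)) (Bool.rec (motive := fun _ => ℕ) (e12_70) (e12_71) (Nat.ble 71 b)) (Nat.ble 70 b)) (Nat.ble 68 b)) (Bool.rec (motive := fun _ => ℕ) (Bool.rec (motive := fun _ => ℕ) (Bool.rec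 (motive := fun _ => ℕ) (e12_72) (e12_73) (Nat.ble 73 b)) (Bool.rec (motive := fun _ => ℕ) (e12_74) (e12_75) (Nat.ble 75 b)) (Nat.ble 74 b)) (Bool.rec (motive := fun _ => ℕ) (Bool.rec (motive := fun _ => ℕ) (e12_76) (e12_77) (Nat.ble 77 b)) (Bool.rec (motive := fun _ => ℕ) (e12_78) (e12_79) (Nat.ble 79 b)) (Nat.ble 78 b)) (Nat.ble 76 b)) (Nat.ble 72 b)) (Bool.rec (motive := fun _ => ℕ) (Bool.rec (motive := fun _ => ℕ) (Bool.rec (motive := fun _ => ℕ) (Bool.rec (motive := fun _ => ℕ) (e12_80) (e12_81) (Nat.ble 81 b)) (Bool.rec (motive := fun _ => ℕ) (e12_82) (e12_83) (Nat.ble 83 b)) (Nat.ble 82 b)) (Bool.rec (motive := fun _ => ℕ) (Bool.rec (motive := fun _ => ℕ) (e12_84) (e12_85) (Nat.ble 85 b)) (Bool.rec (motive := fun _ => ℕ) (e12_86) (e12_87) (Nat.ble 87 b)) (Nat.ble 86 b)) (Nat.ble 84 b)) (Bool.rec (motive := fun _ => ℕ) (Bool.rec (motive := fun _ =>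 ℕ) (Bool.rec (motive := fun _ => ℕ) (e12_88) (e12_89) (Nat.ble 89 b)) (Bool.rec (motive := fun _ => ℕ) (e12_90) (e12_91) (Nat.ble 91 b)) (Nat.ble 90 b)) (Bool.rec (motive := fun _ => ℕ) (Bool.rec (motive := fun _ => ℕ) (e12_92) (e12_93) (Nat.ble 93 b)) (Bool.rec (motive := fun _ => ℕ) (e12_94) (e12_95) (Nat.ble 95 b)) (Nat.ble 94 b)) (Nat.ble 92 b)) (Nat.ble 88 b)) (Nat.ble 80 b)) (Bool.rec (motive := fun _ => ℕ) (Bool.rec (motive := fun _ => ℕ) (Bool.rec (motive := fun _ => ℕ) (Bool.rec (motive := fun _ => ℕ) (Bool.rec (motive := fun _ => ℕ) (e12_96) (e12_97) (Nat.ble 97 b)) (Bool.rec (motive := fun _ => ℕ) (e12_98) (e12_99) (Nat.ble 99 b)) (Nat.ble 98 b)) (Bool.rec (motive := fun _ => ℕ) (Bool.rec (motive := fun _ => ℕ) (e12_100) (e12_101) (Nat.ble 101 b)) (Bool.rec (motive := fun _ => ℕ) (e12_102) (e12_103) (Nat.ble 103 b)) (Nat.ble 102 b)) (Nat.ble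 100 b)) (Bool.rec (motive := fun _ => ℕ) (Bool.rec (motive := fun _ => ℕ) (Bool.rec (motive := fun _ => ℕ) (e12_104) (e12_105) (Nat.ble 105 b)) (Bool.rec (motive := fun _ => ℕ) (e12_106) (e12_107) (Nat.ble 107 b)) (Nat.ble 106 b)) (Bool.rec (motive := fun _ => ℕ) (Bool.rec (motive := fun _ => ℕ) (e12_108) (e12_109) (Nat.ble 109 b)) (Bool.rec (motive := fun _ => ℕ) (e12_110) (e12_111) (Nat.ble 111 b)) (Nat.ble 110 b)) (Nat.ble 108 b)) (Nat.ble 104 b)) (Bool.rec (motive := fun _ => ℕ) (Bool.rec (motive := fun _ => ℕ) (Bool.rec (motive := fun _ => ℕ) (Bool.rec (motive := fun _ => ℕ) (e12_112) (e12_113) (Nat.ble 113 b)) (Bool.rec (motive := fun _ => ℕ) (e12_114) (e12_115) (Nat.ble 115 b)) (Nat.ble 114 b)) (Bool.rec (motive := fun _ => ℕ) (Bool.rec (motive := fun _ => ℕ) (e12_116) (e12_117) (Nat.ble 117 b)) (Bool.rec (motive := fun _ => ℕ) (e12_118) (e12_119)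 (Nat.ble 119 b)) (Nat.ble 118 b)) (Nat.ble 116 b)) (Bool.rec (motive := fun _ => ℕ) (Bool.rec (motive := fun _ => ℕ) (Bool.rec (motive := fun _ => ℕ) (e12_120) (e12_121) (Nat.ble 121 b)) (Bool.rec (motive := fun _ => ℕ) (e12_122) (e12_123) (Nat.ble 123 b)) (Nat.ble 122 b)) (Bool.rec (motive := fun _ => ℕ) (Bool.rec (motive := fun _ => ℕ) (e12_124) (e12_125) (Nat.ble 125 b)) (Bool.rec (motive := fun _ => ℕ) (e12_126) (e12_127) (Nat.ble 127 b)) (Nat.ble 126 b)) (Nat.ble 124 b)) (Nat.ble 120 b)) (Nat.ble 112 b)) (Nat.ble 96 b)) (Nat.ble 64 b)) (Bool.rec (motive := fun _ => ℕ) (Bool.rec (motive := fun _ => ℕ) (Bool.rec (motive := fun _ => ℕ) (Bool.rec (motive := fun _ => ℕ) (Bool.rec (motive := fun _ => ℕ) (Bool.rec (motive := fun _ => ℕ) (Bool.rec (motive := fun _ => ℕ) (e12_128) (e12_129) (Nat.ble 129 b)) (Bool.rec (motive := fun _ => ℕ) (e12_130) (e12_131)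 (Nat.ble 131 b)) (Nat.ble 130 b)) (Bool.rec (motive := fun _ => ℕ) (Bool.rec (motive := fun _ => ℕ) (e12_132) (e12_133) (Nat.ble 133 b)) (Bool.rec (motive := fun _ => ℕ) (e12_134) (e12_135) (Nat.ble 135 b)) (Nat.ble 134 b)) (Nat.ble 132 b)) (Bool.rec (motive := fun _ => ℕ) (Bool.rec (motive := fun _ => ℕ) (Bool.rec (motive := fun _ => ℕ) (e12_136) (e12_137) (Nat.ble 137 b)) (Bool.rec (motive := fun _ => ℕ) (e12_138) (e12_139) (Nat.ble 139 b)) (Nat.ble 138 b)) (Bool.rec (motive := fun _ => ℕ) (Bool.rec (motive := fun _ => ℕ) (e12_140) (e12_141) (Nat.ble 141 b)) (Bool.rec (motive := fun _ => ℕ) (e12_142) (e12_143) (Nat.ble 143 b)) (Nat.ble 142 b)) (Nat.ble 140 b)) (Nat.ble 136 b)) (Bool.rec (motive := fun _ => ℕ) (Bool.rec (motive := fun _ => ℕ) (Bool.rec (motive := fun _ => ℕ) (Bool.rec (motive := fun _ => ℕ) (e12_144) (e12_145) (Nat.ble 145 b)) (Bool.rec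 (motive := fun _ => ℕ) (e12_146) (e12_147) (Nat.ble 147 b)) (Nat.ble 146 b)) (Bool.rec (motive := fun _ => ℕ) (Bool.rec (motive := fun _ => ℕ) (e12_148) (e12_149) (Nat.ble 149 b)) (Bool.rec (motive := fun _ => ℕ) (e12_150) (e12_151) (Nat.ble 151 b)) (Nat.ble 150 b)) (Nat.ble 148 b)) (Bool.rec (motive := fun _ => ℕ) (Bool.rec (motive := fun _ => ℕ) (Bool.rec (motive := fun _ => ℕ) (e12_152) (e12_153) (Nat.ble 153 b)) (Bool.rec (motive := fun _ => ℕ) (e12_154) (e12_155) (Nat.ble 155 b)) (Nat.ble 154 b)) (Bool.rec (motive := fun _ => ℕ) (Bool.rec (motive := fun _ => ℕ) (e12_156) (e12_157) (Nat.ble 157 b)) (Bool.rec (motive := fun _ => ℕ) (e12_158) (e12_159) (Nat.ble 159 b)) (Nat.ble 158 b)) (Nat.ble 156 b)) (Nat.ble 152 b)) (Nat.ble 144 b)) (Bool.rec (motive := fun _ => ℕ) (Bool.rec (motive := fun _ => ℕ) (Bool.rec (motive := fun _ => ℕ) (Bool.rec (motive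 := fun _ => ℕ) (Bool.rec (motive := fun _ => ℕ) (e12_160) (e12_161) (Nat.ble 161 b)) (Bool.rec (motive := fun _ => ℕ) (e12_162) (e12_163) (Nat.ble 163 b)) (Nat.ble 162 b)) (Bool.rec (motive := fun _ => ℕ) (Bool.rec (motive := fun _ => ℕ) (e12_164) (e12_165) (Nat.ble 165 b)) (Bool.rec (motive := fun _ => ℕ) (e12_166) (e12_167) (Nat.ble 167 b)) (Nat.ble 166 b)) (Nat.ble 164 b)) (0) (Nat.ble 168 b)) (0) (Nat.ble 176 b)) (Nat.ble 160 b)) (0) (Nat.ble 192 b)) (Nat.ble 128 b))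
noncomputable def jcol12 (b : ℕ) : ℕ := (Bool.rec (motive := fun _ => ℕ) (Bool.rec (motive := fun _ => ℕ) (Bool.rec (motive := fun _ => ℕ) (Bool.rec (motive := fun _ => ℕ) (Bool.rec (motive := fun _ => ℕ) (Bool.rec (motive := fun _ => ℕ) (Bool.rec (motive := fun _ => ℕ) (Bool.rec (motive := fun _ => ℕ) (j12_0) (j12_1) (Nat.ble 1 b)) (Bool.rec (motive := fun _ => ℕ) (j12_2) (j12_3) (Nat.ble 3 b)) (Nat.ble 2 b)) (Bool.rec (motive := fun _ => ℕ) (Bool.rec (motive := fun _ => ℕ) (j12_4) (j12_5) (Nat.ble 5 b)) (Bool.rec (motive := fun _ => ℕ) (j12_6) (j12_7) (Nat.ble 7 b)) (Nat.ble 6 b)) (Nat.ble 4 b)) (Bool.rec (motive := fun _ => ℕ) (Bool.rec (motive := fun _ => ℕ) (Bool.rec (motive := fun _ => ℕ) (j12_8) (j12_9) (Nat.ble 9 b)) (Bool.rec (motive := fun _ => ℕ) (j12_10) (j12_11) (Nat.ble 11 b)) (Nat.ble 10 b)) (Bool.rec (motive := fun _ => ℕ) (Bool.rec (motive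 := fun _ => ℕ) (j12_12) (j12_13) (Nat.ble 13 b)) (Bool.rec (motive := fun _ => ℕ) (j12_14) (j12_15) (Nat.ble 15 b)) (Nat.ble 14 b)) (Nat.ble 12 b)) (Nat.ble 8 b)) (Bool.rec (motive := fun _ => ℕ) (Bool.rec (motive := fun _ => ℕ) (Bool.rec (motive := fun _ => ℕ) (Bool.rec (motive := fun _ => ℕ) (j12_16) (j12_17) (Nat.ble 17 b)) (Bool.rec (motive := fun _ => ℕ) (j12_18) (j12_19) (Nat.ble 19 b)) (Nat.ble 18 b)) (Bool.rec (motive := fun _ => ℕ) (Bool.rec (motive := fun _ => ℕ) (j12_20) (j12_21) (Nat.ble 21 b)) (Bool.rec (motive := fun _ => ℕ) (j12_22) (j12_23) (Nat.ble 23 b)) (Nat.ble 22 b)) (Nat.ble 20 b)) (Bool.rec (motive := fun _ => ℕ) (Bool.rec (motive := fun _ => ℕ) (Bool.rec (motive := fun _ => ℕ) (j12_24) (j12_25) (Nat.ble 25 b)) (Bool.rec (motive := fun _ => ℕ) (j12_26) (j12_27) (Nat.ble 27 b)) (Nat.ble 26 b)) (Bool.rec (motive := fun _ => ℕ) (Bool.rec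 (motive := fun _ => ℕ) (j12_28) (j12_29) (Nat.ble 29 b)) (Bool.rec (motive := fun _ => ℕ) (j12_30) (j12_31) (Nat.ble 31 b)) (Nat.ble 30 b)) (Nat.ble 28 b)) (Nat.ble 24 b)) (Nat.ble 16 b)) (Bool.rec (motive := fun _ => ℕ) (Bool.rec (motive := fun _ => ℕ) (Bool.rec (motive := fun _ => ℕ) (Bool.rec (motive := fun _ => ℕ) (Bool.rec (motive := fun _ => ℕ) (j12_32) (j12_33) (Nat.ble 33 b)) (Bool.rec (motive := fun _ => ℕ) (j12_34) (j12_35) (Nat.ble 35 b)) (Nat.ble 34 b)) (Bool.rec (motive := fun _ => ℕ) (Bool.rec (motive := fun _ => ℕ) (j12_36) (j12_37) (Nat.ble 37 b)) (Bool.rec (motive := fun _ => ℕ) (j12_38) (j12_39) (Nat.ble 39 b)) (Nat.ble 38 b)) (Nat.ble 36 b)) (Bool.rec (motive := fun _ => ℕ) (Bool.rec (motive := fun _ => ℕ) (Bool.rec (motive := fun _ => ℕ) (j12_40) (j12_41) (Nat.ble 41 b)) (Bool.rec (motive := fun _ => ℕ) (j12_42) (j12_43) (Nat.ble 43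 b)) (Nat.ble 42 b)) (Bool.rec (motive := fun _ => ℕ) (Bool.rec (motive := fun _ => ℕ) (j12_44) (j12_45) (Nat.ble 45 b)) (Bool.rec (motive := fun _ => ℕ) (j12_46) (j12_47) (Nat.ble 47 b)) (Nat.ble 46 b)) (Nat.ble 44 b)) (Nat.ble 40 b)) (Bool.rec (motive := fun _ => ℕ) (Bool.rec (motive := fun _ => ℕ) (Bool.rec (motive := fun _ => ℕ) (Bool.rec (motive := fun _ => ℕ) (j12_48) (j12_49) (Nat.ble 49 b)) (Bool.rec (motive := fun _ => ℕ) (j12_50) (j12_51) (Nat.ble 51 b)) (Nat.ble 50 b)) (Bool.rec (motive := fun _ => ℕ) (Bool.rec (motive := fun _ => ℕ) (j12_52) (j12_53) (Nat.ble 53 b)) (Bool.rec (motive := fun _ => ℕ) (j12_54) (j12_55) (Nat.ble 55 b)) (Nat.ble 54 b)) (Nat.ble 52 b)) (Bool.rec (motive := fun _ => ℕ) (Bool.rec (motive := fun _ => ℕ) (Bool.rec (motive := fun _ => ℕ) (j12_56) (j12_57) (Nat.ble 57 b)) (Bool.rec (motive := fun _ => ℕ) (j12_58) (j12_59)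 (Nat.ble 59 b)) (Nat.ble 58 b)) (Bool.rec (motive := fun _ => ℕ) (Bool.rec (motive := fun _ => ℕ) (j12_60) (j12_61) (Nat.ble 61 b)) (Bool.rec (motive := fun _ => ℕ) (j12_62) (j12_63) (Nat.ble 63 b)) (Nat.ble 62 b)) (Nat.ble 60 b)) (Nat.ble 56 b)) (Nat.ble 48 b)) (Nat.ble 32 b)) (Bool.rec (motive := fun _ => ℕ) (Bool.rec (motive := fun _ => ℕ) (Bool.rec (motive := fun _ => ℕ) (Bool.rec (motive := fun _ => ℕ) (Bool.rec (motive := fun _ => ℕ) (Bool.rec (motive := fun _ => ℕ) (j12_64) (j12_65) (Nat.ble 65 b)) (Bool.rec (motive := fun _ => ℕ) (j12_66) (j12_67) (Nat.ble 67 b)) (Nat.ble 66 b)) (Bool.rec (motive := fun _ => ℕ) (Bool.rec (motive := fun _ => ℕ) (j12_68) (j12_69) (Nat.ble 69 b)) (Bool.rec (motive := fun _ => ℕ) (j12_70) (j12_71) (Nat.ble 71 b)) (Nat.ble 70 b)) (Nat.ble 68 b)) (Bool.rec (motive := fun _ => ℕ) (Bool.rec (motive := fun _ => ℕ) (Bool.rec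 (motive := fun _ => ℕ) (j12_72) (j12_73) (Nat.ble 73 b)) (Bool.rec (motive := fun _ => ℕ) (j12_74) (j12_75) (Nat.ble 75 b)) (Nat.ble 74 b)) (Bool.rec (motive := fun _ => ℕ) (Bool.rec (motive := fun _ => ℕ) (j12_76) (j12_77) (Nat.ble 77 b)) (Bool.rec (motive := fun _ => ℕ) (j12_78) (j12_79) (Nat.ble 79 b)) (Nat.ble 78 b)) (Nat.ble 76 b)) (Nat.ble 72 b)) (Bool.rec (motive := fun _ => ℕ) (Bool.rec (motive := fun _ => ℕ) (Bool.rec (motive := fun _ => ℕ) (Bool.rec (motive := fun _ => ℕ) (j12_80) (j12_81) (Nat.ble 81 b)) (Bool.rec (motive := fun _ => ℕ) (j12_82) (j12_83) (Nat.ble 83 b)) (Nat.ble 82 b)) (Bool.rec (motive := fun _ => ℕ) (Bool.rec (motive := fun _ => ℕ) (j12_84) (j12_85) (Nat.ble 85 b)) (Bool.rec (motive := fun _ => ℕ) (j12_86) (j12_87) (Nat.ble 87 b)) (Nat.ble 86 b)) (Nat.ble 84 b)) (Bool.rec (motive := fun _ => ℕ) (Bool.rec (motive := fun _ =>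 ℕ) (Bool.rec (motive := fun _ => ℕ) (j12_88) (j12_89) (Nat.ble 89 b)) (Bool.rec (motive := fun _ => ℕ) (j12_90) (j12_91) (Nat.ble 91 b)) (Nat.ble 90 b)) (Bool.rec (motive := fun _ => ℕ) (Bool.rec (motive := fun _ => ℕ) (j12_92) (j12_93) (Nat.ble 93 b)) (Bool.rec (motive := fun _ => ℕ) (j12_94) (j12_95) (Nat.ble 95 b)) (Nat.ble 94 b)) (Nat.ble 92 b)) (Nat.ble 88 b)) (Nat.ble 80 b)) (Bool.rec (motive := fun _ => ℕ) (Bool.rec (motive := fun _ => ℕ) (Bool.rec (motive := fun _ => ℕ) (Bool.rec (motive := fun _ => ℕ) (Bool.rec (motive := fun _ => ℕ) (j12_96) (j12_97) (Nat.ble 97 b)) (Bool.rec (motive := fun _ => ℕ) (j12_98) (j12_99) (Nat.ble 99 b)) (Nat.ble 98 b)) (Bool.rec (motive := fun _ => ℕ) (Bool.rec (motive := fun _ => ℕ) (j12_100) (j12_101) (Nat.ble 101 b)) (Bool.rec (motive := fun _ => ℕ) (j12_102) (j12_103) (Nat.ble 103 b)) (Nat.ble 102 b)) (Nat.ble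 100 b)) (Bool.rec (motive := fun _ => ℕ) (Bool.rec (motive := fun _ => ℕ) (Bool.rec (motive := fun _ => ℕ) (j12_104) (j12_105) (Nat.ble 105 b)) (Bool.rec (motive := fun _ => ℕ) (j12_106) (j12_107) (Nat.ble 107 b)) (Nat.ble 106 b)) (Bool.rec (motive := fun _ => ℕ) (Bool.rec (motive := fun _ => ℕ) (j12_108) (j12_109) (Nat.ble 109 b)) (Bool.rec (motive := fun _ => ℕ) (j12_110) (j12_111) (Nat.ble 111 b)) (Nat.ble 110 b)) (Nat.ble 108 b)) (Nat.ble 104 b)) (Bool.rec (motive := fun _ => ℕ) (Bool.rec (motive := fun _ => ℕ) (Bool.rec (motive := fun _ => ℕ) (Bool.rec (motive := fun _ => ℕ) (j12_112) (j12_113) (Nat.ble 113 b)) (Bool.rec (motive := fun _ => ℕ) (j12_114) (j12_115) (Nat.ble 115 b)) (Nat.ble 114 b)) (Bool.rec (motive := fun _ => ℕ) (Bool.rec (motive := fun _ => ℕ) (j12_116) (j12_117) (Nat.ble 117 b)) (Bool.rec (motive := fun _ => ℕ) (j12_118) (j12_119)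 (Nat.ble 119 b)) (Nat.ble 118 b)) (Nat.ble 116 b)) (Bool.rec (motive := fun _ => ℕ) (Bool.rec (motive := fun _ => ℕ) (Bool.rec (motive := fun _ => ℕ) (j12_120) (j12_121) (Nat.ble 121 b)) (Bool.rec (motive := fun _ => ℕ) (j12_122) (j12_123) (Nat.ble 123 b)) (Nat.ble 122 b)) (Bool.rec (motive := fun _ => ℕ) (Bool.rec (motive := fun _ => ℕ) (j12_124) (j12_125) (Nat.ble 125 b)) (Bool.rec (motive := fun _ => ℕ) (j12_126) (j12_127) (Nat.ble 127 b)) (Nat.ble 126 b)) (Nat.ble 124 b)) (Nat.ble 120 b)) (Nat.ble 112 b)) (Nat.ble 96 b)) (Nat.ble 64 b)) (Bool.rec (motive := fun _ => ℕ) (Bool.rec (motive := fun _ => ℕ) (Bool.rec (motive := fun _ => ℕ) (Bool.rec (motive := fun _ => ℕ) (Bool.rec (motive := fun _ => ℕ) (Bool.rec (motive := fun _ => ℕ) (Bool.rec (motive := fun _ => ℕ) (j12_128) (j12_129) (Nat.ble 129 b)) (Bool.rec (motive := fun _ => ℕ) (j12_130) (j12_131)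 (Nat.ble 131 b)) (Nat.ble 130 b)) (Bool.rec (motive := fun _ => ℕ) (Bool.rec (motive := fun _ => ℕ) (j12_132) (j12_133) (Nat.ble 133 b)) (Bool.rec (motive := fun _ => ℕ) (j12_134) (j12_135) (Nat.ble 135 b)) (Nat.ble 134 b)) (Nat.ble 132 b)) (Bool.rec (motive := fun _ => ℕ) (Bool.rec (motive := fun _ => ℕ) (Bool.rec (motive := fun _ => ℕ) (j12_136) (j12_137) (Nat.ble 137 b)) (Bool.rec (motive := fun _ => ℕ) (j12_138) (j12_139) (Nat.ble 139 b)) (Nat.ble 138 b)) (Bool.rec (motive := fun _ => ℕ) (Bool.rec (motive := fun _ => ℕ) (j12_140) (j12_141) (Nat.ble 141 b)) (Bool.rec (motive := fun _ => ℕ) (j12_142) (j12_143) (Nat.ble 143 b)) (Nat.ble 142 b)) (Nat.ble 140 b)) (Nat.ble 136 b)) (Bool.rec (motive := fun _ => ℕ) (Bool.rec (motive := fun _ => ℕ) (Bool.rec (motive := fun _ => ℕ) (Bool.rec (motive := fun _ => ℕ) (j12_144) (j12_145) (Nat.ble 145 b)) (Bool.rec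 (motive := fun _ => ℕ) (j12_146) (j12_147) (Nat.ble 147 b)) (Nat.ble 146 b)) (Bool.rec (motive := fun _ => ℕ) (Bool.rec (motive := fun _ => ℕ) (j12_148) (j12_149) (Nat.ble 149 b)) (Bool.rec (motive := fun _ => ℕ) (j12_150) (j12_151) (Nat.ble 151 b)) (Nat.ble 150 b)) (Nat.ble 148 b)) (Bool.rec (motive := fun _ => ℕ) (Bool.rec (motive := fun _ => ℕ) (Bool.rec (motive := fun _ => ℕ) (j12_152) (j12_153) (Nat.ble 153 b)) (Bool.rec (motive := fun _ => ℕ) (j12_154) (j12_155) (Nat.ble 155 b)) (Nat.ble 154 b)) (Bool.rec (motive := fun _ => ℕ) (Bool.rec (motive := fun _ => ℕ) (j12_156) (j12_157) (Nat.ble 157 b)) (Bool.rec (motive := fun _ => ℕ) (j12_158) (j12_159) (Nat.ble 159 b)) (Nat.ble 158 b)) (Nat.ble 156 b)) (Nat.ble 152 b)) (Nat.ble 144 b)) (Bool.rec (motive := fun _ => ℕ) (Bool.rec (motive := fun _ => ℕ) (Bool.rec (motive := fun _ => ℕ) (Bool.rec (motive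 := fun _ => ℕ) (Bool.rec (motive := fun _ => ℕ) (j12_160) (j12_161) (Nat.ble 161 b)) (Bool.rec (motive := fun _ => ℕ) (j12_162) (j12_163) (Nat.ble 163 b)) (Nat.ble 162 b)) (Bool.rec (motive := fun _ => ℕ) (Bool.rec (motive := fun _ => ℕ) (j12_164) (j12_165) (Nat.ble 165 b)) (Bool.rec (motive := fun _ => ℕ) (j12_166) (j12_167) (Nat.ble 167 b)) (Nat.ble 166 b)) (Nat.ble 164 b)) (0) (Nat.ble 168 b)) (0) (Nat.ble 176 b)) (Nat.ble 160 b)) (0) (Nat.ble 192 b)) (Nat.ble 128 b))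
noncomputable def ecol13 (b : ℕ) : ℕ := (Bool.rec (motive := fun _ => ℕ) (Bool.rec (motive := fun _ => ℕ) (Bool.rec (motive := fun _ => ℕ) (Bool.rec (motive := fun _ => ℕ) (Bool.rec (motive := fun _ => ℕ) (Bool.rec (motive := fun _ => ℕ) (Bool.rec (motive := fun _ => ℕ) (Bool.rec (motive := fun _ => ℕ) (e13_0) (e13_1) (Nat.ble 1 b)) (Bool.rec (motive := fun _ => ℕ) (e13_2) (e13_3) (Nat.ble 3 b)) (Nat.ble 2 b)) (Bool.rec (motive := fun _ => ℕ) (Bool.rec (motive := fun _ => ℕ) (e13_4) (e13_5) (Nat.ble 5 b)) (Bool.rec (motive := fun _ => ℕ) (e13_6) (e13_7) (Nat.ble 7 b)) (Nat.ble 6 b)) (Nat.ble 4 b)) (Bool.rec (motive := fun _ => ℕ) (Bool.rec (motive := fun _ => ℕ) (Bool.rec (motive := fun _ => ℕ) (e13_8) (e13_9) (Nat.ble 9 b)) (Bool.rec (motive := fun _ => ℕ) (e13_10) (e13_11) (Nat.ble 11 b)) (Nat.ble 10 b)) (Bool.rec (motive := fun _ => ℕ) (Bool.rec (motive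 := fun _ => ℕ) (e13_12) (e13_13) (Nat.ble 13 b)) (Bool.rec (motive := fun _ => ℕ) (e13_14) (e13_15) (Nat.ble 15 b)) (Nat.ble 14 b)) (Nat.ble 12 b)) (Nat.ble 8 b)) (Bool.rec (motive := fun _ => ℕ) (Bool.rec (motive := fun _ => ℕ) (Bool.rec (motive := fun _ => ℕ) (Bool.rec (motive := fun _ => ℕ) (e13_16) (e13_17) (Nat.ble 17 b)) (Bool.rec (motive := fun _ => ℕ) (e13_18) (e13_19) (Nat.ble 19 b)) (Nat.ble 18 b)) (Bool.rec (motive := fun _ => ℕ) (Bool.rec (motive := fun _ => ℕ) (e13_20) (e13_21) (Nat.ble 21 b)) (Bool.rec (motive := fun _ => ℕ) (e13_22) (e13_23) (Nat.ble 23 b)) (Nat.ble 22 b)) (Nat.ble 20 b)) (Bool.rec (motive := fun _ => ℕ) (Bool.rec (motive := fun _ => ℕ) (Bool.rec (motive := fun _ => ℕ) (e13_24) (e13_25) (Nat.ble 25 b)) (Bool.rec (motive := fun _ => ℕ) (e13_26) (e13_27) (Nat.ble 27 b)) (Nat.ble 26 b)) (Bool.rec (motive := fun _ => ℕ) (Bool.rec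 (motive := fun _ => ℕ) (e13_28) (e13_29) (Nat.ble 29 b)) (Bool.rec (motive := fun _ => ℕ) (e13_30) (e13_31) (Nat.ble 31 b)) (Nat.ble 30 b)) (Nat.ble 28 b)) (Nat.ble 24 b)) (Nat.ble 16 b)) (Bool.rec (motive := fun _ => ℕ) (Bool.rec (motive := fun _ => ℕ) (Bool.rec (motive := fun _ => ℕ) (Bool.rec (motive := fun _ => ℕ) (Bool.rec (motive := fun _ => ℕ) (e13_32) (e13_33) (Nat.ble 33 b)) (Bool.rec (motive := fun _ => ℕ) (e13_34) (e13_35) (Nat.ble 35 b)) (Nat.ble 34 b)) (Bool.rec (motive := fun _ => ℕ) (Bool.rec (motive := fun _ => ℕ) (e13_36) (e13_37) (Nat.ble 37 b)) (Bool.rec (motive := fun _ => ℕ) (e13_38) (e13_39) (Nat.ble 39 b)) (Nat.ble 38 b)) (Nat.ble 36 b)) (Bool.rec (motive := fun _ => ℕ) (Bool.rec (motive := fun _ => ℕ) (Bool.rec (motive := fun _ => ℕ) (e13_40) (e13_41) (Nat.ble 41 b)) (Bool.rec (motive := fun _ => ℕ) (e13_42) (e13_43) (Nat.ble 43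 b)) (Nat.ble 42 b)) (Bool.rec (motive := fun _ => ℕ) (Bool.rec (motive := fun _ => ℕ) (e13_44) (e13_45) (Nat.ble 45 b)) (Bool.rec (motive := fun _ => ℕ) (e13_46) (e13_47) (Nat.ble 47 b)) (Nat.ble 46 b)) (Nat.ble 44 b)) (Nat.ble 40 b)) (Bool.rec (motive := fun _ => ℕ) (Bool.rec (motive := fun _ => ℕ) (Bool.rec (motive := fun _ => ℕ) (Bool.rec (motive := fun _ => ℕ) (e13_48) (e13_49) (Nat.ble 49 b)) (Bool.rec (motive := fun _ => ℕ) (e13_50) (e13_51) (Nat.ble 51 b)) (Nat.ble 50 b)) (Bool.rec (motive := fun _ => ℕ) (Bool.rec (motive := fun _ => ℕ) (e13_52) (e13_53) (Nat.ble 53 b)) (Bool.rec (motive := fun _ => ℕ) (e13_54) (e13_55) (Nat.ble 55 b)) (Nat.ble 54 b)) (Nat.ble 52 b)) (Bool.rec (motive := fun _ => ℕ) (Bool.rec (motive := fun _ => ℕ) (Bool.rec (motive := fun _ => ℕ) (e13_56) (e13_57) (Nat.ble 57 b)) (Bool.rec (motive := fun _ => ℕ) (e13_58) (e13_59)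 (Nat.ble 59 b)) (Nat.ble 58 b)) (Bool.rec (motive := fun _ => ℕ) (Bool.rec (motive := fun _ => ℕ) (e13_60) (e13_61) (Nat.ble 61 b)) (Bool.rec (motive := fun _ => ℕ) (e13_62) (e13_63) (Nat.ble 63 b)) (Nat.ble 62 b)) (Nat.ble 60 b)) (Nat.ble 56 b)) (Nat.ble 48 b)) (Nat.ble 32 b)) (Bool.rec (motive := fun _ => ℕ) (Bool.rec (motive := fun _ => ℕ) (Bool.rec (motive := fun _ => ℕ) (Bool.rec (motive := fun _ => ℕ) (Bool.rec (motive := fun _ => ℕ) (Bool.rec (motive := fun _ => ℕ) (e13_64) (e13_65) (Nat.ble 65 b)) (Bool.rec (motive := fun _ => ℕ) (e13_66) (e13_67) (Nat.ble 67 b)) (Nat.ble 66 b)) (Bool.rec (motive := fun _ => ℕ) (Bool.rec (motive := fun _ => ℕ) (e13_68) (e13_69) (Nat.ble 69 b)) (Bool.rec (motive := fun _ => ℕ) (e13_70) (e13_71) (Nat.ble 71 b)) (Nat.ble 70 b)) (Nat.ble 68 b)) (Bool.rec (motive := fun _ => ℕ) (Bool.rec (motive := fun _ => ℕ) (Bool.rec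 (motive := fun _ => ℕ) (e13_72) (e13_73) (Nat.ble 73 b)) (Bool.rec (motive := fun _ => ℕ) (e13_74) (e13_75) (Nat.ble 75 b)) (Nat.ble 74 b)) (Bool.rec (motive := fun _ => ℕ) (Bool.rec (motive := fun _ => ℕ) (e13_76) (e13_77) (Nat.ble 77 b)) (Bool.rec (motive := fun _ => ℕ) (e13_78) (e13_79) (Nat.ble 79 b)) (Nat.ble 78 b)) (Nat.ble 76 b)) (Nat.ble 72 b)) (Bool.rec (motive := fun _ => ℕ) (Bool.rec (motive := fun _ => ℕ) (Bool.rec (motive := fun _ => ℕ) (Bool.rec (motive := fun _ => ℕ) (e13_80) (e13_81) (Nat.ble 81 b)) (Bool.rec (motive := fun _ => ℕ) (e13_82) (e13_83) (Nat.ble 83 b)) (Nat.ble 82 b)) (Bool.rec (motive := fun _ => ℕ) (Bool.rec (motive := fun _ => ℕ) (e13_84) (e13_85) (Nat.ble 85 b)) (Bool.rec (motive := fun _ => ℕ) (e13_86) (e13_87) (Nat.ble 87 b)) (Nat.ble 86 b)) (Nat.ble 84 b)) (Bool.rec (motive := fun _ => ℕ) (Bool.rec (motive := fun _ =>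 ℕ) (Bool.rec (motive := fun _ => ℕ) (e13_88) (e13_89) (Nat.ble 89 b)) (Bool.rec (motive := fun _ => ℕ) (e13_90) (e13_91) (Nat.ble 91 b)) (Nat.ble 90 b)) (Bool.rec (motive := fun _ => ℕ) (Bool.rec (motive := fun _ => ℕ) (e13_92) (e13_93) (Nat.ble 93 b)) (Bool.rec (motive := fun _ => ℕ) (e13_94) (e13_95) (Nat.ble 95 b)) (Nat.ble 94 b)) (Nat.ble 92 b)) (Nat.ble 88 b)) (Nat.ble 80 b)) (Bool.rec (motive := fun _ => ℕ) (Bool.rec (motive := fun _ => ℕ) (Bool.rec (motive := fun _ => ℕ) (Bool.rec (motive := fun _ => ℕ) (Bool.rec (motive := fun _ => ℕ) (e13_96) (e13_97) (Nat.ble 97 b)) (Bool.rec (motive := fun _ => ℕ) (e13_98) (e13_99) (Nat.ble 99 b)) (Nat.ble 98 b)) (Bool.rec (motive := fun _ => ℕ) (Bool.rec (motive := fun _ => ℕ) (e13_100) (e13_101) (Nat.ble 101 b)) (Bool.rec (motive := fun _ => ℕ) (e13_102) (e13_103) (Nat.ble 103 b)) (Nat.ble 102 b)) (Nat.ble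 100 b)) (Bool.rec (motive := fun _ => ℕ) (Bool.rec (motive := fun _ => ℕ) (Bool.rec (motive := fun _ => ℕ) (e13_104) (e13_105) (Nat.ble 105 b)) (Bool.rec (motive := fun _ => ℕ) (e13_106) (e13_107) (Nat.ble 107 b)) (Nat.ble 106 b)) (Bool.rec (motive := fun _ => ℕ) (Bool.rec (motive := fun _ => ℕ) (e13_108) (e13_109) (Nat.ble 109 b)) (Bool.rec (motive := fun _ => ℕ) (e13_110) (e13_111) (Nat.ble 111 b)) (Nat.ble 110 b)) (Nat.ble 108 b)) (Nat.ble 104 b)) (Bool.rec (motive := fun _ => ℕ) (Bool.rec (motive := fun _ => ℕ) (Bool.rec (motive := fun _ => ℕ) (Bool.rec (motive := fun _ => ℕ) (e13_112) (e13_113) (Nat.ble 113 b)) (Bool.rec (motive := fun _ => ℕ) (e13_114) (e13_115) (Nat.ble 115 b)) (Nat.ble 114 b)) (Bool.rec (motive := fun _ => ℕ) (Bool.rec (motive := fun _ => ℕ) (e13_116) (e13_117) (Nat.ble 117 b)) (Bool.rec (motive := fun _ => ℕ) (e13_118) (e13_119)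 (Nat.ble 119 b)) (Nat.ble 118 b)) (Nat.ble 116 b)) (Bool.rec (motive := fun _ => ℕ) (Bool.rec (motive := fun _ => ℕ) (Bool.rec (motive := fun _ => ℕ) (e13_120) (e13_121) (Nat.ble 121 b)) (Bool.rec (motive := fun _ => ℕ) (e13_122) (e13_123) (Nat.ble 123 b)) (Nat.ble 122 b)) (Bool.rec (motive := fun _ => ℕ) (Bool.rec (motive := fun _ => ℕ) (e13_124) (e13_125) (Nat.ble 125 b)) (Bool.rec (motive := fun _ => ℕ) (e13_126) (e13_127) (Nat.ble 127 b)) (Nat.ble 126 b)) (Nat.ble 124 b)) (Nat.ble 120 b)) (Nat.ble 112 b)) (Nat.ble 96 b)) (Nat.ble 64 b)) (Bool.rec (motive := fun _ => ℕ) (Bool.rec (motive := fun _ => ℕ) (Bool.rec (motive := fun _ => ℕ) (Bool.rec (motive := fun _ => ℕ) (Bool.rec (motive := fun _ => ℕ) (Bool.rec (motive := fun _ => ℕ) (Bool.rec (motive := fun _ => ℕ) (e13_128) (e13_129) (Nat.ble 129 b)) (Bool.rec (motive := fun _ => ℕ) (e13_130) (e13_131)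 (Nat.ble 131 b)) (Nat.ble 130 b)) (Bool.rec (motive := fun _ => ℕ) (Bool.rec (motive := fun _ => ℕ) (e13_132) (e13_133) (Nat.ble 133 b)) (Bool.rec (motive := fun _ => ℕ) (e13_134) (e13_135) (Nat.ble 135 b)) (Nat.ble 134 b)) (Nat.ble 132 b)) (Bool.rec (motive := fun _ => ℕ) (Bool.rec (motive := fun _ => ℕ) (Bool.rec (motive := fun _ => ℕ) (e13_136) (e13_137) (Nat.ble 137 b)) (Bool.rec (motive := fun _ => ℕ) (e13_138) (e13_139) (Nat.ble 139 b)) (Nat.ble 138 b)) (Bool.rec (motive := fun _ => ℕ) (Bool.rec (motive := fun _ => ℕ) (e13_140) (e13_141) (Nat.ble 141 b)) (Bool.rec (motive := fun _ => ℕ) (e13_142) (e13_143) (Nat.ble 143 b)) (Nat.ble 142 b)) (Nat.ble 140 b)) (Nat.ble 136 b)) (Bool.rec (motive := fun _ => ℕ) (Bool.rec (motive := fun _ => ℕ) (Bool.rec (motive := fun _ => ℕ) (Bool.rec (motive := fun _ => ℕ) (e13_144) (e13_145) (Nat.ble 145 b)) (Bool.rec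 (motive := fun _ => ℕ) (e13_146) (e13_147) (Nat.ble 147 b)) (Nat.ble 146 b)) (Bool.rec (motive := fun _ => ℕ) (Bool.rec (motive := fun _ => ℕ) (e13_148) (e13_149) (Nat.ble 149 b)) (Bool.rec (motive := fun _ => ℕ) (e13_150) (e13_151) (Nat.ble 151 b)) (Nat.ble 150 b)) (Nat.ble 148 b)) (Bool.rec (motive := fun _ => ℕ) (Bool.rec (motive := fun _ => ℕ) (Bool.rec (motive := fun _ => ℕ) (e13_152) (e13_153) (Nat.ble 153 b)) (Bool.rec (motive := fun _ => ℕ) (e13_154) (e13_155) (Nat.ble 155 b)) (Nat.ble 154 b)) (Bool.rec (motive := fun _ => ℕ) (Bool.rec (motive := fun _ => ℕ) (e13_156) (e13_157) (Nat.ble 157 b)) (Bool.rec (motive := fun _ => ℕ) (e13_158) (e13_159) (Nat.ble 159 b)) (Nat.ble 158 b)) (Nat.ble 156 b)) (Nat.ble 152 b)) (Nat.ble 144 b)) (Bool.rec (motive := fun _ => ℕ) (Bool.rec (motive := fun _ => ℕ) (Bool.rec (motive := fun _ => ℕ) (Bool.rec (motive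 := fun _ => ℕ) (Bool.rec (motive := fun _ => ℕ) (e13_160) (e13_161) (Nat.ble 161 b)) (Bool.rec (motive := fun _ => ℕ) (e13_162) (e13_163) (Nat.ble 163 b)) (Nat.ble 162 b)) (Bool.rec (motive := fun _ => ℕ) (Bool.rec (motive := fun _ => ℕ) (e13_164) (e13_165) (Nat.ble 165 b)) (Bool.rec (motive := fun _ => ℕ) (e13_166) (e13_167) (Nat.ble 167 b)) (Nat.ble 166 b)) (Nat.ble 164 b)) (0) (Nat.ble 168 b)) (0) (Nat.ble 176 b)) (Nat.ble 160 b)) (0) (Nat.ble 192 b)) (Nat.ble 128 b))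
noncomputable def jcol13 (b : ℕ) : ℕ := (Bool.rec (motive := fun _ => ℕ) (Bool.rec (motive := fun _ => ℕ) (Bool.rec (motive := fun _ => ℕ) (Bool.rec (motive := fun _ => ℕ) (Bool.rec (motive := fun _ => ℕ) (Bool.rec (motive := fun _ => ℕ) (Bool.rec (motive := fun _ => ℕ) (Bool.rec (motive := fun _ => ℕ) (j13_0) (j13_1) (Nat.ble 1 b)) (Bool.rec (motive := fun _ => ℕ) (j13_2) (j13_3) (Nat.ble 3 b)) (Nat.ble 2 b)) (Bool.rec (motive := fun _ => ℕ) (Bool.rec (motive := fun _ => ℕ) (j13_4) (j13_5) (Nat.ble 5 b)) (Bool.rec (motive := fun _ => ℕ) (j13_6) (j13_7) (Nat.ble 7 b)) (Nat.ble 6 b)) (Nat.ble 4 b)) (Bool.rec (motive := fun _ => ℕ) (Bool.rec (motive := fun _ => ℕ) (Bool.rec (motive := fun _ => ℕ) (j13_8) (j13_9) (Nat.ble 9 b)) (Bool.rec (motive := fun _ => ℕ) (j13_10) (j13_11) (Nat.ble 11 b)) (Nat.ble 10 b)) (Bool.rec (motive := fun _ => ℕ) (Bool.rec (motive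 := fun _ => ℕ) (j13_12) (j13_13) (Nat.ble 13 b)) (Bool.rec (motive := fun _ => ℕ) (j13_14) (j13_15) (Nat.ble 15 b)) (Nat.ble 14 b)) (Nat.ble 12 b)) (Nat.ble 8 b)) (Bool.rec (motive := fun _ => ℕ) (Bool.rec (motive := fun _ => ℕ) (Bool.rec (motive := fun _ => ℕ) (Bool.rec (motive := fun _ => ℕ) (j13_16) (j13_17) (Nat.ble 17 b)) (Bool.rec (motive := fun _ => ℕ) (j13_18) (j13_19) (Nat.ble 19 b)) (Nat.ble 18 b)) (Bool.rec (motive := fun _ => ℕ) (Bool.rec (motive := fun _ => ℕ) (j13_20) (j13_21) (Nat.ble 21 b)) (Bool.rec (motive := fun _ => ℕ) (j13_22) (j13_23) (Nat.ble 23 b)) (Nat.ble 22 b)) (Nat.ble 20 b)) (Bool.rec (motive := fun _ => ℕ) (Bool.rec (motive := fun _ => ℕ) (Bool.rec (motive := fun _ => ℕ) (j13_24) (j13_25) (Nat.ble 25 b)) (Bool.rec (motive := fun _ => ℕ) (j13_26) (j13_27) (Nat.ble 27 b)) (Nat.ble 26 b)) (Bool.rec (motive := fun _ => ℕ) (Bool.rec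 (motive := fun _ => ℕ) (j13_28) (j13_29) (Nat.ble 29 b)) (Bool.rec (motive := fun _ => ℕ) (j13_30) (j13_31) (Nat.ble 31 b)) (Nat.ble 30 b)) (Nat.ble 28 b)) (Nat.ble 24 b)) (Nat.ble 16 b)) (Bool.rec (motive := fun _ => ℕ) (Bool.rec (motive := fun _ => ℕ) (Bool.rec (motive := fun _ => ℕ) (Bool.rec (motive := fun _ => ℕ) (Bool.rec (motive := fun _ => ℕ) (j13_32) (j13_33) (Nat.ble 33 b)) (Bool.rec (motive := fun _ => ℕ) (j13_34) (j13_35) (Nat.ble 35 b)) (Nat.ble 34 b)) (Bool.rec (motive := fun _ => ℕ) (Bool.rec (motive := fun _ => ℕ) (j13_36) (j13_37) (Nat.ble 37 b)) (Bool.rec (motive := fun _ => ℕ) (j13_38) (j13_39) (Nat.ble 39 b)) (Nat.ble 38 b)) (Nat.ble 36 b)) (Bool.rec (motive := fun _ => ℕ) (Bool.rec (motive := fun _ => ℕ) (Bool.rec (motive := fun _ => ℕ) (j13_40) (j13_41) (Nat.ble 41 b)) (Bool.rec (motive := fun _ => ℕ) (j13_42) (j13_43) (Nat.ble 43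 b)) (Nat.ble 42 b)) (Bool.rec (motive := fun _ => ℕ) (Bool.rec (motive := fun _ => ℕ) (j13_44) (j13_45) (Nat.ble 45 b)) (Bool.rec (motive := fun _ => ℕ) (j13_46) (j13_47) (Nat.ble 47 b)) (Nat.ble 46 b)) (Nat.ble 44 b)) (Nat.ble 40 b)) (Bool.rec (motive := fun _ => ℕ) (Bool.rec (motive := fun _ => ℕ) (Bool.rec (motive := fun _ => ℕ) (Bool.rec (motive := fun _ => ℕ) (j13_48) (j13_49) (Nat.ble 49 b)) (Bool.rec (motive := fun _ => ℕ) (j13_50) (j13_51) (Nat.ble 51 b)) (Nat.ble 50 b)) (Bool.rec (motive := fun _ => ℕ) (Bool.rec (motive := fun _ => ℕ) (j13_52) (j13_53) (Nat.ble 53 b)) (Bool.rec (motive := fun _ => ℕ) (j13_54) (j13_55) (Nat.ble 55 b)) (Nat.ble 54 b)) (Nat.ble 52 b)) (Bool.rec (motive := fun _ => ℕ) (Bool.rec (motive := fun _ => ℕ) (Bool.rec (motive := fun _ => ℕ) (j13_56) (j13_57) (Nat.ble 57 b)) (Bool.rec (motive := fun _ => ℕ) (j13_58) (j13_59)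 (Nat.ble 59 b)) (Nat.ble 58 b)) (Bool.rec (motive := fun _ => ℕ) (Bool.rec (motive := fun _ => ℕ) (j13_60) (j13_61) (Nat.ble 61 b)) (Bool.rec (motive := fun _ => ℕ) (j13_62) (j13_63) (Nat.ble 63 b)) (Nat.ble 62 b)) (Nat.ble 60 b)) (Nat.ble 56 b)) (Nat.ble 48 b)) (Nat.ble 32 b)) (Bool.rec (motive := fun _ => ℕ) (Bool.rec (motive := fun _ => ℕ) (Bool.rec (motive := fun _ => ℕ) (Bool.rec (motive := fun _ => ℕ) (Bool.rec (motive := fun _ => ℕ) (Bool.rec (motive := fun _ => ℕ) (j13_64) (j13_65) (Nat.ble 65 b)) (Bool.rec (motive := fun _ => ℕ) (j13_66) (j13_67) (Nat.ble 67 b)) (Nat.ble 66 b)) (Bool.rec (motive := fun _ => ℕ) (Bool.rec (motive := fun _ => ℕ) (j13_68) (j13_69) (Nat.ble 69 b)) (Bool.rec (motive := fun _ => ℕ) (j13_70) (j13_71) (Nat.ble 71 b)) (Nat.ble 70 b)) (Nat.ble 68 b)) (Bool.rec (motive := fun _ => ℕ) (Bool.rec (motive := fun _ => ℕ) (Bool.rec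 (motive := fun _ => ℕ) (j13_72) (j13_73) (Nat.ble 73 b)) (Bool.rec (motive := fun _ => ℕ) (j13_74) (j13_75) (Nat.ble 75 b)) (Nat.ble 74 b)) (Bool.rec (motive := fun _ => ℕ) (Bool.rec (motive := fun _ => ℕ) (j13_76) (j13_77) (Nat.ble 77 b)) (Bool.rec (motive := fun _ => ℕ) (j13_78) (j13_79) (Nat.ble 79 b)) (Nat.ble 78 b)) (Nat.ble 76 b)) (Nat.ble 72 b)) (Bool.rec (motive := fun _ => ℕ) (Bool.rec (motive := fun _ => ℕ) (Bool.rec (motive := fun _ => ℕ) (Bool.rec (motive := fun _ => ℕ) (j13_80) (j13_81) (Nat.ble 81 b)) (Bool.rec (motive := fun _ => ℕ) (j13_82) (j13_83) (Nat.ble 83 b)) (Nat.ble 82 b)) (Bool.rec (motive := fun _ => ℕ) (Bool.rec (motive := fun _ => ℕ) (j13_84) (j13_85) (Nat.ble 85 b)) (Bool.rec (motive := fun _ => ℕ) (j13_86) (j13_87) (Nat.ble 87 b)) (Nat.ble 86 b)) (Nat.ble 84 b)) (Bool.rec (motive := fun _ => ℕ) (Bool.rec (motive := fun _ =>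 ℕ) (Bool.rec (motive := fun _ => ℕ) (j13_88) (j13_89) (Nat.ble 89 b)) (Bool.rec (motive := fun _ => ℕ) (j13_90) (j13_91) (Nat.ble 91 b)) (Nat.ble 90 b)) (Bool.rec (motive := fun _ => ℕ) (Bool.rec (motive := fun _ => ℕ) (j13_92) (j13_93) (Nat.ble 93 b)) (Bool.rec (motive := fun _ => ℕ) (j13_94) (j13_95) (Nat.ble 95 b)) (Nat.ble 94 b)) (Nat.ble 92 b)) (Nat.ble 88 b)) (Nat.ble 80 b)) (Bool.rec (motive := fun _ => ℕ) (Bool.rec (motive := fun _ => ℕ) (Bool.rec (motive := fun _ => ℕ) (Bool.rec (motive := fun _ => ℕ) (Bool.rec (motive := fun _ => ℕ) (j13_96) (j13_97) (Nat.ble 97 b)) (Bool.rec (motive := fun _ => ℕ) (j13_98) (j13_99) (Nat.ble 99 b)) (Nat.ble 98 b)) (Bool.rec (motive := fun _ => ℕ) (Bool.rec (motive := fun _ => ℕ) (j13_100) (j13_101) (Nat.ble 101 b)) (Bool.rec (motive := fun _ => ℕ) (j13_102) (j13_103) (Nat.ble 103 b)) (Nat.ble 102 b)) (Nat.ble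 100 b)) (Bool.rec (motive := fun _ => ℕ) (Bool.rec (motive := fun _ => ℕ) (Bool.rec (motive := fun _ => ℕ) (j13_104) (j13_105) (Nat.ble 105 b)) (Bool.rec (motive := fun _ => ℕ) (j13_106) (j13_107) (Nat.ble 107 b)) (Nat.ble 106 b)) (Bool.rec (motive := fun _ => ℕ) (Bool.rec (motive := fun _ => ℕ) (j13_108) (j13_109) (Nat.ble 109 b)) (Bool.rec (motive := fun _ => ℕ) (j13_110) (j13_111) (Nat.ble 111 b)) (Nat.ble 110 b)) (Nat.ble 108 b)) (Nat.ble 104 b)) (Bool.rec (motive := fun _ => ℕ) (Bool.rec (motive := fun _ => ℕ) (Bool.rec (motive := fun _ => ℕ) (Bool.rec (motive := fun _ => ℕ) (j13_112) (j13_113) (Nat.ble 113 b)) (Bool.rec (motive := fun _ => ℕ) (j13_114) (j13_115) (Nat.ble 115 b)) (Nat.ble 114 b)) (Bool.rec (motive := fun _ => ℕ) (Bool.rec (motive := fun _ => ℕ) (j13_116) (j13_117) (Nat.ble 117 b)) (Bool.rec (motive := fun _ => ℕ) (j13_118) (j13_119)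 (Nat.ble 119 b)) (Nat.ble 118 b)) (Nat.ble 116 b)) (Bool.rec (motive := fun _ => ℕ) (Bool.rec (motive := fun _ => ℕ) (Bool.rec (motive := fun _ => ℕ) (j13_120) (j13_121) (Nat.ble 121 b)) (Bool.rec (motive := fun _ => ℕ) (j13_122) (j13_123) (Nat.ble 123 b)) (Nat.ble 122 b)) (Bool.rec (motive := fun _ => ℕ) (Bool.rec (motive := fun _ => ℕ) (j13_124) (j13_125) (Nat.ble 125 b)) (Bool.rec (motive := fun _ => ℕ) (j13_126) (j13_127) (Nat.ble 127 b)) (Nat.ble 126 b)) (Nat.ble 124 b)) (Nat.ble 120 b)) (Nat.ble 112 b)) (Nat.ble 96 b)) (Nat.ble 64 b)) (Bool.rec (motive := fun _ => ℕ) (Bool.rec (motive := fun _ => ℕ) (Bool.rec (motive := fun _ => ℕ) (Bool.rec (motive := fun _ => ℕ) (Bool.rec (motive := fun _ => ℕ) (Bool.rec (motive := fun _ => ℕ) (Bool.rec (motive := fun _ => ℕ) (j13_128) (j13_129) (Nat.ble 129 b)) (Bool.rec (motive := fun _ => ℕ) (j13_130) (j13_131)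 (Nat.ble 131 b)) (Nat.ble 130 b)) (Bool.rec (motive := fun _ => ℕ) (Bool.rec (motive := fun _ => ℕ) (j13_132) (j13_133) (Nat.ble 133 b)) (Bool.rec (motive := fun _ => ℕ) (j13_134) (j13_135) (Nat.ble 135 b)) (Nat.ble 134 b)) (Nat.ble 132 b)) (Bool.rec (motive := fun _ => ℕ) (Bool.rec (motive := fun _ => ℕ) (Bool.rec (motive := fun _ => ℕ) (j13_136) (j13_137) (Nat.ble 137 b)) (Bool.rec (motive := fun _ => ℕ) (j13_138) (j13_139) (Nat.ble 139 b)) (Nat.ble 138 b)) (Bool.rec (motive := fun _ => ℕ) (Bool.rec (motive := fun _ => ℕ) (j13_140) (j13_141) (Nat.ble 141 b)) (Bool.rec (motive := fun _ => ℕ) (j13_142) (j13_143) (Nat.ble 143 b)) (Nat.ble 142 b)) (Nat.ble 140 b)) (Nat.ble 136 b)) (Bool.rec (motive := fun _ => ℕ) (Bool.rec (motive := fun _ => ℕ) (Bool.rec (motive := fun _ => ℕ) (Bool.rec (motive := fun _ => ℕ) (j13_144) (j13_145) (Nat.ble 145 b)) (Bool.rec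 (motive := fun _ => ℕ) (j13_146) (j13_147) (Nat.ble 147 b)) (Nat.ble 146 b)) (Bool.rec (motive := fun _ => ℕ) (Bool.rec (motive := fun _ => ℕ) (j13_148) (j13_149) (Nat.ble 149 b)) (Bool.rec (motive := fun _ => ℕ) (j13_150) (j13_151) (Nat.ble 151 b)) (Nat.ble 150 b)) (Nat.ble 148 b)) (Bool.rec (motive := fun _ => ℕ) (Bool.rec (motive := fun _ => ℕ) (Bool.rec (motive := fun _ => ℕ) (j13_152) (j13_153) (Nat.ble 153 b)) (Bool.rec (motive := fun _ => ℕ) (j13_154) (j13_155) (Nat.ble 155 b)) (Nat.ble 154 b)) (Bool.rec (motive := fun _ => ℕ) (Bool.rec (motive := fun _ => ℕ) (j13_156) (j13_157) (Nat.ble 157 b)) (Bool.rec (motive := fun _ => ℕ) (j13_158) (j13_159) (Nat.ble 159 b)) (Nat.ble 158 b)) (Nat.ble 156 b)) (Nat.ble 152 b)) (Nat.ble 144 b)) (Bool.rec (motive := fun _ => ℕ) (Bool.rec (motive := fun _ => ℕ) (Bool.rec (motive := fun _ => ℕ) (Bool.rec (motive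 := fun _ => ℕ) (Bool.rec (motive := fun _ => ℕ) (j13_160) (j13_161) (Nat.ble 161 b)) (Bool.rec (motive := fun _ => ℕ) (j13_162) (j13_163) (Nat.ble 163 b)) (Nat.ble 162 b)) (Bool.rec (motive := fun _ => ℕ) (Bool.rec (motive := fun _ => ℕ) (j13_164) (j13_165) (Nat.ble 165 b)) (Bool.rec (motive := fun _ => ℕ) (j13_166) (j13_167) (Nat.ble 167 b)) (Nat.ble 166 b)) (Nat.ble 164 b)) (0) (Nat.ble 168 b)) (0) (Nat.ble 176 b)) (Nat.ble 160 b)) (0) (Nat.ble 192 b)) (Nat.ble 128 b))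
noncomputable def ecol14 (b : ℕ) : ℕ := (Bool.rec (motive := fun _ => ℕ) (Bool.rec (motive := fun _ => ℕ) (Bool.rec (motive := fun _ => ℕ) (Bool.rec (motive := fun _ => ℕ) (Bool.rec (motive := fun _ => ℕ) (Bool.rec (motive := fun _ => ℕ) (Bool.rec (motive := fun _ => ℕ) (Bool.rec (motive := fun _ => ℕ) (e14_0) (e14_1) (Nat.ble 1 b)) (Bool.rec (motive := fun _ => ℕ) (e14_2) (e14_3) (Nat.ble 3 b)) (Nat.ble 2 b)) (Bool.rec (motive := fun _ => ℕ) (Bool.rec (motive := fun _ => ℕ) (e14_4) (e14_5) (Nat.ble 5 b)) (Bool.rec (motive := fun _ => ℕ) (e14_6) (e14_7) (Nat.ble 7 b)) (Nat.ble 6 b)) (Nat.ble 4 b)) (Bool.rec (motive := fun _ => ℕ) (Bool.rec (motive := fun _ => ℕ) (Bool.rec (motive := fun _ => ℕ) (e14_8) (e14_9) (Nat.ble 9 b)) (Bool.rec (motive := fun _ => ℕ) (e14_10) (e14_11) (Nat.ble 11 b)) (Nat.ble 10 b)) (Bool.rec (motive := fun _ => ℕ) (Bool.rec (motive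 := fun _ => ℕ) (e14_12) (e14_13) (Nat.ble 13 b)) (Bool.rec (motive := fun _ => ℕ) (e14_14) (e14_15) (Nat.ble 15 b)) (Nat.ble 14 b)) (Nat.ble 12 b)) (Nat.ble 8 b)) (Bool.rec (motive := fun _ => ℕ) (Bool.rec (motive := fun _ => ℕ) (Bool.rec (motive := fun _ => ℕ) (Bool.rec (motive := fun _ => ℕ) (e14_16) (e14_17) (Nat.ble 17 b)) (Bool.rec (motive := fun _ => ℕ) (e14_18) (e14_19) (Nat.ble 19 b)) (Nat.ble 18 b)) (Bool.rec (motive := fun _ => ℕ) (Bool.rec (motive := fun _ => ℕ) (e14_20) (e14_21) (Nat.ble 21 b)) (Bool.rec (motive := fun _ => ℕ) (e14_22) (e14_23) (Nat.ble 23 b)) (Nat.ble 22 b)) (Nat.ble 20 b)) (Bool.rec (motive := fun _ => ℕ) (Bool.rec (motive := fun _ => ℕ) (Bool.rec (motive := fun _ => ℕ) (e14_24) (e14_25) (Nat.ble 25 b)) (Bool.rec (motive := fun _ => ℕ) (e14_26) (e14_27) (Nat.ble 27 b)) (Nat.ble 26 b)) (Bool.rec (motive := fun _ => ℕ) (Bool.rec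 (motive := fun _ => ℕ) (e14_28) (e14_29) (Nat.ble 29 b)) (Bool.rec (motive := fun _ => ℕ) (e14_30) (e14_31) (Nat.ble 31 b)) (Nat.ble 30 b)) (Nat.ble 28 b)) (Nat.ble 24 b)) (Nat.ble 16 b)) (Bool.rec (motive := fun _ => ℕ) (Bool.rec (motive := fun _ => ℕ) (Bool.rec (motive := fun _ => ℕ) (Bool.rec (motive := fun _ => ℕ) (Bool.rec (motive := fun _ => ℕ) (e14_32) (e14_33) (Nat.ble 33 b)) (Bool.rec (motive := fun _ => ℕ) (e14_34) (e14_35) (Nat.ble 35 b)) (Nat.ble 34 b)) (Bool.rec (motive := fun _ => ℕ) (Bool.rec (motive := fun _ => ℕ) (e14_36) (e14_37) (Nat.ble 37 b)) (Bool.rec (motive := fun _ => ℕ) (e14_38) (e14_39) (Nat.ble 39 b)) (Nat.ble 38 b)) (Nat.ble 36 b)) (Bool.rec (motive := fun _ => ℕ) (Bool.rec (motive := fun _ => ℕ) (Bool.rec (motive := fun _ => ℕ) (e14_40) (e14_41) (Nat.ble 41 b)) (Bool.rec (motive := fun _ => ℕ) (e14_42) (e14_43) (Nat.ble 43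 b)) (Nat.ble 42 b)) (Bool.rec (motive := fun _ => ℕ) (Bool.rec (motive := fun _ => ℕ) (e14_44) (e14_45) (Nat.ble 45 b)) (Bool.rec (motive := fun _ => ℕ) (e14_46) (e14_47) (Nat.ble 47 b)) (Nat.ble 46 b)) (Nat.ble 44 b)) (Nat.ble 40 b)) (Bool.rec (motive := fun _ => ℕ) (Bool.rec (motive := fun _ => ℕ) (Bool.rec (motive := fun _ => ℕ) (Bool.rec (motive := fun _ => ℕ) (e14_48) (e14_49) (Nat.ble 49 b)) (Bool.rec (motive := fun _ => ℕ) (e14_50) (e14_51) (Nat.ble 51 b)) (Nat.ble 50 b)) (Bool.rec (motive := fun _ => ℕ) (Bool.rec (motive := fun _ => ℕ) (e14_52) (e14_53) (Nat.ble 53 b)) (Bool.rec (motive := fun _ => ℕ) (e14_54) (e14_55) (Nat.ble 55 b)) (Nat.ble 54 b)) (Nat.ble 52 b)) (Bool.rec (motive := fun _ => ℕ) (Bool.rec (motive := fun _ => ℕ) (Bool.rec (motive := fun _ => ℕ) (e14_56) (e14_57) (Nat.ble 57 b)) (Bool.rec (motive := fun _ => ℕ) (e14_58) (e14_59)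 (Nat.ble 59 b)) (Nat.ble 58 b)) (Bool.rec (motive := fun _ => ℕ) (Bool.rec (motive := fun _ => ℕ) (e14_60) (e14_61) (Nat.ble 61 b)) (Bool.rec (motive := fun _ => ℕ) (e14_62) (e14_63) (Nat.ble 63 b)) (Nat.ble 62 b)) (Nat.ble 60 b)) (Nat.ble 56 b)) (Nat.ble 48 b)) (Nat.ble 32 b)) (Bool.rec (motive := fun _ => ℕ) (Bool.rec (motive := fun _ => ℕ) (Bool.rec (motive := fun _ => ℕ) (Bool.rec (motive := fun _ => ℕ) (Bool.rec (motive := fun _ => ℕ) (Bool.rec (motive := fun _ => ℕ) (e14_64) (e14_65) (Nat.ble 65 b)) (Bool.rec (motive := fun _ => ℕ) (e14_66) (e14_67) (Nat.ble 67 b)) (Nat.ble 66 b)) (Bool.rec (motive := fun _ => ℕ) (Bool.rec (motive := fun _ => ℕ) (e14_68) (e14_69) (Nat.ble 69 b)) (Bool.rec (motive := fun _ => ℕ) (e14_70) (e14_71) (Nat.ble 71 b)) (Nat.ble 70 b)) (Nat.ble 68 b)) (Bool.rec (motive := fun _ => ℕ) (Bool.rec (motive := fun _ => ℕ) (Bool.rec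 (motive := fun _ => ℕ) (e14_72) (e14_73) (Nat.ble 73 b)) (Bool.rec (motive := fun _ => ℕ) (e14_74) (e14_75) (Nat.ble 75 b)) (Nat.ble 74 b)) (Bool.rec (motive := fun _ => ℕ) (Bool.rec (motive := fun _ => ℕ) (e14_76) (e14_77) (Nat.ble 77 b)) (Bool.rec (motive := fun _ => ℕ) (e14_78) (e14_79) (Nat.ble 79 b)) (Nat.ble 78 b)) (Nat.ble 76 b)) (Nat.ble 72 b)) (Bool.rec (motive := fun _ => ℕ) (Bool.rec (motive := fun _ => ℕ) (Bool.rec (motive := fun _ => ℕ) (Bool.rec (motive := fun _ => ℕ) (e14_80) (e14_81) (Nat.ble 81 b)) (Bool.rec (motive := fun _ => ℕ) (e14_82) (e14_83) (Nat.ble 83 b)) (Nat.ble 82 b)) (Bool.rec (motive := fun _ => ℕ) (Bool.rec (motive := fun _ => ℕ) (e14_84) (e14_85) (Nat.ble 85 b)) (Bool.rec (motive := fun _ => ℕ) (e14_86) (e14_87) (Nat.ble 87 b)) (Nat.ble 86 b)) (Nat.ble 84 b)) (Bool.rec (motive := fun _ => ℕ) (Bool.rec (motive := fun _ =>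 ℕ) (Bool.rec (motive := fun _ => ℕ) (e14_88) (e14_89) (Nat.ble 89 b)) (Bool.rec (motive := fun _ => ℕ) (e14_90) (e14_91) (Nat.ble 91 b)) (Nat.ble 90 b)) (Bool.rec (motive := fun _ => ℕ) (Bool.rec (motive := fun _ => ℕ) (e14_92) (e14_93) (Nat.ble 93 b)) (Bool.rec (motive := fun _ => ℕ) (e14_94) (e14_95) (Nat.ble 95 b)) (Nat.ble 94 b)) (Nat.ble 92 b)) (Nat.ble 88 b)) (Nat.ble 80 b)) (Bool.rec (motive := fun _ => ℕ) (Bool.rec (motive := fun _ => ℕ) (Bool.rec (motive := fun _ => ℕ) (Bool.rec (motive := fun _ => ℕ) (Bool.rec (motive := fun _ => ℕ) (e14_96) (e14_97) (Nat.ble 97 b)) (Bool.rec (motive := fun _ => ℕ) (e14_98) (e14_99) (Nat.ble 99 b)) (Nat.ble 98 b)) (Bool.rec (motive := fun _ => ℕ) (Bool.rec (motive := fun _ => ℕ) (e14_100) (e14_101) (Nat.ble 101 b)) (Bool.rec (motive := fun _ => ℕ) (e14_102) (e14_103) (Nat.ble 103 b)) (Nat.ble 102 b)) (Nat.ble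 100 b)) (Bool.rec (motive := fun _ => ℕ) (Bool.rec (motive := fun _ => ℕ) (Bool.rec (motive := fun _ => ℕ) (e14_104) (e14_105) (Nat.ble 105 b)) (Bool.rec (motive := fun _ => ℕ) (e14_106) (e14_107) (Nat.ble 107 b)) (Nat.ble 106 b)) (Bool.rec (motive := fun _ => ℕ) (Bool.rec (motive := fun _ => ℕ) (e14_108) (e14_109) (Nat.ble 109 b)) (Bool.rec (motive := fun _ => ℕ) (e14_110) (e14_111) (Nat.ble 111 b)) (Nat.ble 110 b)) (Nat.ble 108 b)) (Nat.ble 104 b)) (Bool.rec (motive := fun _ => ℕ) (Bool.rec (motive := fun _ => ℕ) (Bool.rec (motive := fun _ => ℕ) (Bool.rec (motive := fun _ => ℕ) (e14_112) (e14_113) (Nat.ble 113 b)) (Bool.rec (motive := fun _ => ℕ) (e14_114) (e14_115) (Nat.ble 115 b)) (Nat.ble 114 b)) (Bool.rec (motive := fun _ => ℕ) (Bool.rec (motive := fun _ => ℕ) (e14_116) (e14_117) (Nat.ble 117 b)) (Bool.rec (motive := fun _ => ℕ) (e14_118) (e14_119)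 (Nat.ble 119 b)) (Nat.ble 118 b)) (Nat.ble 116 b)) (Bool.rec (motive := fun _ => ℕ) (Bool.rec (motive := fun _ => ℕ) (Bool.rec (motive := fun _ => ℕ) (e14_120) (e14_121) (Nat.ble 121 b)) (Bool.rec (motive := fun _ => ℕ) (e14_122) (e14_123) (Nat.ble 123 b)) (Nat.ble 122 b)) (Bool.rec (motive := fun _ => ℕ) (Bool.rec (motive := fun _ => ℕ) (e14_124) (e14_125) (Nat.ble 125 b)) (Bool.rec (motive := fun _ => ℕ) (e14_126) (e14_127) (Nat.ble 127 b)) (Nat.ble 126 b)) (Nat.ble 124 b)) (Nat.ble 120 b)) (Nat.ble 112 b)) (Nat.ble 96 b)) (Nat.ble 64 b)) (Bool.rec (motive := fun _ => ℕ) (Bool.rec (motive := fun _ => ℕ) (Bool.rec (motive := fun _ => ℕ) (Bool.rec (motive := fun _ => ℕ) (Bool.rec (motive := fun _ => ℕ) (Bool.rec (motive := fun _ => ℕ) (Bool.rec (motive := fun _ => ℕ) (e14_128) (e14_129) (Nat.ble 129 b)) (Bool.rec (motive := fun _ => ℕ) (e14_130) (e14_131)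 (Nat.ble 131 b)) (Nat.ble 130 b)) (Bool.rec (motive := fun _ => ℕ) (Bool.rec (motive := fun _ => ℕ) (e14_132) (e14_133) (Nat.ble 133 b)) (Bool.rec (motive := fun _ => ℕ) (e14_134) (e14_135) (Nat.ble 135 b)) (Nat.ble 134 b)) (Nat.ble 132 b)) (Bool.rec (motive := fun _ => ℕ) (Bool.rec (motive := fun _ => ℕ) (Bool.rec (motive := fun _ => ℕ) (e14_136) (e14_137) (Nat.ble 137 b)) (Bool.rec (motive := fun _ => ℕ) (e14_138) (e14_139) (Nat.ble 139 b)) (Nat.ble 138 b)) (Bool.rec (motive := fun _ => ℕ) (Bool.rec (motive := fun _ => ℕ) (e14_140) (e14_141) (Nat.ble 141 b)) (Bool.rec (motive := fun _ => ℕ) (e14_142) (e14_143) (Nat.ble 143 b)) (Nat.ble 142 b)) (Nat.ble 140 b)) (Nat.ble 136 b)) (Bool.rec (motive := fun _ => ℕ) (Bool.rec (motive := fun _ => ℕ) (Bool.rec (motive := fun _ => ℕ) (Bool.rec (motive := fun _ => ℕ) (e14_144) (e14_145) (Nat.ble 145 b)) (Bool.rec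 (motive := fun _ => ℕ) (e14_146) (e14_147) (Nat.ble 147 b)) (Nat.ble 146 b)) (Bool.rec (motive := fun _ => ℕ) (Bool.rec (motive := fun _ => ℕ) (e14_148) (e14_149) (Nat.ble 149 b)) (Bool.rec (motive := fun _ => ℕ) (e14_150) (e14_151) (Nat.ble 151 b)) (Nat.ble 150 b)) (Nat.ble 148 b)) (Bool.rec (motive := fun _ => ℕ) (Bool.rec (motive := fun _ => ℕ) (Bool.rec (motive := fun _ => ℕ) (e14_152) (e14_153) (Nat.ble 153 b)) (Bool.rec (motive := fun _ => ℕ) (e14_154) (e14_155) (Nat.ble 155 b)) (Nat.ble 154 b)) (Bool.rec (motive := fun _ => ℕ) (Bool.rec (motive := fun _ => ℕ) (e14_156) (e14_157) (Nat.ble 157 b)) (Bool.rec (motive := fun _ => ℕ) (e14_158) (e14_159) (Nat.ble 159 b)) (Nat.ble 158 b)) (Nat.ble 156 b)) (Nat.ble 152 b)) (Nat.ble 144 b)) (Bool.rec (motive := fun _ => ℕ) (Bool.rec (motive := fun _ => ℕ) (Bool.rec (motive := fun _ => ℕ) (Bool.rec (motive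 := fun _ => ℕ) (Bool.rec (motive := fun _ => ℕ) (e14_160) (e14_161) (Nat.ble 161 b)) (Bool.rec (motive := fun _ => ℕ) (e14_162) (e14_163) (Nat.ble 163 b)) (Nat.ble 162 b)) (Bool.rec (motive := fun _ => ℕ) (Bool.rec (motive := fun _ => ℕ) (e14_164) (e14_165) (Nat.ble 165 b)) (Bool.rec (motive := fun _ => ℕ) (e14_166) (e14_167) (Nat.ble 167 b)) (Nat.ble 166 b)) (Nat.ble 164 b)) (0) (Nat.ble 168 b)) (0) (Nat.ble 176 b)) (Nat.ble 160 b)) (0) (Nat.ble 192 b)) (Nat.ble 128 b))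
noncomputable def jcol14 (b : ℕ) : ℕ := (Bool.rec (motive := fun _ => ℕ) (Bool.rec (motive := fun _ => ℕ) (Bool.rec (motive := fun _ => ℕ) (Bool.rec (motive := fun _ => ℕ) (Bool.rec (motive := fun _ => ℕ) (Bool.rec (motive := fun _ => ℕ) (Bool.rec (motive := fun _ => ℕ) (Bool.rec (motive := fun _ => ℕ) (j14_0) (j14_1) (Nat.ble 1 b)) (Bool.rec (motive := fun _ => ℕ) (j14_2) (j14_3) (Nat.ble 3 b)) (Nat.ble 2 b)) (Bool.rec (motive := fun _ => ℕ) (Bool.rec (motive := fun _ => ℕ) (j14_4) (j14_5) (Nat.ble 5 b)) (Bool.rec (motive := fun _ => ℕ) (j14_6) (j14_7) (Nat.ble 7 b)) (Nat.ble 6 b)) (Nat.ble 4 b)) (Bool.rec (motive := fun _ => ℕ) (Bool.rec (motive := fun _ => ℕ) (Bool.rec (motive := fun _ => ℕ) (j14_8) (j14_9) (Nat.ble 9 b)) (Bool.rec (motive := fun _ => ℕ) (j14_10) (j14_11) (Nat.ble 11 b)) (Nat.ble 10 b)) (Bool.rec (motive := fun _ => ℕ) (Bool.rec (motive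 := fun _ => ℕ) (j14_12) (j14_13) (Nat.ble 13 b)) (Bool.rec (motive := fun _ => ℕ) (j14_14) (j14_15) (Nat.ble 15 b)) (Nat.ble 14 b)) (Nat.ble 12 b)) (Nat.ble 8 b)) (Bool.rec (motive := fun _ => ℕ) (Bool.rec (motive := fun _ => ℕ) (Bool.rec (motive := fun _ => ℕ) (Bool.rec (motive := fun _ => ℕ) (j14_16) (j14_17) (Nat.ble 17 b)) (Bool.rec (motive := fun _ => ℕ) (j14_18) (j14_19) (Nat.ble 19 b)) (Nat.ble 18 b)) (Bool.rec (motive := fun _ => ℕ) (Bool.rec (motive := fun _ => ℕ) (j14_20) (j14_21) (Nat.ble 21 b)) (Bool.rec (motive := fun _ => ℕ) (j14_22) (j14_23) (Nat.ble 23 b)) (Nat.ble 22 b)) (Nat.ble 20 b)) (Bool.rec (motive := fun _ => ℕ) (Bool.rec (motive := fun _ => ℕ) (Bool.rec (motive := fun _ => ℕ) (j14_24) (j14_25) (Nat.ble 25 b)) (Bool.rec (motive := fun _ => ℕ) (j14_26) (j14_27) (Nat.ble 27 b)) (Nat.ble 26 b)) (Bool.rec (motive := fun _ => ℕ) (Bool.rec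 (motive := fun _ => ℕ) (j14_28) (j14_29) (Nat.ble 29 b)) (Bool.rec (motive := fun _ => ℕ) (j14_30) (j14_31) (Nat.ble 31 b)) (Nat.ble 30 b)) (Nat.ble 28 b)) (Nat.ble 24 b)) (Nat.ble 16 b)) (Bool.rec (motive := fun _ => ℕ) (Bool.rec (motive := fun _ => ℕ) (Bool.rec (motive := fun _ => ℕ) (Bool.rec (motive := fun _ => ℕ) (Bool.rec (motive := fun _ => ℕ) (j14_32) (j14_33) (Nat.ble 33 b)) (Bool.rec (motive := fun _ => ℕ) (j14_34) (j14_35) (Nat.ble 35 b)) (Nat.ble 34 b)) (Bool.rec (motive := fun _ => ℕ) (Bool.rec (motive := fun _ => ℕ) (j14_36) (j14_37) (Nat.ble 37 b)) (Bool.rec (motive := fun _ => ℕ) (j14_38) (j14_39) (Nat.ble 39 b)) (Nat.ble 38 b)) (Nat.ble 36 b)) (Bool.rec (motive := fun _ => ℕ) (Bool.rec (motive := fun _ => ℕ) (Bool.rec (motive := fun _ => ℕ) (j14_40) (j14_41) (Nat.ble 41 b)) (Bool.rec (motive := fun _ => ℕ) (j14_42) (j14_43) (Nat.ble 43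 b)) (Nat.ble 42 b)) (Bool.rec (motive := fun _ => ℕ) (Bool.rec (motive := fun _ => ℕ) (j14_44) (j14_45) (Nat.ble 45 b)) (Bool.rec (motive := fun _ => ℕ) (j14_46) (j14_47) (Nat.ble 47 b)) (Nat.ble 46 b)) (Nat.ble 44 b)) (Nat.ble 40 b)) (Bool.rec (motive := fun _ => ℕ) (Bool.rec (motive := fun _ => ℕ) (Bool.rec (motive := fun _ => ℕ) (Bool.rec (motive := fun _ => ℕ) (j14_48) (j14_49) (Nat.ble 49 b)) (Bool.rec (motive := fun _ => ℕ) (j14_50) (j14_51) (Nat.ble 51 b)) (Nat.ble 50 b)) (Bool.rec (motive := fun _ => ℕ) (Bool.rec (motive := fun _ => ℕ) (j14_52) (j14_53) (Nat.ble 53 b)) (Bool.rec (motive := fun _ => ℕ) (j14_54) (j14_55) (Nat.ble 55 b)) (Nat.ble 54 b)) (Nat.ble 52 b)) (Bool.rec (motive := fun _ => ℕ) (Bool.rec (motive := fun _ => ℕ) (Bool.rec (motive := fun _ => ℕ) (j14_56) (j14_57) (Nat.ble 57 b)) (Bool.rec (motive := fun _ => ℕ) (j14_58) (j14_59)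 (Nat.ble 59 b)) (Nat.ble 58 b)) (Bool.rec (motive := fun _ => ℕ) (Bool.rec (motive := fun _ => ℕ) (j14_60) (j14_61) (Nat.ble 61 b)) (Bool.rec (motive := fun _ => ℕ) (j14_62) (j14_63) (Nat.ble 63 b)) (Nat.ble 62 b)) (Nat.ble 60 b)) (Nat.ble 56 b)) (Nat.ble 48 b)) (Nat.ble 32 b)) (Bool.rec (motive := fun _ => ℕ) (Bool.rec (motive := fun _ => ℕ) (Bool.rec (motive := fun _ => ℕ) (Bool.rec (motive := fun _ => ℕ) (Bool.rec (motive := fun _ => ℕ) (Bool.rec (motive := fun _ => ℕ) (j14_64) (j14_65) (Nat.ble 65 b)) (Bool.rec (motive := fun _ => ℕ) (j14_66) (j14_67) (Nat.ble 67 b)) (Nat.ble 66 b)) (Bool.rec (motive := fun _ => ℕ) (Bool.rec (motive := fun _ => ℕ) (j14_68) (j14_69) (Nat.ble 69 b)) (Bool.rec (motive := fun _ => ℕ) (j14_70) (j14_71) (Nat.ble 71 b)) (Nat.ble 70 b)) (Nat.ble 68 b)) (Bool.rec (motive := fun _ => ℕ) (Bool.rec (motive := fun _ => ℕ) (Bool.rec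 (motive := fun _ => ℕ) (j14_72) (j14_73) (Nat.ble 73 b)) (Bool.rec (motive := fun _ => ℕ) (j14_74) (j14_75) (Nat.ble 75 b)) (Nat.ble 74 b)) (Bool.rec (motive := fun _ => ℕ) (Bool.rec (motive := fun _ => ℕ) (j14_76) (j14_77) (Nat.ble 77 b)) (Bool.rec (motive := fun _ => ℕ) (j14_78) (j14_79) (Nat.ble 79 b)) (Nat.ble 78 b)) (Nat.ble 76 b)) (Nat.ble 72 b)) (Bool.rec (motive := fun _ => ℕ) (Bool.rec (motive := fun _ => ℕ) (Bool.rec (motive := fun _ => ℕ) (Bool.rec (motive := fun _ => ℕ) (j14_80) (j14_81) (Nat.ble 81 b)) (Bool.rec (motive := fun _ => ℕ) (j14_82) (j14_83) (Nat.ble 83 b)) (Nat.ble 82 b)) (Bool.rec (motive := fun _ => ℕ) (Bool.rec (motive := fun _ => ℕ) (j14_84) (j14_85) (Nat.ble 85 b)) (Bool.rec (motive := fun _ => ℕ) (j14_86) (j14_87) (Nat.ble 87 b)) (Nat.ble 86 b)) (Nat.ble 84 b)) (Bool.rec (motive := fun _ => ℕ) (Bool.rec (motive := fun _ =>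 ℕ) (Bool.rec (motive := fun _ => ℕ) (j14_88) (j14_89) (Nat.ble 89 b)) (Bool.rec (motive := fun _ => ℕ) (j14_90) (j14_91) (Nat.ble 91 b)) (Nat.ble 90 b)) (Bool.rec (motive := fun _ => ℕ) (Bool.rec (motive := fun _ => ℕ) (j14_92) (j14_93) (Nat.ble 93 b)) (Bool.rec (motive := fun _ => ℕ) (j14_94) (j14_95) (Nat.ble 95 b)) (Nat.ble 94 b)) (Nat.ble 92 b)) (Nat.ble 88 b)) (Nat.ble 80 b)) (Bool.rec (motive := fun _ => ℕ) (Bool.rec (motive := fun _ => ℕ) (Bool.rec (motive := fun _ => ℕ) (Bool.rec (motive := fun _ => ℕ) (Bool.rec (motive := fun _ => ℕ) (j14_96) (j14_97) (Nat.ble 97 b)) (Bool.rec (motive := fun _ => ℕ) (j14_98) (j14_99) (Nat.ble 99 b)) (Nat.ble 98 b)) (Bool.rec (motive := fun _ => ℕ) (Bool.rec (motive := fun _ => ℕ) (j14_100) (j14_101) (Nat.ble 101 b)) (Bool.rec (motive := fun _ => ℕ) (j14_102) (j14_103) (Nat.ble 103 b)) (Nat.ble 102 b)) (Nat.ble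 100 b)) (Bool.rec (motive := fun _ => ℕ) (Bool.rec (motive := fun _ => ℕ) (Bool.rec (motive := fun _ => ℕ) (j14_104) (j14_105) (Nat.ble 105 b)) (Bool.rec (motive := fun _ => ℕ) (j14_106) (j14_107) (Nat.ble 107 b)) (Nat.ble 106 b)) (Bool.rec (motive := fun _ => ℕ) (Bool.rec (motive := fun _ => ℕ) (j14_108) (j14_109) (Nat.ble 109 b)) (Bool.rec (motive := fun _ => ℕ) (j14_110) (j14_111) (Nat.ble 111 b)) (Nat.ble 110 b)) (Nat.ble 108 b)) (Nat.ble 104 b)) (Bool.rec (motive := fun _ => ℕ) (Bool.rec (motive := fun _ => ℕ) (Bool.rec (motive := fun _ => ℕ) (Bool.rec (motive := fun _ => ℕ) (j14_112) (j14_113) (Nat.ble 113 b)) (Bool.rec (motive := fun _ => ℕ) (j14_114) (j14_115) (Nat.ble 115 b)) (Nat.ble 114 b)) (Bool.rec (motive := fun _ => ℕ) (Bool.rec (motive := fun _ => ℕ) (j14_116) (j14_117) (Nat.ble 117 b)) (Bool.rec (motive := fun _ => ℕ) (j14_118) (j14_119)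 (Nat.ble 119 b)) (Nat.ble 118 b)) (Nat.ble 116 b)) (Bool.rec (motive := fun _ => ℕ) (Bool.rec (motive := fun _ => ℕ) (Bool.rec (motive := fun _ => ℕ) (j14_120) (j14_121) (Nat.ble 121 b)) (Bool.rec (motive := fun _ => ℕ) (j14_122) (j14_123) (Nat.ble 123 b)) (Nat.ble 122 b)) (Bool.rec (motive := fun _ => ℕ) (Bool.rec (motive := fun _ => ℕ) (j14_124) (j14_125) (Nat.ble 125 b)) (Bool.rec (motive := fun _ => ℕ) (j14_126) (j14_127) (Nat.ble 127 b)) (Nat.ble 126 b)) (Nat.ble 124 b)) (Nat.ble 120 b)) (Nat.ble 112 b)) (Nat.ble 96 b)) (Nat.ble 64 b)) (Bool.rec (motive := fun _ => ℕ) (Bool.rec (motive := fun _ => ℕ) (Bool.rec (motive := fun _ => ℕ) (Bool.rec (motive := fun _ => ℕ) (Bool.rec (motive := fun _ => ℕ) (Bool.rec (motive := fun _ => ℕ) (Bool.rec (motive := fun _ => ℕ) (j14_128) (j14_129) (Nat.ble 129 b)) (Bool.rec (motive := fun _ => ℕ) (j14_130) (j14_131)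 (Nat.ble 131 b)) (Nat.ble 130 b)) (Bool.rec (motive := fun _ => ℕ) (Bool.rec (motive := fun _ => ℕ) (j14_132) (j14_133) (Nat.ble 133 b)) (Bool.rec (motive := fun _ => ℕ) (j14_134) (j14_135) (Nat.ble 135 b)) (Nat.ble 134 b)) (Nat.ble 132 b)) (Bool.rec (motive := fun _ => ℕ) (Bool.rec (motive := fun _ => ℕ) (Bool.rec (motive := fun _ => ℕ) (j14_136) (j14_137) (Nat.ble 137 b)) (Bool.rec (motive := fun _ => ℕ) (j14_138) (j14_139) (Nat.ble 139 b)) (Nat.ble 138 b)) (Bool.rec (motive := fun _ => ℕ) (Bool.rec (motive := fun _ => ℕ) (j14_140) (j14_141) (Nat.ble 141 b)) (Bool.rec (motive := fun _ => ℕ) (j14_142) (j14_143) (Nat.ble 143 b)) (Nat.ble 142 b)) (Nat.ble 140 b)) (Nat.ble 136 b)) (Bool.rec (motive := fun _ => ℕ) (Bool.rec (motive := fun _ => ℕ) (Bool.rec (motive := fun _ => ℕ) (Bool.rec (motive := fun _ => ℕ) (j14_144) (j14_145) (Nat.ble 145 b)) (Bool.rec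 (motive := fun _ => ℕ) (j14_146) (j14_147) (Nat.ble 147 b)) (Nat.ble 146 b)) (Bool.rec (motive := fun _ => ℕ) (Bool.rec (motive := fun _ => ℕ) (j14_148) (j14_149) (Nat.ble 149 b)) (Bool.rec (motive := fun _ => ℕ) (j14_150) (j14_151) (Nat.ble 151 b)) (Nat.ble 150 b)) (Nat.ble 148 b)) (Bool.rec (motive := fun _ => ℕ) (Bool.rec (motive := fun _ => ℕ) (Bool.rec (motive := fun _ => ℕ) (j14_152) (j14_153) (Nat.ble 153 b)) (Bool.rec (motive := fun _ => ℕ) (j14_154) (j14_155) (Nat.ble 155 b)) (Nat.ble 154 b)) (Bool.rec (motive := fun _ => ℕ) (Bool.rec (motive := fun _ => ℕ) (j14_156) (j14_157) (Nat.ble 157 b)) (Bool.rec (motive := fun _ => ℕ) (j14_158) (j14_159) (Nat.ble 159 b)) (Nat.ble 158 b)) (Nat.ble 156 b)) (Nat.ble 152 b)) (Nat.ble 144 b)) (Bool.rec (motive := fun _ => ℕ) (Bool.rec (motive := fun _ => ℕ) (Bool.rec (motive := fun _ => ℕ) (Bool.rec (motive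 := fun _ => ℕ) (Bool.rec (motive := fun _ => ℕ) (j14_160) (j14_161) (Nat.ble 161 b)) (Bool.rec (motive := fun _ => ℕ) (j14_162) (j14_163) (Nat.ble 163 b)) (Nat.ble 162 b)) (Bool.rec (motive := fun _ => ℕ) (Bool.rec (motive := fun _ => ℕ) (j14_164) (j14_165) (Nat.ble 165 b)) (Bool.rec (motive := fun _ => ℕ) (j14_166) (j14_167) (Nat.ble 167 b)) (Nat.ble 166 b)) (Nat.ble 164 b)) (0) (Nat.ble 168 b)) (0) (Nat.ble 176 b)) (Nat.ble 160 b)) (0) (Nat.ble 192 b)) (Nat.ble 128 b))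
noncomputable def ecol15 (b : ℕ) : ℕ := (Bool.rec (motive := fun _ => ℕ) (Bool.rec (motive := fun _ => ℕ) (Bool.rec (motive := fun _ => ℕ) (Bool.rec (motive := fun _ => ℕ) (Bool.rec (motive := fun _ => ℕ) (Bool.rec (motive := fun _ => ℕ) (Bool.rec (motive := fun _ => ℕ) (Bool.rec (motive := fun _ => ℕ) (e15_0) (e15_1) (Nat.ble 1 b)) (Bool.rec (motive := fun _ => ℕ) (e15_2) (e15_3) (Nat.ble 3 b)) (Nat.ble 2 b)) (Bool.rec (motive := fun _ => ℕ) (Bool.rec (motive := fun _ => ℕ) (e15_4) (e15_5) (Nat.ble 5 b)) (Bool.rec (motive := fun _ => ℕ) (e15_6) (e15_7) (Nat.ble 7 b)) (Nat.ble 6 b)) (Nat.ble 4 b)) (Bool.rec (motive := fun _ => ℕ) (Bool.rec (motive := fun _ => ℕ) (Bool.rec (motive := fun _ => ℕ) (e15_8) (e15_9) (Nat.ble 9 b)) (Bool.rec (motive := fun _ => ℕ) (e15_10) (e15_11) (Nat.ble 11 b)) (Nat.ble 10 b)) (Bool.rec (motive := fun _ => ℕ) (Bool.rec (motive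 := fun _ => ℕ) (e15_12) (e15_13) (Nat.ble 13 b)) (Bool.rec (motive := fun _ => ℕ) (e15_14) (e15_15) (Nat.ble 15 b)) (Nat.ble 14 b)) (Nat.ble 12 b)) (Nat.ble 8 b)) (Bool.rec (motive := fun _ => ℕ) (Bool.rec (motive := fun _ => ℕ) (Bool.rec (motive := fun _ => ℕ) (Bool.rec (motive := fun _ => ℕ) (e15_16) (e15_17) (Nat.ble 17 b)) (Bool.rec (motive := fun _ => ℕ) (e15_18) (e15_19) (Nat.ble 19 b)) (Nat.ble 18 b)) (Bool.rec (motive := fun _ => ℕ) (Bool.rec (motive := fun _ => ℕ) (e15_20) (e15_21) (Nat.ble 21 b)) (Bool.rec (motive := fun _ => ℕ) (e15_22) (e15_23) (Nat.ble 23 b)) (Nat.ble 22 b)) (Nat.ble 20 b)) (Bool.rec (motive := fun _ => ℕ) (Bool.rec (motive := fun _ => ℕ) (Bool.rec (motive := fun _ => ℕ) (e15_24) (e15_25) (Nat.ble 25 b)) (Bool.rec (motive := fun _ => ℕ) (e15_26) (e15_27) (Nat.ble 27 b)) (Nat.ble 26 b)) (Bool.rec (motive := fun _ => ℕ) (Bool.rec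 (motive := fun _ => ℕ) (e15_28) (e15_29) (Nat.ble 29 b)) (Bool.rec (motive := fun _ => ℕ) (e15_30) (e15_31) (Nat.ble 31 b)) (Nat.ble 30 b)) (Nat.ble 28 b)) (Nat.ble 24 b)) (Nat.ble 16 b)) (Bool.rec (motive := fun _ => ℕ) (Bool.rec (motive := fun _ => ℕ) (Bool.rec (motive := fun _ => ℕ) (Bool.rec (motive := fun _ => ℕ) (Bool.rec (motive := fun _ => ℕ) (e15_32) (e15_33) (Nat.ble 33 b)) (Bool.rec (motive := fun _ => ℕ) (e15_34) (e15_35) (Nat.ble 35 b)) (Nat.ble 34 b)) (Bool.rec (motive := fun _ => ℕ) (Bool.rec (motive := fun _ => ℕ) (e15_36) (e15_37) (Nat.ble 37 b)) (Bool.rec (motive := fun _ => ℕ) (e15_38) (e15_39) (Nat.ble 39 b)) (Nat.ble 38 b)) (Nat.ble 36 b)) (Bool.rec (motive := fun _ => ℕ) (Bool.rec (motive := fun _ => ℕ) (Bool.rec (motive := fun _ => ℕ) (e15_40) (e15_41) (Nat.ble 41 b)) (Bool.rec (motive := fun _ => ℕ) (e15_42) (e15_43) (Nat.ble 43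 b)) (Nat.ble 42 b)) (Bool.rec (motive := fun _ => ℕ) (Bool.rec (motive := fun _ => ℕ) (e15_44) (e15_45) (Nat.ble 45 b)) (Bool.rec (motive := fun _ => ℕ) (e15_46) (e15_47) (Nat.ble 47 b)) (Nat.ble 46 b)) (Nat.ble 44 b)) (Nat.ble 40 b)) (Bool.rec (motive := fun _ => ℕ) (Bool.rec (motive := fun _ => ℕ) (Bool.rec (motive := fun _ => ℕ) (Bool.rec (motive := fun _ => ℕ) (e15_48) (e15_49) (Nat.ble 49 b)) (Bool.rec (motive := fun _ => ℕ) (e15_50) (e15_51) (Nat.ble 51 b)) (Nat.ble 50 b)) (Bool.rec (motive := fun _ => ℕ) (Bool.rec (motive := fun _ => ℕ) (e15_52) (e15_53) (Nat.ble 53 b)) (Bool.rec (motive := fun _ => ℕ) (e15_54) (e15_55) (Nat.ble 55 b)) (Nat.ble 54 b)) (Nat.ble 52 b)) (Bool.rec (motive := fun _ => ℕ) (Bool.rec (motive := fun _ => ℕ) (Bool.rec (motive := fun _ => ℕ) (e15_56) (e15_57) (Nat.ble 57 b)) (Bool.rec (motive := fun _ => ℕ) (e15_58) (e15_59)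 (Nat.ble 59 b)) (Nat.ble 58 b)) (Bool.rec (motive := fun _ => ℕ) (Bool.rec (motive := fun _ => ℕ) (e15_60) (e15_61) (Nat.ble 61 b)) (Bool.rec (motive := fun _ => ℕ) (e15_62) (e15_63) (Nat.ble 63 b)) (Nat.ble 62 b)) (Nat.ble 60 b)) (Nat.ble 56 b)) (Nat.ble 48 b)) (Nat.ble 32 b)) (Bool.rec (motive := fun _ => ℕ) (Bool.rec (motive := fun _ => ℕ) (Bool.rec (motive := fun _ => ℕ) (Bool.rec (motive := fun _ => ℕ) (Bool.rec (motive := fun _ => ℕ) (Bool.rec (motive := fun _ => ℕ) (e15_64) (e15_65) (Nat.ble 65 b)) (Bool.rec (motive := fun _ => ℕ) (e15_66) (e15_67) (Nat.ble 67 b)) (Nat.ble 66 b)) (Bool.rec (motive := fun _ => ℕ) (Bool.rec (motive := fun _ => ℕ) (e15_68) (e15_69) (Nat.ble 69 b)) (Bool.rec (motive := fun _ => ℕ) (e15_70) (e15_71) (Nat.ble 71 b)) (Nat.ble 70 b)) (Nat.ble 68 b)) (Bool.rec (motive := fun _ => ℕ) (Bool.rec (motive := fun _ => ℕ) (Bool.rec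 (motive := fun _ => ℕ) (e15_72) (e15_73) (Nat.ble 73 b)) (Bool.rec (motive := fun _ => ℕ) (e15_74) (e15_75) (Nat.ble 75 b)) (Nat.ble 74 b)) (Bool.rec (motive := fun _ => ℕ) (Bool.rec (motive := fun _ => ℕ) (e15_76) (e15_77) (Nat.ble 77 b)) (Bool.rec (motive := fun _ => ℕ) (e15_78) (e15_79) (Nat.ble 79 b)) (Nat.ble 78 b)) (Nat.ble 76 b)) (Nat.ble 72 b)) (Bool.rec (motive := fun _ => ℕ) (Bool.rec (motive := fun _ => ℕ) (Bool.rec (motive := fun _ => ℕ) (Bool.rec (motive := fun _ => ℕ) (e15_80) (e15_81) (Nat.ble 81 b)) (Bool.rec (motive := fun _ => ℕ) (e15_82) (e15_83) (Nat.ble 83 b)) (Nat.ble 82 b)) (Bool.rec (motive := fun _ => ℕ) (Bool.rec (motive := fun _ => ℕ) (e15_84) (e15_85) (Nat.ble 85 b)) (Bool.rec (motive := fun _ => ℕ) (e15_86) (e15_87) (Nat.ble 87 b)) (Nat.ble 86 b)) (Nat.ble 84 b)) (Bool.rec (motive := fun _ => ℕ) (Bool.rec (motive := fun _ =>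 ℕ) (Bool.rec (motive := fun _ => ℕ) (e15_88) (e15_89) (Nat.ble 89 b)) (Bool.rec (motive := fun _ => ℕ) (e15_90) (e15_91) (Nat.ble 91 b)) (Nat.ble 90 b)) (Bool.rec (motive := fun _ => ℕ) (Bool.rec (motive := fun _ => ℕ) (e15_92) (e15_93) (Nat.ble 93 b)) (Bool.rec (motive := fun _ => ℕ) (e15_94) (e15_95) (Nat.ble 95 b)) (Nat.ble 94 b)) (Nat.ble 92 b)) (Nat.ble 88 b)) (Nat.ble 80 b)) (Bool.rec (motive := fun _ => ℕ) (Bool.rec (motive := fun _ => ℕ) (Bool.rec (motive := fun _ => ℕ) (Bool.rec (motive := fun _ => ℕ) (Bool.rec (motive := fun _ => ℕ) (e15_96) (e15_97) (Nat.ble 97 b)) (Bool.rec (motive := fun _ => ℕ) (e15_98) (e15_99) (Nat.ble 99 b)) (Nat.ble 98 b)) (Bool.rec (motive := fun _ => ℕ) (Bool.rec (motive := fun _ => ℕ) (e15_100) (e15_101) (Nat.ble 101 b)) (Bool.rec (motive := fun _ => ℕ) (e15_102) (e15_103) (Nat.ble 103 b)) (Nat.ble 102 b)) (Nat.ble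 100 b)) (Bool.rec (motive := fun _ => ℕ) (Bool.rec (motive := fun _ => ℕ) (Bool.rec (motive := fun _ => ℕ) (e15_104) (e15_105) (Nat.ble 105 b)) (Bool.rec (motive := fun _ => ℕ) (e15_106) (e15_107) (Nat.ble 107 b)) (Nat.ble 106 b)) (Bool.rec (motive := fun _ => ℕ) (Bool.rec (motive := fun _ => ℕ) (e15_108) (e15_109) (Nat.ble 109 b)) (Bool.rec (motive := fun _ => ℕ) (e15_110) (e15_111) (Nat.ble 111 b)) (Nat.ble 110 b)) (Nat.ble 108 b)) (Nat.ble 104 b)) (Bool.rec (motive := fun _ => ℕ) (Bool.rec (motive := fun _ => ℕ) (Bool.rec (motive := fun _ => ℕ) (Bool.rec (motive := fun _ => ℕ) (e15_112) (e15_113) (Nat.ble 113 b)) (Bool.rec (motive := fun _ => ℕ) (e15_114) (e15_115) (Nat.ble 115 b)) (Nat.ble 114 b)) (Bool.rec (motive := fun _ => ℕ) (Bool.rec (motive := fun _ => ℕ) (e15_116) (e15_117) (Nat.ble 117 b)) (Bool.rec (motive := fun _ => ℕ) (e15_118) (e15_119)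 (Nat.ble 119 b)) (Nat.ble 118 b)) (Nat.ble 116 b)) (Bool.rec (motive := fun _ => ℕ) (Bool.rec (motive := fun _ => ℕ) (Bool.rec (motive := fun _ => ℕ) (e15_120) (e15_121) (Nat.ble 121 b)) (Bool.rec (motive := fun _ => ℕ) (e15_122) (e15_123) (Nat.ble 123 b)) (Nat.ble 122 b)) (Bool.rec (motive := fun _ => ℕ) (Bool.rec (motive := fun _ => ℕ) (e15_124) (e15_125) (Nat.ble 125 b)) (Bool.rec (motive := fun _ => ℕ) (e15_126) (e15_127) (Nat.ble 127 b)) (Nat.ble 126 b)) (Nat.ble 124 b)) (Nat.ble 120 b)) (Nat.ble 112 b)) (Nat.ble 96 b)) (Nat.ble 64 b)) (Bool.rec (motive := fun _ => ℕ) (Bool.rec (motive := fun _ => ℕ) (Bool.rec (motive := fun _ => ℕ) (Bool.rec (motive := fun _ => ℕ) (Bool.rec (motive := fun _ => ℕ) (Bool.rec (motive := fun _ => ℕ) (Bool.rec (motive := fun _ => ℕ) (e15_128) (e15_129) (Nat.ble 129 b)) (Bool.rec (motive := fun _ => ℕ) (e15_130) (e15_131)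 (Nat.ble 131 b)) (Nat.ble 130 b)) (Bool.rec (motive := fun _ => ℕ) (Bool.rec (motive := fun _ => ℕ) (e15_132) (e15_133) (Nat.ble 133 b)) (Bool.rec (motive := fun _ => ℕ) (e15_134) (e15_135) (Nat.ble 135 b)) (Nat.ble 134 b)) (Nat.ble 132 b)) (Bool.rec (motive := fun _ => ℕ) (Bool.rec (motive := fun _ => ℕ) (Bool.rec (motive := fun _ => ℕ) (e15_136) (e15_137) (Nat.ble 137 b)) (Bool.rec (motive := fun _ => ℕ) (e15_138) (e15_139) (Nat.ble 139 b)) (Nat.ble 138 b)) (Bool.rec (motive := fun _ => ℕ) (Bool.rec (motive := fun _ => ℕ) (e15_140) (e15_141) (Nat.ble 141 b)) (Bool.rec (motive := fun _ => ℕ) (e15_142) (e15_143) (Nat.ble 143 b)) (Nat.ble 142 b)) (Nat.ble 140 b)) (Nat.ble 136 b)) (Bool.rec (motive := fun _ => ℕ) (Bool.rec (motive := fun _ => ℕ) (Bool.rec (motive := fun _ => ℕ) (Bool.rec (motive := fun _ => ℕ) (e15_144) (e15_145) (Nat.ble 145 b)) (Bool.rec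 (motive := fun _ => ℕ) (e15_146) (e15_147) (Nat.ble 147 b)) (Nat.ble 146 b)) (Bool.rec (motive := fun _ => ℕ) (Bool.rec (motive := fun _ => ℕ) (e15_148) (e15_149) (Nat.ble 149 b)) (Bool.rec (motive := fun _ => ℕ) (e15_150) (e15_151) (Nat.ble 151 b)) (Nat.ble 150 b)) (Nat.ble 148 b)) (Bool.rec (motive := fun _ => ℕ) (Bool.rec (motive := fun _ => ℕ) (Bool.rec (motive := fun _ => ℕ) (e15_152) (e15_153) (Nat.ble 153 b)) (Bool.rec (motive := fun _ => ℕ) (e15_154) (e15_155) (Nat.ble 155 b)) (Nat.ble 154 b)) (Bool.rec (motive := fun _ => ℕ) (Bool.rec (motive := fun _ => ℕ) (e15_156) (e15_157) (Nat.ble 157 b)) (Bool.rec (motive := fun _ => ℕ) (e15_158) (e15_159) (Nat.ble 159 b)) (Nat.ble 158 b)) (Nat.ble 156 b)) (Nat.ble 152 b)) (Nat.ble 144 b)) (Bool.rec (motive := fun _ => ℕ) (Bool.rec (motive := fun _ => ℕ) (Bool.rec (motive := fun _ => ℕ) (Bool.rec (motive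 := fun _ => ℕ) (Bool.rec (motive := fun _ => ℕ) (e15_160) (e15_161) (Nat.ble 161 b)) (Bool.rec (motive := fun _ => ℕ) (e15_162) (e15_163) (Nat.ble 163 b)) (Nat.ble 162 b)) (Bool.rec (motive := fun _ => ℕ) (Bool.rec (motive := fun _ => ℕ) (e15_164) (e15_165) (Nat.ble 165 b)) (Bool.rec (motive := fun _ => ℕ) (e15_166) (e15_167) (Nat.ble 167 b)) (Nat.ble 166 b)) (Nat.ble 164 b)) (0) (Nat.ble 168 b)) (0) (Nat.ble 176 b)) (Nat.ble 160 b)) (0) (Nat.ble 192 b)) (Nat.ble 128 b))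
noncomputable def jcol15 (b : ℕ) : ℕ := (Bool.rec (motive := fun _ => ℕ) (Bool.rec (motive := fun _ => ℕ) (Bool.rec (motive := fun _ => ℕ) (Bool.rec (motive := fun _ => ℕ) (Bool.rec (motive := fun _ => ℕ) (Bool.rec (motive := fun _ => ℕ) (Bool.rec (motive := fun _ => ℕ) (Bool.rec (motive := fun _ => ℕ) (j15_0) (j15_1) (Nat.ble 1 b)) (Bool.rec (motive := fun _ => ℕ) (j15_2) (j15_3) (Nat.ble 3 b)) (Nat.ble 2 b)) (Bool.rec (motive := fun _ => ℕ) (Bool.rec (motive := fun _ => ℕ) (j15_4) (j15_5) (Nat.ble 5 b)) (Bool.rec (motive := fun _ => ℕ) (j15_6) (j15_7) (Nat.ble 7 b)) (Nat.ble 6 b)) (Nat.ble 4 b)) (Bool.rec (motive := fun _ => ℕ) (Bool.rec (motive := fun _ => ℕ) (Bool.rec (motive := fun _ => ℕ) (j15_8) (j15_9) (Nat.ble 9 b)) (Bool.rec (motive := fun _ => ℕ) (j15_10) (j15_11) (Nat.ble 11 b)) (Nat.ble 10 b)) (Bool.rec (motive := fun _ => ℕ) (Bool.rec (motive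 := fun _ => ℕ) (j15_12) (j15_13) (Nat.ble 13 b)) (Bool.rec (motive := fun _ => ℕ) (j15_14) (j15_15) (Nat.ble 15 b)) (Nat.ble 14 b)) (Nat.ble 12 b)) (Nat.ble 8 b)) (Bool.rec (motive := fun _ => ℕ) (Bool.rec (motive := fun _ => ℕ) (Bool.rec (motive := fun _ => ℕ) (Bool.rec (motive := fun _ => ℕ) (j15_16) (j15_17) (Nat.ble 17 b)) (Bool.rec (motive := fun _ => ℕ) (j15_18) (j15_19) (Nat.ble 19 b)) (Nat.ble 18 b)) (Bool.rec (motive := fun _ => ℕ) (Bool.rec (motive := fun _ => ℕ) (j15_20) (j15_21) (Nat.ble 21 b)) (Bool.rec (motive := fun _ => ℕ) (j15_22) (j15_23) (Nat.ble 23 b)) (Nat.ble 22 b)) (Nat.ble 20 b)) (Bool.rec (motive := fun _ => ℕ) (Bool.rec (motive := fun _ => ℕ) (Bool.rec (motive := fun _ => ℕ) (j15_24) (j15_25) (Nat.ble 25 b)) (Bool.rec (motive := fun _ => ℕ) (j15_26) (j15_27) (Nat.ble 27 b)) (Nat.ble 26 b)) (Bool.rec (motive := fun _ => ℕ) (Bool.rec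 (motive := fun _ => ℕ) (j15_28) (j15_29) (Nat.ble 29 b)) (Bool.rec (motive := fun _ => ℕ) (j15_30) (j15_31) (Nat.ble 31 b)) (Nat.ble 30 b)) (Nat.ble 28 b)) (Nat.ble 24 b)) (Nat.ble 16 b)) (Bool.rec (motive := fun _ => ℕ) (Bool.rec (motive := fun _ => ℕ) (Bool.rec (motive := fun _ => ℕ) (Bool.rec (motive := fun _ => ℕ) (Bool.rec (motive := fun _ => ℕ) (j15_32) (j15_33) (Nat.ble 33 b)) (Bool.rec (motive := fun _ => ℕ) (j15_34) (j15_35) (Nat.ble 35 b)) (Nat.ble 34 b)) (Bool.rec (motive := fun _ => ℕ) (Bool.rec (motive := fun _ => ℕ) (j15_36) (j15_37) (Nat.ble 37 b)) (Bool.rec (motive := fun _ => ℕ) (j15_38) (j15_39) (Nat.ble 39 b)) (Nat.ble 38 b)) (Nat.ble 36 b)) (Bool.rec (motive := fun _ => ℕ) (Bool.rec (motive := fun _ => ℕ) (Bool.rec (motive := fun _ => ℕ) (j15_40) (j15_41) (Nat.ble 41 b)) (Bool.rec (motive := fun _ => ℕ) (j15_42) (j15_43) (Nat.ble 43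 b)) (Nat.ble 42 b)) (Bool.rec (motive := fun _ => ℕ) (Bool.rec (motive := fun _ => ℕ) (j15_44) (j15_45) (Nat.ble 45 b)) (Bool.rec (motive := fun _ => ℕ) (j15_46) (j15_47) (Nat.ble 47 b)) (Nat.ble 46 b)) (Nat.ble 44 b)) (Nat.ble 40 b)) (Bool.rec (motive := fun _ => ℕ) (Bool.rec (motive := fun _ => ℕ) (Bool.rec (motive := fun _ => ℕ) (Bool.rec (motive := fun _ => ℕ) (j15_48) (j15_49) (Nat.ble 49 b)) (Bool.rec (motive := fun _ => ℕ) (j15_50) (j15_51) (Nat.ble 51 b)) (Nat.ble 50 b)) (Bool.rec (motive := fun _ => ℕ) (Bool.rec (motive := fun _ => ℕ) (j15_52) (j15_53) (Nat.ble 53 b)) (Bool.rec (motive := fun _ => ℕ) (j15_54) (j15_55) (Nat.ble 55 b)) (Nat.ble 54 b)) (Nat.ble 52 b)) (Bool.rec (motive := fun _ => ℕ) (Bool.rec (motive := fun _ => ℕ) (Bool.rec (motive := fun _ => ℕ) (j15_56) (j15_57) (Nat.ble 57 b)) (Bool.rec (motive := fun _ => ℕ) (j15_58) (j15_59)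 (Nat.ble 59 b)) (Nat.ble 58 b)) (Bool.rec (motive := fun _ => ℕ) (Bool.rec (motive := fun _ => ℕ) (j15_60) (j15_61) (Nat.ble 61 b)) (Bool.rec (motive := fun _ => ℕ) (j15_62) (j15_63) (Nat.ble 63 b)) (Nat.ble 62 b)) (Nat.ble 60 b)) (Nat.ble 56 b)) (Nat.ble 48 b)) (Nat.ble 32 b)) (Bool.rec (motive := fun _ => ℕ) (Bool.rec (motive := fun _ => ℕ) (Bool.rec (motive := fun _ => ℕ) (Bool.rec (motive := fun _ => ℕ) (Bool.rec (motive := fun _ => ℕ) (Bool.rec (motive := fun _ => ℕ) (j15_64) (j15_65) (Nat.ble 65 b)) (Bool.rec (motive := fun _ => ℕ) (j15_66) (j15_67) (Nat.ble 67 b)) (Nat.ble 66 b)) (Bool.rec (motive := fun _ => ℕ) (Bool.rec (motive := fun _ => ℕ) (j15_68) (j15_69) (Nat.ble 69 b)) (Bool.rec (motive := fun _ => ℕ) (j15_70) (j15_71) (Nat.ble 71 b)) (Nat.ble 70 b)) (Nat.ble 68 b)) (Bool.rec (motive := fun _ => ℕ) (Bool.rec (motive := fun _ => ℕ) (Bool.rec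 (motive := fun _ => ℕ) (j15_72) (j15_73) (Nat.ble 73 b)) (Bool.rec (motive := fun _ => ℕ) (j15_74) (j15_75) (Nat.ble 75 b)) (Nat.ble 74 b)) (Bool.rec (motive := fun _ => ℕ) (Bool.rec (motive := fun _ => ℕ) (j15_76) (j15_77) (Nat.ble 77 b)) (Bool.rec (motive := fun _ => ℕ) (j15_78) (j15_79) (Nat.ble 79 b)) (Nat.ble 78 b)) (Nat.ble 76 b)) (Nat.ble 72 b)) (Bool.rec (motive := fun _ => ℕ) (Bool.rec (motive := fun _ => ℕ) (Bool.rec (motive := fun _ => ℕ) (Bool.rec (motive := fun _ => ℕ) (j15_80) (j15_81) (Nat.ble 81 b)) (Bool.rec (motive := fun _ => ℕ) (j15_82) (j15_83) (Nat.ble 83 b)) (Nat.ble 82 b)) (Bool.rec (motive := fun _ => ℕ) (Bool.rec (motive := fun _ => ℕ) (j15_84) (j15_85) (Nat.ble 85 b)) (Bool.rec (motive := fun _ => ℕ) (j15_86) (j15_87) (Nat.ble 87 b)) (Nat.ble 86 b)) (Nat.ble 84 b)) (Bool.rec (motive := fun _ => ℕ) (Bool.rec (motive := fun _ =>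 ℕ) (Bool.rec (motive := fun _ => ℕ) (j15_88) (j15_89) (Nat.ble 89 b)) (Bool.rec (motive := fun _ => ℕ) (j15_90) (j15_91) (Nat.ble 91 b)) (Nat.ble 90 b)) (Bool.rec (motive := fun _ => ℕ) (Bool.rec (motive := fun _ => ℕ) (j15_92) (j15_93) (Nat.ble 93 b)) (Bool.rec (motive := fun _ => ℕ) (j15_94) (j15_95) (Nat.ble 95 b)) (Nat.ble 94 b)) (Nat.ble 92 b)) (Nat.ble 88 b)) (Nat.ble 80 b)) (Bool.rec (motive := fun _ => ℕ) (Bool.rec (motive := fun _ => ℕ) (Bool.rec (motive := fun _ => ℕ) (Bool.rec (motive := fun _ => ℕ) (Bool.rec (motive := fun _ => ℕ) (j15_96) (j15_97) (Nat.ble 97 b)) (Bool.rec (motive := fun _ => ℕ) (j15_98) (j15_99) (Nat.ble 99 b)) (Nat.ble 98 b)) (Bool.rec (motive := fun _ => ℕ) (Bool.rec (motive := fun _ => ℕ) (j15_100) (j15_101) (Nat.ble 101 b)) (Bool.rec (motive := fun _ => ℕ) (j15_102) (j15_103) (Nat.ble 103 b)) (Nat.ble 102 b)) (Nat.ble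 100 b)) (Bool.rec (motive := fun _ => ℕ) (Bool.rec (motive := fun _ => ℕ) (Bool.rec (motive := fun _ => ℕ) (j15_104) (j15_105) (Nat.ble 105 b)) (Bool.rec (motive := fun _ => ℕ) (j15_106) (j15_107) (Nat.ble 107 b)) (Nat.ble 106 b)) (Bool.rec (motive := fun _ => ℕ) (Bool.rec (motive := fun _ => ℕ) (j15_108) (j15_109) (Nat.ble 109 b)) (Bool.rec (motive := fun _ => ℕ) (j15_110) (j15_111) (Nat.ble 111 b)) (Nat.ble 110 b)) (Nat.ble 108 b)) (Nat.ble 104 b)) (Bool.rec (motive := fun _ => ℕ) (Bool.rec (motive := fun _ => ℕ) (Bool.rec (motive := fun _ => ℕ) (Bool.rec (motive := fun _ => ℕ) (j15_112) (j15_113) (Nat.ble 113 b)) (Bool.rec (motive := fun _ => ℕ) (j15_114) (j15_115) (Nat.ble 115 b)) (Nat.ble 114 b)) (Bool.rec (motive := fun _ => ℕ) (Bool.rec (motive := fun _ => ℕ) (j15_116) (j15_117) (Nat.ble 117 b)) (Bool.rec (motive := fun _ => ℕ) (j15_118) (j15_119)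 (Nat.ble 119 b)) (Nat.ble 118 b)) (Nat.ble 116 b)) (Bool.rec (motive := fun _ => ℕ) (Bool.rec (motive := fun _ => ℕ) (Bool.rec (motive := fun _ => ℕ) (j15_120) (j15_121) (Nat.ble 121 b)) (Bool.rec (motive := fun _ => ℕ) (j15_122) (j15_123) (Nat.ble 123 b)) (Nat.ble 122 b)) (Bool.rec (motive := fun _ => ℕ) (Bool.rec (motive := fun _ => ℕ) (j15_124) (j15_125) (Nat.ble 125 b)) (Bool.rec (motive := fun _ => ℕ) (j15_126) (j15_127) (Nat.ble 127 b)) (Nat.ble 126 b)) (Nat.ble 124 b)) (Nat.ble 120 b)) (Nat.ble 112 b)) (Nat.ble 96 b)) (Nat.ble 64 b)) (Bool.rec (motive := fun _ => ℕ) (Bool.rec (motive := fun _ => ℕ) (Bool.rec (motive := fun _ => ℕ) (Bool.rec (motive := fun _ => ℕ) (Bool.rec (motive := fun _ => ℕ) (Bool.rec (motive := fun _ => ℕ) (Bool.rec (motive := fun _ => ℕ) (j15_128) (j15_129) (Nat.ble 129 b)) (Bool.rec (motive := fun _ => ℕ) (j15_130) (j15_131)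 (Nat.ble 131 b)) (Nat.ble 130 b)) (Bool.rec (motive := fun _ => ℕ) (Bool.rec (motive := fun _ => ℕ) (j15_132) (j15_133) (Nat.ble 133 b)) (Bool.rec (motive := fun _ => ℕ) (j15_134) (j15_135) (Nat.ble 135 b)) (Nat.ble 134 b)) (Nat.ble 132 b)) (Bool.rec (motive := fun _ => ℕ) (Bool.rec (motive := fun _ => ℕ) (Bool.rec (motive := fun _ => ℕ) (j15_136) (j15_137) (Nat.ble 137 b)) (Bool.rec (motive := fun _ => ℕ) (j15_138) (j15_139) (Nat.ble 139 b)) (Nat.ble 138 b)) (Bool.rec (motive := fun _ => ℕ) (Bool.rec (motive := fun _ => ℕ) (j15_140) (j15_141) (Nat.ble 141 b)) (Bool.rec (motive := fun _ => ℕ) (j15_142) (j15_143) (Nat.ble 143 b)) (Nat.ble 142 b)) (Nat.ble 140 b)) (Nat.ble 136 b)) (Bool.rec (motive := fun _ => ℕ) (Bool.rec (motive := fun _ => ℕ) (Bool.rec (motive := fun _ => ℕ) (Bool.rec (motive := fun _ => ℕ) (j15_144) (j15_145) (Nat.ble 145 b)) (Bool.rec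 (motive := fun _ => ℕ) (j15_146) (j15_147) (Nat.ble 147 b)) (Nat.ble 146 b)) (Bool.rec (motive := fun _ => ℕ) (Bool.rec (motive := fun _ => ℕ) (j15_148) (j15_149) (Nat.ble 149 b)) (Bool.rec (motive := fun _ => ℕ) (j15_150) (j15_151) (Nat.ble 151 b)) (Nat.ble 150 b)) (Nat.ble 148 b)) (Bool.rec (motive := fun _ => ℕ) (Bool.rec (motive := fun _ => ℕ) (Bool.rec (motive := fun _ => ℕ) (j15_152) (j15_153) (Nat.ble 153 b)) (Bool.rec (motive := fun _ => ℕ) (j15_154) (j15_155) (Nat.ble 155 b)) (Nat.ble 154 b)) (Bool.rec (motive := fun _ => ℕ) (Bool.rec (motive := fun _ => ℕ) (j15_156) (j15_157) (Nat.ble 157 b)) (Bool.rec (motive := fun _ => ℕ) (j15_158) (j15_159) (Nat.ble 159 b)) (Nat.ble 158 b)) (Nat.ble 156 b)) (Nat.ble 152 b)) (Nat.ble 144 b)) (Bool.rec (motive := fun _ => ℕ) (Bool.rec (motive := fun _ => ℕ) (Bool.rec (motive := fun _ => ℕ) (Bool.rec (motive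 := fun _ => ℕ) (Bool.rec (motive := fun _ => ℕ) (j15_160) (j15_161) (Nat.ble 161 b)) (Bool.rec (motive := fun _ => ℕ) (j15_162) (j15_163) (Nat.ble 163 b)) (Nat.ble 162 b)) (Bool.rec (motive := fun _ => ℕ) (Bool.rec (motive := fun _ => ℕ) (j15_164) (j15_165) (Nat.ble 165 b)) (Bool.rec (motive := fun _ => ℕ) (j15_166) (j15_167) (Nat.ble 167 b)) (Nat.ble 166 b)) (Nat.ble 164 b)) (0) (Nat.ble 168 b)) (0) (Nat.ble 176 b)) (Nat.ble 160 b)) (0) (Nat.ble 192 b)) (Nat.ble 128 b))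
noncomputable def ecol16 (b : ℕ) : ℕ := (Bool.rec (motive := fun _ => ℕ) (Bool.rec (motive := fun _ => ℕ) (Bool.rec (motive := fun _ => ℕ) (Bool.rec (motive := fun _ => ℕ) (Bool.rec (motive := fun _ => ℕ) (Bool.rec (motive := fun _ => ℕ) (Bool.rec (motive := fun _ => ℕ) (Bool.rec (motive := fun _ => ℕ) (e16_0) (e16_1) (Nat.ble 1 b)) (Bool.rec (motive := fun _ => ℕ) (e16_2) (e16_3) (Nat.ble 3 b)) (Nat.ble 2 b)) (Bool.rec (motive := fun _ => ℕ) (Bool.rec (motive := fun _ => ℕ) (e16_4) (e16_5) (Nat.ble 5 b)) (Bool.rec (motive := fun _ => ℕ) (e16_6) (e16_7) (Nat.ble 7 b)) (Nat.ble 6 b)) (Nat.ble 4 b)) (Bool.rec (motive := fun _ => ℕ) (Bool.rec (motive := fun _ => ℕ) (Bool.rec (motive := fun _ => ℕ) (e16_8) (e16_9) (Nat.ble 9 b)) (Bool.rec (motive := fun _ => ℕ) (e16_10) (e16_11) (Nat.ble 11 b)) (Nat.ble 10 b)) (Bool.rec (motive := fun _ => ℕ) (Bool.rec (motive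 := fun _ => ℕ) (e16_12) (e16_13) (Nat.ble 13 b)) (Bool.rec (motive := fun _ => ℕ) (e16_14) (e16_15) (Nat.ble 15 b)) (Nat.ble 14 b)) (Nat.ble 12 b)) (Nat.ble 8 b)) (Bool.rec (motive := fun _ => ℕ) (Bool.rec (motive := fun _ => ℕ) (Bool.rec (motive := fun _ => ℕ) (Bool.rec (motive := fun _ => ℕ) (e16_16) (e16_17) (Nat.ble 17 b)) (Bool.rec (motive := fun _ => ℕ) (e16_18) (e16_19) (Nat.ble 19 b)) (Nat.ble 18 b)) (Bool.rec (motive := fun _ => ℕ) (Bool.rec (motive := fun _ => ℕ) (e16_20) (e16_21) (Nat.ble 21 b)) (Bool.rec (motive := fun _ => ℕ) (e16_22) (e16_23) (Nat.ble 23 b)) (Nat.ble 22 b)) (Nat.ble 20 b)) (Bool.rec (motive := fun _ => ℕ) (Bool.rec (motive := fun _ => ℕ) (Bool.rec (motive := fun _ => ℕ) (e16_24) (e16_25) (Nat.ble 25 b)) (Bool.rec (motive := fun _ => ℕ) (e16_26) (e16_27) (Nat.ble 27 b)) (Nat.ble 26 b)) (Bool.rec (motive := fun _ => ℕ) (Bool.rec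 (motive := fun _ => ℕ) (e16_28) (e16_29) (Nat.ble 29 b)) (Bool.rec (motive := fun _ => ℕ) (e16_30) (e16_31) (Nat.ble 31 b)) (Nat.ble 30 b)) (Nat.ble 28 b)) (Nat.ble 24 b)) (Nat.ble 16 b)) (Bool.rec (motive := fun _ => ℕ) (Bool.rec (motive := fun _ => ℕ) (Bool.rec (motive := fun _ => ℕ) (Bool.rec (motive := fun _ => ℕ) (Bool.rec (motive := fun _ => ℕ) (e16_32) (e16_33) (Nat.ble 33 b)) (Bool.rec (motive := fun _ => ℕ) (e16_34) (e16_35) (Nat.ble 35 b)) (Nat.ble 34 b)) (Bool.rec (motive := fun _ => ℕ) (Bool.rec (motive := fun _ => ℕ) (e16_36) (e16_37) (Nat.ble 37 b)) (Bool.rec (motive := fun _ => ℕ) (e16_38) (e16_39) (Nat.ble 39 b)) (Nat.ble 38 b)) (Nat.ble 36 b)) (Bool.rec (motive := fun _ => ℕ) (Bool.rec (motive := fun _ => ℕ) (Bool.rec (motive := fun _ => ℕ) (e16_40) (e16_41) (Nat.ble 41 b)) (Bool.rec (motive := fun _ => ℕ) (e16_42) (e16_43) (Nat.ble 43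 b)) (Nat.ble 42 b)) (Bool.rec (motive := fun _ => ℕ) (Bool.rec (motive := fun _ => ℕ) (e16_44) (e16_45) (Nat.ble 45 b)) (Bool.rec (motive := fun _ => ℕ) (e16_46) (e16_47) (Nat.ble 47 b)) (Nat.ble 46 b)) (Nat.ble 44 b)) (Nat.ble 40 b)) (Bool.rec (motive := fun _ => ℕ) (Bool.rec (motive := fun _ => ℕ) (Bool.rec (motive := fun _ => ℕ) (Bool.rec (motive := fun _ => ℕ) (e16_48) (e16_49) (Nat.ble 49 b)) (Bool.rec (motive := fun _ => ℕ) (e16_50) (e16_51) (Nat.ble 51 b)) (Nat.ble 50 b)) (Bool.rec (motive := fun _ => ℕ) (Bool.rec (motive := fun _ => ℕ) (e16_52) (e16_53) (Nat.ble 53 b)) (Bool.rec (motive := fun _ => ℕ) (e16_54) (e16_55) (Nat.ble 55 b)) (Nat.ble 54 b)) (Nat.ble 52 b)) (Bool.rec (motive := fun _ => ℕ) (Bool.rec (motive := fun _ => ℕ) (Bool.rec (motive := fun _ => ℕ) (e16_56) (e16_57) (Nat.ble 57 b)) (Bool.rec (motive := fun _ => ℕ) (e16_58) (e16_59)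 (Nat.ble 59 b)) (Nat.ble 58 b)) (Bool.rec (motive := fun _ => ℕ) (Bool.rec (motive := fun _ => ℕ) (e16_60) (e16_61) (Nat.ble 61 b)) (Bool.rec (motive := fun _ => ℕ) (e16_62) (e16_63) (Nat.ble 63 b)) (Nat.ble 62 b)) (Nat.ble 60 b)) (Nat.ble 56 b)) (Nat.ble 48 b)) (Nat.ble 32 b)) (Bool.rec (motive := fun _ => ℕ) (Bool.rec (motive := fun _ => ℕ) (Bool.rec (motive := fun _ => ℕ) (Bool.rec (motive := fun _ => ℕ) (Bool.rec (motive := fun _ => ℕ) (Bool.rec (motive := fun _ => ℕ) (e16_64) (e16_65) (Nat.ble 65 b)) (Bool.rec (motive := fun _ => ℕ) (e16_66) (e16_67) (Nat.ble 67 b)) (Nat.ble 66 b)) (Bool.rec (motive := fun _ => ℕ) (Bool.rec (motive := fun _ => ℕ) (e16_68) (e16_69) (Nat.ble 69 b)) (Bool.rec (motive := fun _ => ℕ) (e16_70) (e16_71) (Nat.ble 71 b)) (Nat.ble 70 b)) (Nat.ble 68 b)) (Bool.rec (motive := fun _ => ℕ) (Bool.rec (motive := fun _ => ℕ) (Bool.rec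 (motive := fun _ => ℕ) (e16_72) (e16_73) (Nat.ble 73 b)) (Bool.rec (motive := fun _ => ℕ) (e16_74) (e16_75) (Nat.ble 75 b)) (Nat.ble 74 b)) (Bool.rec (motive := fun _ => ℕ) (Bool.rec (motive := fun _ => ℕ) (e16_76) (e16_77) (Nat.ble 77 b)) (Bool.rec (motive := fun _ => ℕ) (e16_78) (e16_79) (Nat.ble 79 b)) (Nat.ble 78 b)) (Nat.ble 76 b)) (Nat.ble 72 b)) (Bool.rec (motive := fun _ => ℕ) (Bool.rec (motive := fun _ => ℕ) (Bool.rec (motive := fun _ => ℕ) (Bool.rec (motive := fun _ => ℕ) (e16_80) (e16_81) (Nat.ble 81 b)) (Bool.rec (motive := fun _ => ℕ) (e16_82) (e16_83) (Nat.ble 83 b)) (Nat.ble 82 b)) (Bool.rec (motive := fun _ => ℕ) (Bool.rec (motive := fun _ => ℕ) (e16_84) (e16_85) (Nat.ble 85 b)) (Bool.rec (motive := fun _ => ℕ) (e16_86) (e16_87) (Nat.ble 87 b)) (Nat.ble 86 b)) (Nat.ble 84 b)) (Bool.rec (motive := fun _ => ℕ) (Bool.rec (motive := fun _ =>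 ℕ) (Bool.rec (motive := fun _ => ℕ) (e16_88) (e16_89) (Nat.ble 89 b)) (Bool.rec (motive := fun _ => ℕ) (e16_90) (e16_91) (Nat.ble 91 b)) (Nat.ble 90 b)) (Bool.rec (motive := fun _ => ℕ) (Bool.rec (motive := fun _ => ℕ) (e16_92) (e16_93) (Nat.ble 93 b)) (Bool.rec (motive := fun _ => ℕ) (e16_94) (e16_95) (Nat.ble 95 b)) (Nat.ble 94 b)) (Nat.ble 92 b)) (Nat.ble 88 b)) (Nat.ble 80 b)) (Bool.rec (motive := fun _ => ℕ) (Bool.rec (motive := fun _ => ℕ) (Bool.rec (motive := fun _ => ℕ) (Bool.rec (motive := fun _ => ℕ) (Bool.rec (motive := fun _ => ℕ) (e16_96) (e16_97) (Nat.ble 97 b)) (Bool.rec (motive := fun _ => ℕ) (e16_98) (e16_99) (Nat.ble 99 b)) (Nat.ble 98 b)) (Bool.rec (motive := fun _ => ℕ) (Bool.rec (motive := fun _ => ℕ) (e16_100) (e16_101) (Nat.ble 101 b)) (Bool.rec (motive := fun _ => ℕ) (e16_102) (e16_103) (Nat.ble 103 b)) (Nat.ble 102 b)) (Nat.ble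 100 b)) (Bool.rec (motive := fun _ => ℕ) (Bool.rec (motive := fun _ => ℕ) (Bool.rec (motive := fun _ => ℕ) (e16_104) (e16_105) (Nat.ble 105 b)) (Bool.rec (motive := fun _ => ℕ) (e16_106) (e16_107) (Nat.ble 107 b)) (Nat.ble 106 b)) (Bool.rec (motive := fun _ => ℕ) (Bool.rec (motive := fun _ => ℕ) (e16_108) (e16_109) (Nat.ble 109 b)) (Bool.rec (motive := fun _ => ℕ) (e16_110) (e16_111) (Nat.ble 111 b)) (Nat.ble 110 b)) (Nat.ble 108 b)) (Nat.ble 104 b)) (Bool.rec (motive := fun _ => ℕ) (Bool.rec (motive := fun _ => ℕ) (Bool.rec (motive := fun _ => ℕ) (Bool.rec (motive := fun _ => ℕ) (e16_112) (e16_113) (Nat.ble 113 b)) (Bool.rec (motive := fun _ => ℕ) (e16_114) (e16_115) (Nat.ble 115 b)) (Nat.ble 114 b)) (Bool.rec (motive := fun _ => ℕ) (Bool.rec (motive := fun _ => ℕ) (e16_116) (e16_117) (Nat.ble 117 b)) (Bool.rec (motive := fun _ => ℕ) (e16_118) (e16_119)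 (Nat.ble 119 b)) (Nat.ble 118 b)) (Nat.ble 116 b)) (Bool.rec (motive := fun _ => ℕ) (Bool.rec (motive := fun _ => ℕ) (Bool.rec (motive := fun _ => ℕ) (e16_120) (e16_121) (Nat.ble 121 b)) (Bool.rec (motive := fun _ => ℕ) (e16_122) (e16_123) (Nat.ble 123 b)) (Nat.ble 122 b)) (Bool.rec (motive := fun _ => ℕ) (Bool.rec (motive := fun _ => ℕ) (e16_124) (e16_125) (Nat.ble 125 b)) (Bool.rec (motive := fun _ => ℕ) (e16_126) (e16_127) (Nat.ble 127 b)) (Nat.ble 126 b)) (Nat.ble 124 b)) (Nat.ble 120 b)) (Nat.ble 112 b)) (Nat.ble 96 b)) (Nat.ble 64 b)) (Bool.rec (motive := fun _ => ℕ) (Bool.rec (motive := fun _ => ℕ) (Bool.rec (motive := fun _ => ℕ) (Bool.rec (motive := fun _ => ℕ) (Bool.rec (motive := fun _ => ℕ) (Bool.rec (motive := fun _ => ℕ) (Bool.rec (motive := fun _ => ℕ) (e16_128) (e16_129) (Nat.ble 129 b)) (Bool.rec (motive := fun _ => ℕ) (e16_130) (e16_131)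 (Nat.ble 131 b)) (Nat.ble 130 b)) (Bool.rec (motive := fun _ => ℕ) (Bool.rec (motive := fun _ => ℕ) (e16_132) (e16_133) (Nat.ble 133 b)) (Bool.rec (motive := fun _ => ℕ) (e16_134) (e16_135) (Nat.ble 135 b)) (Nat.ble 134 b)) (Nat.ble 132 b)) (Bool.rec (motive := fun _ => ℕ) (Bool.rec (motive := fun _ => ℕ) (Bool.rec (motive := fun _ => ℕ) (e16_136) (e16_137) (Nat.ble 137 b)) (Bool.rec (motive := fun _ => ℕ) (e16_138) (e16_139) (Nat.ble 139 b)) (Nat.ble 138 b)) (Bool.rec (motive := fun _ => ℕ) (Bool.rec (motive := fun _ => ℕ) (e16_140) (e16_141) (Nat.ble 141 b)) (Bool.rec (motive := fun _ => ℕ) (e16_142) (e16_143) (Nat.ble 143 b)) (Nat.ble 142 b)) (Nat.ble 140 b)) (Nat.ble 136 b)) (Bool.rec (motive := fun _ => ℕ) (Bool.rec (motive := fun _ => ℕ) (Bool.rec (motive := fun _ => ℕ) (Bool.rec (motive := fun _ => ℕ) (e16_144) (e16_145) (Nat.ble 145 b)) (Bool.rec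 (motive := fun _ => ℕ) (e16_146) (e16_147) (Nat.ble 147 b)) (Nat.ble 146 b)) (Bool.rec (motive := fun _ => ℕ) (Bool.rec (motive := fun _ => ℕ) (e16_148) (e16_149) (Nat.ble 149 b)) (Bool.rec (motive := fun _ => ℕ) (e16_150) (e16_151) (Nat.ble 151 b)) (Nat.ble 150 b)) (Nat.ble 148 b)) (Bool.rec (motive := fun _ => ℕ) (Bool.rec (motive := fun _ => ℕ) (Bool.rec (motive := fun _ => ℕ) (e16_152) (e16_153) (Nat.ble 153 b)) (Bool.rec (motive := fun _ => ℕ) (e16_154) (e16_155) (Nat.ble 155 b)) (Nat.ble 154 b)) (Bool.rec (motive := fun _ => ℕ) (Bool.rec (motive := fun _ => ℕ) (e16_156) (e16_157) (Nat.ble 157 b)) (Bool.rec (motive := fun _ => ℕ) (e16_158) (e16_159) (Nat.ble 159 b)) (Nat.ble 158 b)) (Nat.ble 156 b)) (Nat.ble 152 b)) (Nat.ble 144 b)) (Bool.rec (motive := fun _ => ℕ) (Bool.rec (motive := fun _ => ℕ) (Bool.rec (motive := fun _ => ℕ) (Bool.rec (motive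 := fun _ => ℕ) (Bool.rec (motive := fun _ => ℕ) (e16_160) (e16_161) (Nat.ble 161 b)) (Bool.rec (motive := fun _ => ℕ) (e16_162) (e16_163) (Nat.ble 163 b)) (Nat.ble 162 b)) (Bool.rec (motive := fun _ => ℕ) (Bool.rec (motive := fun _ => ℕ) (e16_164) (e16_165) (Nat.ble 165 b)) (Bool.rec (motive := fun _ => ℕ) (e16_166) (e16_167) (Nat.ble 167 b)) (Nat.ble 166 b)) (Nat.ble 164 b)) (0) (Nat.ble 168 b)) (0) (Nat.ble 176 b)) (Nat.ble 160 b)) (0) (Nat.ble 192 b)) (Nat.ble 128 b))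
noncomputable def jcol16 (b : ℕ) : ℕ := (Bool.rec (motive := fun _ => ℕ) (Bool.rec (motive := fun _ => ℕ) (Bool.rec (motive := fun _ => ℕ) (Bool.rec (motive := fun _ => ℕ) (Bool.rec (motive := fun _ => ℕ) (Bool.rec (motive := fun _ => ℕ) (Bool.rec (motive := fun _ => ℕ) (Bool.rec (motive := fun _ => ℕ) (j16_0) (j16_1) (Nat.ble 1 b)) (Bool.rec (motive := fun _ => ℕ) (j16_2) (j16_3) (Nat.ble 3 b)) (Nat.ble 2 b)) (Bool.rec (motive := fun _ => ℕ) (Bool.rec (motive := fun _ => ℕ) (j16_4) (j16_5) (Nat.ble 5 b)) (Bool.rec (motive := fun _ => ℕ) (j16_6) (j16_7) (Nat.ble 7 b)) (Nat.ble 6 b)) (Nat.ble 4 b)) (Bool.rec (motive := fun _ => ℕ) (Bool.rec (motive := fun _ => ℕ) (Bool.rec (motive := fun _ => ℕ) (j16_8) (j16_9) (Nat.ble 9 b)) (Bool.rec (motive := fun _ => ℕ) (j16_10) (j16_11) (Nat.ble 11 b)) (Nat.ble 10 b)) (Bool.rec (motive := fun _ => ℕ) (Bool.rec (motive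 := fun _ => ℕ) (j16_12) (j16_13) (Nat.ble 13 b)) (Bool.rec (motive := fun _ => ℕ) (j16_14) (j16_15) (Nat.ble 15 b)) (Nat.ble 14 b)) (Nat.ble 12 b)) (Nat.ble 8 b)) (Bool.rec (motive := fun _ => ℕ) (Bool.rec (motive := fun _ => ℕ) (Bool.rec (motive := fun _ => ℕ) (Bool.rec (motive := fun _ => ℕ) (j16_16) (j16_17) (Nat.ble 17 b)) (Bool.rec (motive := fun _ => ℕ) (j16_18) (j16_19) (Nat.ble 19 b)) (Nat.ble 18 b)) (Bool.rec (motive := fun _ => ℕ) (Bool.rec (motive := fun _ => ℕ) (j16_20) (j16_21) (Nat.ble 21 b)) (Bool.rec (motive := fun _ => ℕ) (j16_22) (j16_23) (Nat.ble 23 b)) (Nat.ble 22 b)) (Nat.ble 20 b)) (Bool.rec (motive := fun _ => ℕ) (Bool.rec (motive := fun _ => ℕ) (Bool.rec (motive := fun _ => ℕ) (j16_24) (j16_25) (Nat.ble 25 b)) (Bool.rec (motive := fun _ => ℕ) (j16_26) (j16_27) (Nat.ble 27 b)) (Nat.ble 26 b)) (Bool.rec (motive := fun _ => ℕ) (Bool.rec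 (motive := fun _ => ℕ) (j16_28) (j16_29) (Nat.ble 29 b)) (Bool.rec (motive := fun _ => ℕ) (j16_30) (j16_31) (Nat.ble 31 b)) (Nat.ble 30 b)) (Nat.ble 28 b)) (Nat.ble 24 b)) (Nat.ble 16 b)) (Bool.rec (motive := fun _ => ℕ) (Bool.rec (motive := fun _ => ℕ) (Bool.rec (motive := fun _ => ℕ) (Bool.rec (motive := fun _ => ℕ) (Bool.rec (motive := fun _ => ℕ) (j16_32) (j16_33) (Nat.ble 33 b)) (Bool.rec (motive := fun _ => ℕ) (j16_34) (j16_35) (Nat.ble 35 b)) (Nat.ble 34 b)) (Bool.rec (motive := fun _ => ℕ) (Bool.rec (motive := fun _ => ℕ) (j16_36) (j16_37) (Nat.ble 37 b)) (Bool.rec (motive := fun _ => ℕ) (j16_38) (j16_39) (Nat.ble 39 b)) (Nat.ble 38 b)) (Nat.ble 36 b)) (Bool.rec (motive := fun _ => ℕ) (Bool.rec (motive := fun _ => ℕ) (Bool.rec (motive := fun _ => ℕ) (j16_40) (j16_41) (Nat.ble 41 b)) (Bool.rec (motive := fun _ => ℕ) (j16_42) (j16_43) (Nat.ble 43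 b)) (Nat.ble 42 b)) (Bool.rec (motive := fun _ => ℕ) (Bool.rec (motive := fun _ => ℕ) (j16_44) (j16_45) (Nat.ble 45 b)) (Bool.rec (motive := fun _ => ℕ) (j16_46) (j16_47) (Nat.ble 47 b)) (Nat.ble 46 b)) (Nat.ble 44 b)) (Nat.ble 40 b)) (Bool.rec (motive := fun _ => ℕ) (Bool.rec (motive := fun _ => ℕ) (Bool.rec (motive := fun _ => ℕ) (Bool.rec (motive := fun _ => ℕ) (j16_48) (j16_49) (Nat.ble 49 b)) (Bool.rec (motive := fun _ => ℕ) (j16_50) (j16_51) (Nat.ble 51 b)) (Nat.ble 50 b)) (Bool.rec (motive := fun _ => ℕ) (Bool.rec (motive := fun _ => ℕ) (j16_52) (j16_53) (Nat.ble 53 b)) (Bool.rec (motive := fun _ => ℕ) (j16_54) (j16_55) (Nat.ble 55 b)) (Nat.ble 54 b)) (Nat.ble 52 b)) (Bool.rec (motive := fun _ => ℕ) (Bool.rec (motive := fun _ => ℕ) (Bool.rec (motive := fun _ => ℕ) (j16_56) (j16_57) (Nat.ble 57 b)) (Bool.rec (motive := fun _ => ℕ) (j16_58) (j16_59)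 (Nat.ble 59 b)) (Nat.ble 58 b)) (Bool.rec (motive := fun _ => ℕ) (Bool.rec (motive := fun _ => ℕ) (j16_60) (j16_61) (Nat.ble 61 b)) (Bool.rec (motive := fun _ => ℕ) (j16_62) (j16_63) (Nat.ble 63 b)) (Nat.ble 62 b)) (Nat.ble 60 b)) (Nat.ble 56 b)) (Nat.ble 48 b)) (Nat.ble 32 b)) (Bool.rec (motive := fun _ => ℕ) (Bool.rec (motive := fun _ => ℕ) (Bool.rec (motive := fun _ => ℕ) (Bool.rec (motive := fun _ => ℕ) (Bool.rec (motive := fun _ => ℕ) (Bool.rec (motive := fun _ => ℕ) (j16_64) (j16_65) (Nat.ble 65 b)) (Bool.rec (motive := fun _ => ℕ) (j16_66) (j16_67) (Nat.ble 67 b)) (Nat.ble 66 b)) (Bool.rec (motive := fun _ => ℕ) (Bool.rec (motive := fun _ => ℕ) (j16_68) (j16_69) (Nat.ble 69 b)) (Bool.rec (motive := fun _ => ℕ) (j16_70) (j16_71) (Nat.ble 71 b)) (Nat.ble 70 b)) (Nat.ble 68 b)) (Bool.rec (motive := fun _ => ℕ) (Bool.rec (motive := fun _ => ℕ) (Bool.rec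 (motive := fun _ => ℕ) (j16_72) (j16_73) (Nat.ble 73 b)) (Bool.rec (motive := fun _ => ℕ) (j16_74) (j16_75) (Nat.ble 75 b)) (Nat.ble 74 b)) (Bool.rec (motive := fun _ => ℕ) (Bool.rec (motive := fun _ => ℕ) (j16_76) (j16_77) (Nat.ble 77 b)) (Bool.rec (motive := fun _ => ℕ) (j16_78) (j16_79) (Nat.ble 79 b)) (Nat.ble 78 b)) (Nat.ble 76 b)) (Nat.ble 72 b)) (Bool.rec (motive := fun _ => ℕ) (Bool.rec (motive := fun _ => ℕ) (Bool.rec (motive := fun _ => ℕ) (Bool.rec (motive := fun _ => ℕ) (j16_80) (j16_81) (Nat.ble 81 b)) (Bool.rec (motive := fun _ => ℕ) (j16_82) (j16_83) (Nat.ble 83 b)) (Nat.ble 82 b)) (Bool.rec (motive := fun _ => ℕ) (Bool.rec (motive := fun _ => ℕ) (j16_84) (j16_85) (Nat.ble 85 b)) (Bool.rec (motive := fun _ => ℕ) (j16_86) (j16_87) (Nat.ble 87 b)) (Nat.ble 86 b)) (Nat.ble 84 b)) (Bool.rec (motive := fun _ => ℕ) (Bool.rec (motive := fun _ =>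 ℕ) (Bool.rec (motive := fun _ => ℕ) (j16_88) (j16_89) (Nat.ble 89 b)) (Bool.rec (motive := fun _ => ℕ) (j16_90) (j16_91) (Nat.ble 91 b)) (Nat.ble 90 b)) (Bool.rec (motive := fun _ => ℕ) (Bool.rec (motive := fun _ => ℕ) (j16_92) (j16_93) (Nat.ble 93 b)) (Bool.rec (motive := fun _ => ℕ) (j16_94) (j16_95) (Nat.ble 95 b)) (Nat.ble 94 b)) (Nat.ble 92 b)) (Nat.ble 88 b)) (Nat.ble 80 b)) (Bool.rec (motive := fun _ => ℕ) (Bool.rec (motive := fun _ => ℕ) (Bool.rec (motive := fun _ => ℕ) (Bool.rec (motive := fun _ => ℕ) (Bool.rec (motive := fun _ => ℕ) (j16_96) (j16_97) (Nat.ble 97 b)) (Bool.rec (motive := fun _ => ℕ) (j16_98) (j16_99) (Nat.ble 99 b)) (Nat.ble 98 b)) (Bool.rec (motive := fun _ => ℕ) (Bool.rec (motive := fun _ => ℕ) (j16_100) (j16_101) (Nat.ble 101 b)) (Bool.rec (motive := fun _ => ℕ) (j16_102) (j16_103) (Nat.ble 103 b)) (Nat.ble 102 b)) (Nat.ble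 100 b)) (Bool.rec (motive := fun _ => ℕ) (Bool.rec (motive := fun _ => ℕ) (Bool.rec (motive := fun _ => ℕ) (j16_104) (j16_105) (Nat.ble 105 b)) (Bool.rec (motive := fun _ => ℕ) (j16_106) (j16_107) (Nat.ble 107 b)) (Nat.ble 106 b)) (Bool.rec (motive := fun _ => ℕ) (Bool.rec (motive := fun _ => ℕ) (j16_108) (j16_109) (Nat.ble 109 b)) (Bool.rec (motive := fun _ => ℕ) (j16_110) (j16_111) (Nat.ble 111 b)) (Nat.ble 110 b)) (Nat.ble 108 b)) (Nat.ble 104 b)) (Bool.rec (motive := fun _ => ℕ) (Bool.rec (motive := fun _ => ℕ) (Bool.rec (motive := fun _ => ℕ) (Bool.rec (motive := fun _ => ℕ) (j16_112) (j16_113) (Nat.ble 113 b)) (Bool.rec (motive := fun _ => ℕ) (j16_114) (j16_115) (Nat.ble 115 b)) (Nat.ble 114 b)) (Bool.rec (motive := fun _ => ℕ) (Bool.rec (motive := fun _ => ℕ) (j16_116) (j16_117) (Nat.ble 117 b)) (Bool.rec (motive := fun _ => ℕ) (j16_118) (j16_119)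 (Nat.ble 119 b)) (Nat.ble 118 b)) (Nat.ble 116 b)) (Bool.rec (motive := fun _ => ℕ) (Bool.rec (motive := fun _ => ℕ) (Bool.rec (motive := fun _ => ℕ) (j16_120) (j16_121) (Nat.ble 121 b)) (Bool.rec (motive := fun _ => ℕ) (j16_122) (j16_123) (Nat.ble 123 b)) (Nat.ble 122 b)) (Bool.rec (motive := fun _ => ℕ) (Bool.rec (motive := fun _ => ℕ) (j16_124) (j16_125) (Nat.ble 125 b)) (Bool.rec (motive := fun _ => ℕ) (j16_126) (j16_127) (Nat.ble 127 b)) (Nat.ble 126 b)) (Nat.ble 124 b)) (Nat.ble 120 b)) (Nat.ble 112 b)) (Nat.ble 96 b)) (Nat.ble 64 b)) (Bool.rec (motive := fun _ => ℕ) (Bool.rec (motive := fun _ => ℕ) (Bool.rec (motive := fun _ => ℕ) (Bool.rec (motive := fun _ => ℕ) (Bool.rec (motive := fun _ => ℕ) (Bool.rec (motive := fun _ => ℕ) (Bool.rec (motive := fun _ => ℕ) (j16_128) (j16_129) (Nat.ble 129 b)) (Bool.rec (motive := fun _ => ℕ) (j16_130) (j16_131)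 (Nat.ble 131 b)) (Nat.ble 130 b)) (Bool.rec (motive := fun _ => ℕ) (Bool.rec (motive := fun _ => ℕ) (j16_132) (j16_133) (Nat.ble 133 b)) (Bool.rec (motive := fun _ => ℕ) (j16_134) (j16_135) (Nat.ble 135 b)) (Nat.ble 134 b)) (Nat.ble 132 b)) (Bool.rec (motive := fun _ => ℕ) (Bool.rec (motive := fun _ => ℕ) (Bool.rec (motive := fun _ => ℕ) (j16_136) (j16_137) (Nat.ble 137 b)) (Bool.rec (motive := fun _ => ℕ) (j16_138) (j16_139) (Nat.ble 139 b)) (Nat.ble 138 b)) (Bool.rec (motive := fun _ => ℕ) (Bool.rec (motive := fun _ => ℕ) (j16_140) (j16_141) (Nat.ble 141 b)) (Bool.rec (motive := fun _ => ℕ) (j16_142) (j16_143) (Nat.ble 143 b)) (Nat.ble 142 b)) (Nat.ble 140 b)) (Nat.ble 136 b)) (Bool.rec (motive := fun _ => ℕ) (Bool.rec (motive := fun _ => ℕ) (Bool.rec (motive := fun _ => ℕ) (Bool.rec (motive := fun _ => ℕ) (j16_144) (j16_145) (Nat.ble 145 b)) (Bool.rec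 (motive := fun _ => ℕ) (j16_146) (j16_147) (Nat.ble 147 b)) (Nat.ble 146 b)) (Bool.rec (motive := fun _ => ℕ) (Bool.rec (motive := fun _ => ℕ) (j16_148) (j16_149) (Nat.ble 149 b)) (Bool.rec (motive := fun _ => ℕ) (j16_150) (j16_151) (Nat.ble 151 b)) (Nat.ble 150 b)) (Nat.ble 148 b)) (Bool.rec (motive := fun _ => ℕ) (Bool.rec (motive := fun _ => ℕ) (Bool.rec (motive := fun _ => ℕ) (j16_152) (j16_153) (Nat.ble 153 b)) (Bool.rec (motive := fun _ => ℕ) (j16_154) (j16_155) (Nat.ble 155 b)) (Nat.ble 154 b)) (Bool.rec (motive := fun _ => ℕ) (Bool.rec (motive := fun _ => ℕ) (j16_156) (j16_157) (Nat.ble 157 b)) (Bool.rec (motive := fun _ => ℕ) (j16_158) (j16_159) (Nat.ble 159 b)) (Nat.ble 158 b)) (Nat.ble 156 b)) (Nat.ble 152 b)) (Nat.ble 144 b)) (Bool.rec (motive := fun _ => ℕ) (Bool.rec (motive := fun _ => ℕ) (Bool.rec (motive := fun _ => ℕ) (Bool.rec (motive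 := fun _ => ℕ) (Bool.rec (motive := fun _ => ℕ) (j16_160) (j16_161) (Nat.ble 161 b)) (Bool.rec (motive := fun _ => ℕ) (j16_162) (j16_163) (Nat.ble 163 b)) (Nat.ble 162 b)) (Bool.rec (motive := fun _ => ℕ) (Bool.rec (motive := fun _ => ℕ) (j16_164) (j16_165) (Nat.ble 165 b)) (Bool.rec (motive := fun _ => ℕ) (j16_166) (j16_167) (Nat.ble 167 b)) (Nat.ble 166 b)) (Nat.ble 164 b)) (0) (Nat.ble 168 b)) (0) (Nat.ble 176 b)) (Nat.ble 160 b)) (0) (Nat.ble 192 b)) (Nat.ble 128 b))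
noncomputable def ecol17 (b : ℕ) : ℕ := (Bool.rec (motive := fun _ => ℕ) (Bool.rec (motive := fun _ => ℕ) (Bool.rec (motive := fun _ => ℕ) (Bool.rec (motive := fun _ => ℕ) (Bool.rec (motive := fun _ => ℕ) (Bool.rec (motive := fun _ => ℕ) (Bool.rec (motive := fun _ => ℕ) (Bool.rec (motive := fun _ => ℕ) (e17_0) (e17_1) (Nat.ble 1 b)) (Bool.rec (motive := fun _ => ℕ) (e17_2) (e17_3) (Nat.ble 3 b)) (Nat.ble 2 b)) (Bool.rec (motive := fun _ => ℕ) (Bool.rec (motive := fun _ => ℕ) (e17_4) (e17_5) (Nat.ble 5 b)) (Bool.rec (motive := fun _ => ℕ) (e17_6) (e17_7) (Nat.ble 7 b)) (Nat.ble 6 b)) (Nat.ble 4 b)) (Bool.rec (motive := fun _ => ℕ) (Bool.rec (motive := fun _ => ℕ) (Bool.rec (motive := fun _ => ℕ) (e17_8) (e17_9) (Nat.ble 9 b)) (Bool.rec (motive := fun _ => ℕ) (e17_10) (e17_11) (Nat.ble 11 b)) (Nat.ble 10 b)) (Bool.rec (motive := fun _ => ℕ) (Bool.rec (motive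 := fun _ => ℕ) (e17_12) (e17_13) (Nat.ble 13 b)) (Bool.rec (motive := fun _ => ℕ) (e17_14) (e17_15) (Nat.ble 15 b)) (Nat.ble 14 b)) (Nat.ble 12 b)) (Nat.ble 8 b)) (Bool.rec (motive := fun _ => ℕ) (Bool.rec (motive := fun _ => ℕ) (Bool.rec (motive := fun _ => ℕ) (Bool.rec (motive := fun _ => ℕ) (e17_16) (e17_17) (Nat.ble 17 b)) (Bool.rec (motive := fun _ => ℕ) (e17_18) (e17_19) (Nat.ble 19 b)) (Nat.ble 18 b)) (Bool.rec (motive := fun _ => ℕ) (Bool.rec (motive := fun _ => ℕ) (e17_20) (e17_21) (Nat.ble 21 b)) (Bool.rec (motive := fun _ => ℕ) (e17_22) (e17_23) (Nat.ble 23 b)) (Nat.ble 22 b)) (Nat.ble 20 b)) (Bool.rec (motive := fun _ => ℕ) (Bool.rec (motive := fun _ => ℕ) (Bool.rec (motive := fun _ => ℕ) (e17_24) (e17_25) (Nat.ble 25 b)) (Bool.rec (motive := fun _ => ℕ) (e17_26) (e17_27) (Nat.ble 27 b)) (Nat.ble 26 b)) (Bool.rec (motive := fun _ => ℕ) (Bool.rec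 (motive := fun _ => ℕ) (e17_28) (e17_29) (Nat.ble 29 b)) (Bool.rec (motive := fun _ => ℕ) (e17_30) (e17_31) (Nat.ble 31 b)) (Nat.ble 30 b)) (Nat.ble 28 b)) (Nat.ble 24 b)) (Nat.ble 16 b)) (Bool.rec (motive := fun _ => ℕ) (Bool.rec (motive := fun _ => ℕ) (Bool.rec (motive := fun _ => ℕ) (Bool.rec (motive := fun _ => ℕ) (Bool.rec (motive := fun _ => ℕ) (e17_32) (e17_33) (Nat.ble 33 b)) (Bool.rec (motive := fun _ => ℕ) (e17_34) (e17_35) (Nat.ble 35 b)) (Nat.ble 34 b)) (Bool.rec (motive := fun _ => ℕ) (Bool.rec (motive := fun _ => ℕ) (e17_36) (e17_37) (Nat.ble 37 b)) (Bool.rec (motive := fun _ => ℕ) (e17_38) (e17_39) (Nat.ble 39 b)) (Nat.ble 38 b)) (Nat.ble 36 b)) (Bool.rec (motive := fun _ => ℕ) (Bool.rec (motive := fun _ => ℕ) (Bool.rec (motive := fun _ => ℕ) (e17_40) (e17_41) (Nat.ble 41 b)) (Bool.rec (motive := fun _ => ℕ) (e17_42) (e17_43) (Nat.ble 43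 b)) (Nat.ble 42 b)) (Bool.rec (motive := fun _ => ℕ) (Bool.rec (motive := fun _ => ℕ) (e17_44) (e17_45) (Nat.ble 45 b)) (Bool.rec (motive := fun _ => ℕ) (e17_46) (e17_47) (Nat.ble 47 b)) (Nat.ble 46 b)) (Nat.ble 44 b)) (Nat.ble 40 b)) (Bool.rec (motive := fun _ => ℕ) (Bool.rec (motive := fun _ => ℕ) (Bool.rec (motive := fun _ => ℕ) (Bool.rec (motive := fun _ => ℕ) (e17_48) (e17_49) (Nat.ble 49 b)) (Bool.rec (motive := fun _ => ℕ) (e17_50) (e17_51) (Nat.ble 51 b)) (Nat.ble 50 b)) (Bool.rec (motive := fun _ => ℕ) (Bool.rec (motive := fun _ => ℕ) (e17_52) (e17_53) (Nat.ble 53 b)) (Bool.rec (motive := fun _ => ℕ) (e17_54) (e17_55) (Nat.ble 55 b)) (Nat.ble 54 b)) (Nat.ble 52 b)) (Bool.rec (motive := fun _ => ℕ) (Bool.rec (motive := fun _ => ℕ) (Bool.rec (motive := fun _ => ℕ) (e17_56) (e17_57) (Nat.ble 57 b)) (Bool.rec (motive := fun _ => ℕ) (e17_58) (e17_59)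 (Nat.ble 59 b)) (Nat.ble 58 b)) (Bool.rec (motive := fun _ => ℕ) (Bool.rec (motive := fun _ => ℕ) (e17_60) (e17_61) (Nat.ble 61 b)) (Bool.rec (motive := fun _ => ℕ) (e17_62) (e17_63) (Nat.ble 63 b)) (Nat.ble 62 b)) (Nat.ble 60 b)) (Nat.ble 56 b)) (Nat.ble 48 b)) (Nat.ble 32 b)) (Bool.rec (motive := fun _ => ℕ) (Bool.rec (motive := fun _ => ℕ) (Bool.rec (motive := fun _ => ℕ) (Bool.rec (motive := fun _ => ℕ) (Bool.rec (motive := fun _ => ℕ) (Bool.rec (motive := fun _ => ℕ) (e17_64) (e17_65) (Nat.ble 65 b)) (Bool.rec (motive := fun _ => ℕ) (e17_66) (e17_67) (Nat.ble 67 b)) (Nat.ble 66 b)) (Bool.rec (motive := fun _ => ℕ) (Bool.rec (motive := fun _ => ℕ) (e17_68) (e17_69) (Nat.ble 69 b)) (Bool.rec (motive := fun _ => ℕ) (e17_70) (e17_71) (Nat.ble 71 b)) (Nat.ble 70 b)) (Nat.ble 68 b)) (Bool.rec (motive := fun _ => ℕ) (Bool.rec (motive := fun _ => ℕ) (Bool.rec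 (motive := fun _ => ℕ) (e17_72) (e17_73) (Nat.ble 73 b)) (Bool.rec (motive := fun _ => ℕ) (e17_74) (e17_75) (Nat.ble 75 b)) (Nat.ble 74 b)) (Bool.rec (motive := fun _ => ℕ) (Bool.rec (motive := fun _ => ℕ) (e17_76) (e17_77) (Nat.ble 77 b)) (Bool.rec (motive := fun _ => ℕ) (e17_78) (e17_79) (Nat.ble 79 b)) (Nat.ble 78 b)) (Nat.ble 76 b)) (Nat.ble 72 b)) (Bool.rec (motive := fun _ => ℕ) (Bool.rec (motive := fun _ => ℕ) (Bool.rec (motive := fun _ => ℕ) (Bool.rec (motive := fun _ => ℕ) (e17_80) (e17_81) (Nat.ble 81 b)) (Bool.rec (motive := fun _ => ℕ) (e17_82) (e17_83) (Nat.ble 83 b)) (Nat.ble 82 b)) (Bool.rec (motive := fun _ => ℕ) (Bool.rec (motive := fun _ => ℕ) (e17_84) (e17_85) (Nat.ble 85 b)) (Bool.rec (motive := fun _ => ℕ) (e17_86) (e17_87) (Nat.ble 87 b)) (Nat.ble 86 b)) (Nat.ble 84 b)) (Bool.rec (motive := fun _ => ℕ) (Bool.rec (motive := fun _ =>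 ℕ) (Bool.rec (motive := fun _ => ℕ) (e17_88) (e17_89) (Nat.ble 89 b)) (Bool.rec (motive := fun _ => ℕ) (e17_90) (e17_91) (Nat.ble 91 b)) (Nat.ble 90 b)) (Bool.rec (motive := fun _ => ℕ) (Bool.rec (motive := fun _ => ℕ) (e17_92) (e17_93) (Nat.ble 93 b)) (Bool.rec (motive := fun _ => ℕ) (e17_94) (e17_95) (Nat.ble 95 b)) (Nat.ble 94 b)) (Nat.ble 92 b)) (Nat.ble 88 b)) (Nat.ble 80 b)) (Bool.rec (motive := fun _ => ℕ) (Bool.rec (motive := fun _ => ℕ) (Bool.rec (motive := fun _ => ℕ) (Bool.rec (motive := fun _ => ℕ) (Bool.rec (motive := fun _ => ℕ) (e17_96) (e17_97) (Nat.ble 97 b)) (Bool.rec (motive := fun _ => ℕ) (e17_98) (e17_99) (Nat.ble 99 b)) (Nat.ble 98 b)) (Bool.rec (motive := fun _ => ℕ) (Bool.rec (motive := fun _ => ℕ) (e17_100) (e17_101) (Nat.ble 101 b)) (Bool.rec (motive := fun _ => ℕ) (e17_102) (e17_103) (Nat.ble 103 b)) (Nat.ble 102 b)) (Nat.ble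 100 b)) (Bool.rec (motive := fun _ => ℕ) (Bool.rec (motive := fun _ => ℕ) (Bool.rec (motive := fun _ => ℕ) (e17_104) (e17_105) (Nat.ble 105 b)) (Bool.rec (motive := fun _ => ℕ) (e17_106) (e17_107) (Nat.ble 107 b)) (Nat.ble 106 b)) (Bool.rec (motive := fun _ => ℕ) (Bool.rec (motive := fun _ => ℕ) (e17_108) (e17_109) (Nat.ble 109 b)) (Bool.rec (motive := fun _ => ℕ) (e17_110) (e17_111) (Nat.ble 111 b)) (Nat.ble 110 b)) (Nat.ble 108 b)) (Nat.ble 104 b)) (Bool.rec (motive := fun _ => ℕ) (Bool.rec (motive := fun _ => ℕ) (Bool.rec (motive := fun _ => ℕ) (Bool.rec (motive := fun _ => ℕ) (e17_112) (e17_113) (Nat.ble 113 b)) (Bool.rec (motive := fun _ => ℕ) (e17_114) (e17_115) (Nat.ble 115 b)) (Nat.ble 114 b)) (Bool.rec (motive := fun _ => ℕ) (Bool.rec (motive := fun _ => ℕ) (e17_116) (e17_117) (Nat.ble 117 b)) (Bool.rec (motive := fun _ => ℕ) (e17_118) (e17_119)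 (Nat.ble 119 b)) (Nat.ble 118 b)) (Nat.ble 116 b)) (Bool.rec (motive := fun _ => ℕ) (Bool.rec (motive := fun _ => ℕ) (Bool.rec (motive := fun _ => ℕ) (e17_120) (e17_121) (Nat.ble 121 b)) (Bool.rec (motive := fun _ => ℕ) (e17_122) (e17_123) (Nat.ble 123 b)) (Nat.ble 122 b)) (Bool.rec (motive := fun _ => ℕ) (Bool.rec (motive := fun _ => ℕ) (e17_124) (e17_125) (Nat.ble 125 b)) (Bool.rec (motive := fun _ => ℕ) (e17_126) (e17_127) (Nat.ble 127 b)) (Nat.ble 126 b)) (Nat.ble 124 b)) (Nat.ble 120 b)) (Nat.ble 112 b)) (Nat.ble 96 b)) (Nat.ble 64 b)) (Bool.rec (motive := fun _ => ℕ) (Bool.rec (motive := fun _ => ℕ) (Bool.rec (motive := fun _ => ℕ) (Bool.rec (motive := fun _ => ℕ) (Bool.rec (motive := fun _ => ℕ) (Bool.rec (motive := fun _ => ℕ) (Bool.rec (motive := fun _ => ℕ) (e17_128) (e17_129) (Nat.ble 129 b)) (Bool.rec (motive := fun _ => ℕ) (e17_130) (e17_131)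 (Nat.ble 131 b)) (Nat.ble 130 b)) (Bool.rec (motive := fun _ => ℕ) (Bool.rec (motive := fun _ => ℕ) (e17_132) (e17_133) (Nat.ble 133 b)) (Bool.rec (motive := fun _ => ℕ) (e17_134) (e17_135) (Nat.ble 135 b)) (Nat.ble 134 b)) (Nat.ble 132 b)) (Bool.rec (motive := fun _ => ℕ) (Bool.rec (motive := fun _ => ℕ) (Bool.rec (motive := fun _ => ℕ) (e17_136) (e17_137) (Nat.ble 137 b)) (Bool.rec (motive := fun _ => ℕ) (e17_138) (e17_139) (Nat.ble 139 b)) (Nat.ble 138 b)) (Bool.rec (motive := fun _ => ℕ) (Bool.rec (motive := fun _ => ℕ) (e17_140) (e17_141) (Nat.ble 141 b)) (Bool.rec (motive := fun _ => ℕ) (e17_142) (e17_143) (Nat.ble 143 b)) (Nat.ble 142 b)) (Nat.ble 140 b)) (Nat.ble 136 b)) (Bool.rec (motive := fun _ => ℕ) (Bool.rec (motive := fun _ => ℕ) (Bool.rec (motive := fun _ => ℕ) (Bool.rec (motive := fun _ => ℕ) (e17_144) (e17_145) (Nat.ble 145 b)) (Bool.rec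 (motive := fun _ => ℕ) (e17_146) (e17_147) (Nat.ble 147 b)) (Nat.ble 146 b)) (Bool.rec (motive := fun _ => ℕ) (Bool.rec (motive := fun _ => ℕ) (e17_148) (e17_149) (Nat.ble 149 b)) (Bool.rec (motive := fun _ => ℕ) (e17_150) (e17_151) (Nat.ble 151 b)) (Nat.ble 150 b)) (Nat.ble 148 b)) (Bool.rec (motive := fun _ => ℕ) (Bool.rec (motive := fun _ => ℕ) (Bool.rec (motive := fun _ => ℕ) (e17_152) (e17_153) (Nat.ble 153 b)) (Bool.rec (motive := fun _ => ℕ) (e17_154) (e17_155) (Nat.ble 155 b)) (Nat.ble 154 b)) (Bool.rec (motive := fun _ => ℕ) (Bool.rec (motive := fun _ => ℕ) (e17_156) (e17_157) (Nat.ble 157 b)) (Bool.rec (motive := fun _ => ℕ) (e17_158) (e17_159) (Nat.ble 159 b)) (Nat.ble 158 b)) (Nat.ble 156 b)) (Nat.ble 152 b)) (Nat.ble 144 b)) (Bool.rec (motive := fun _ => ℕ) (Bool.rec (motive := fun _ => ℕ) (Bool.rec (motive := fun _ => ℕ) (Bool.rec (motive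 := fun _ => ℕ) (Bool.rec (motive := fun _ => ℕ) (e17_160) (e17_161) (Nat.ble 161 b)) (Bool.rec (motive := fun _ => ℕ) (e17_162) (e17_163) (Nat.ble 163 b)) (Nat.ble 162 b)) (Bool.rec (motive := fun _ => ℕ) (Bool.rec (motive := fun _ => ℕ) (e17_164) (e17_165) (Nat.ble 165 b)) (Bool.rec (motive := fun _ => ℕ) (e17_166) (e17_167) (Nat.ble 167 b)) (Nat.ble 166 b)) (Nat.ble 164 b)) (0) (Nat.ble 168 b)) (0) (Nat.ble 176 b)) (Nat.ble 160 b)) (0) (Nat.ble 192 b)) (Nat.ble 128 b))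
noncomputable def jcol17 (b : ℕ) : ℕ := (Bool.rec (motive := fun _ => ℕ) (Bool.rec (motive := fun _ => ℕ) (Bool.rec (motive := fun _ => ℕ) (Bool.rec (motive := fun _ => ℕ) (Bool.rec (motive := fun _ => ℕ) (Bool.rec (motive := fun _ => ℕ) (Bool.rec (motive := fun _ => ℕ) (Bool.rec (motive := fun _ => ℕ) (j17_0) (j17_1) (Nat.ble 1 b)) (Bool.rec (motive := fun _ => ℕ) (j17_2) (j17_3) (Nat.ble 3 b)) (Nat.ble 2 b)) (Bool.rec (motive := fun _ => ℕ) (Bool.rec (motive := fun _ => ℕ) (j17_4) (j17_5) (Nat.ble 5 b)) (Bool.rec (motive := fun _ => ℕ) (j17_6) (j17_7) (Nat.ble 7 b)) (Nat.ble 6 b)) (Nat.ble 4 b)) (Bool.rec (motive := fun _ => ℕ) (Bool.rec (motive := fun _ => ℕ) (Bool.rec (motive := fun _ => ℕ) (j17_8) (j17_9) (Nat.ble 9 b)) (Bool.rec (motive := fun _ => ℕ) (j17_10) (j17_11) (Nat.ble 11 b)) (Nat.ble 10 b)) (Bool.rec (motive := fun _ => ℕ) (Bool.rec (motive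 := fun _ => ℕ) (j17_12) (j17_13) (Nat.ble 13 b)) (Bool.rec (motive := fun _ => ℕ) (j17_14) (j17_15) (Nat.ble 15 b)) (Nat.ble 14 b)) (Nat.ble 12 b)) (Nat.ble 8 b)) (Bool.rec (motive := fun _ => ℕ) (Bool.rec (motive := fun _ => ℕ) (Bool.rec (motive := fun _ => ℕ) (Bool.rec (motive := fun _ => ℕ) (j17_16) (j17_17) (Nat.ble 17 b)) (Bool.rec (motive := fun _ => ℕ) (j17_18) (j17_19) (Nat.ble 19 b)) (Nat.ble 18 b)) (Bool.rec (motive := fun _ => ℕ) (Bool.rec (motive := fun _ => ℕ) (j17_20) (j17_21) (Nat.ble 21 b)) (Bool.rec (motive := fun _ => ℕ) (j17_22) (j17_23) (Nat.ble 23 b)) (Nat.ble 22 b)) (Nat.ble 20 b)) (Bool.rec (motive := fun _ => ℕ) (Bool.rec (motive := fun _ => ℕ) (Bool.rec (motive := fun _ => ℕ) (j17_24) (j17_25) (Nat.ble 25 b)) (Bool.rec (motive := fun _ => ℕ) (j17_26) (j17_27) (Nat.ble 27 b)) (Nat.ble 26 b)) (Bool.rec (motive := fun _ => ℕ) (Bool.rec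 (motive := fun _ => ℕ) (j17_28) (j17_29) (Nat.ble 29 b)) (Bool.rec (motive := fun _ => ℕ) (j17_30) (j17_31) (Nat.ble 31 b)) (Nat.ble 30 b)) (Nat.ble 28 b)) (Nat.ble 24 b)) (Nat.ble 16 b)) (Bool.rec (motive := fun _ => ℕ) (Bool.rec (motive := fun _ => ℕ) (Bool.rec (motive := fun _ => ℕ) (Bool.rec (motive := fun _ => ℕ) (Bool.rec (motive := fun _ => ℕ) (j17_32) (j17_33) (Nat.ble 33 b)) (Bool.rec (motive := fun _ => ℕ) (j17_34) (j17_35) (Nat.ble 35 b)) (Nat.ble 34 b)) (Bool.rec (motive := fun _ => ℕ) (Bool.rec (motive := fun _ => ℕ) (j17_36) (j17_37) (Nat.ble 37 b)) (Bool.rec (motive := fun _ => ℕ) (j17_38) (j17_39) (Nat.ble 39 b)) (Nat.ble 38 b)) (Nat.ble 36 b)) (Bool.rec (motive := fun _ => ℕ) (Bool.rec (motive := fun _ => ℕ) (Bool.rec (motive := fun _ => ℕ) (j17_40) (j17_41) (Nat.ble 41 b)) (Bool.rec (motive := fun _ => ℕ) (j17_42) (j17_43) (Nat.ble 43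 b)) (Nat.ble 42 b)) (Bool.rec (motive := fun _ => ℕ) (Bool.rec (motive := fun _ => ℕ) (j17_44) (j17_45) (Nat.ble 45 b)) (Bool.rec (motive := fun _ => ℕ) (j17_46) (j17_47) (Nat.ble 47 b)) (Nat.ble 46 b)) (Nat.ble 44 b)) (Nat.ble 40 b)) (Bool.rec (motive := fun _ => ℕ) (Bool.rec (motive := fun _ => ℕ) (Bool.rec (motive := fun _ => ℕ) (Bool.rec (motive := fun _ => ℕ) (j17_48) (j17_49) (Nat.ble 49 b)) (Bool.rec (motive := fun _ => ℕ) (j17_50) (j17_51) (Nat.ble 51 b)) (Nat.ble 50 b)) (Bool.rec (motive := fun _ => ℕ) (Bool.rec (motive := fun _ => ℕ) (j17_52) (j17_53) (Nat.ble 53 b)) (Bool.rec (motive := fun _ => ℕ) (j17_54) (j17_55) (Nat.ble 55 b)) (Nat.ble 54 b)) (Nat.ble 52 b)) (Bool.rec (motive := fun _ => ℕ) (Bool.rec (motive := fun _ => ℕ) (Bool.rec (motive := fun _ => ℕ) (j17_56) (j17_57) (Nat.ble 57 b)) (Bool.rec (motive := fun _ => ℕ) (j17_58) (j17_59)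 (Nat.ble 59 b)) (Nat.ble 58 b)) (Bool.rec (motive := fun _ => ℕ) (Bool.rec (motive := fun _ => ℕ) (j17_60) (j17_61) (Nat.ble 61 b)) (Bool.rec (motive := fun _ => ℕ) (j17_62) (j17_63) (Nat.ble 63 b)) (Nat.ble 62 b)) (Nat.ble 60 b)) (Nat.ble 56 b)) (Nat.ble 48 b)) (Nat.ble 32 b)) (Bool.rec (motive := fun _ => ℕ) (Bool.rec (motive := fun _ => ℕ) (Bool.rec (motive := fun _ => ℕ) (Bool.rec (motive := fun _ => ℕ) (Bool.rec (motive := fun _ => ℕ) (Bool.rec (motive := fun _ => ℕ) (j17_64) (j17_65) (Nat.ble 65 b)) (Bool.rec (motive := fun _ => ℕ) (j17_66) (j17_67) (Nat.ble 67 b)) (Nat.ble 66 b)) (Bool.rec (motive := fun _ => ℕ) (Bool.rec (motive := fun _ => ℕ) (j17_68) (j17_69) (Nat.ble 69 b)) (Bool.rec (motive := fun _ => ℕ) (j17_70) (j17_71) (Nat.ble 71 b)) (Nat.ble 70 b)) (Nat.ble 68 b)) (Bool.rec (motive := fun _ => ℕ) (Bool.rec (motive := fun _ => ℕ) (Bool.rec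 (motive := fun _ => ℕ) (j17_72) (j17_73) (Nat.ble 73 b)) (Bool.rec (motive := fun _ => ℕ) (j17_74) (j17_75) (Nat.ble 75 b)) (Nat.ble 74 b)) (Bool.rec (motive := fun _ => ℕ) (Bool.rec (motive := fun _ => ℕ) (j17_76) (j17_77) (Nat.ble 77 b)) (Bool.rec (motive := fun _ => ℕ) (j17_78) (j17_79) (Nat.ble 79 b)) (Nat.ble 78 b)) (Nat.ble 76 b)) (Nat.ble 72 b)) (Bool.rec (motive := fun _ => ℕ) (Bool.rec (motive := fun _ => ℕ) (Bool.rec (motive := fun _ => ℕ) (Bool.rec (motive := fun _ => ℕ) (j17_80) (j17_81) (Nat.ble 81 b)) (Bool.rec (motive := fun _ => ℕ) (j17_82) (j17_83) (Nat.ble 83 b)) (Nat.ble 82 b)) (Bool.rec (motive := fun _ => ℕ) (Bool.rec (motive := fun _ => ℕ) (j17_84) (j17_85) (Nat.ble 85 b)) (Bool.rec (motive := fun _ => ℕ) (j17_86) (j17_87) (Nat.ble 87 b)) (Nat.ble 86 b)) (Nat.ble 84 b)) (Bool.rec (motive := fun _ => ℕ) (Bool.rec (motive := fun _ =>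 ℕ) (Bool.rec (motive := fun _ => ℕ) (j17_88) (j17_89) (Nat.ble 89 b)) (Bool.rec (motive := fun _ => ℕ) (j17_90) (j17_91) (Nat.ble 91 b)) (Nat.ble 90 b)) (Bool.rec (motive := fun _ => ℕ) (Bool.rec (motive := fun _ => ℕ) (j17_92) (j17_93) (Nat.ble 93 b)) (Bool.rec (motive := fun _ => ℕ) (j17_94) (j17_95) (Nat.ble 95 b)) (Nat.ble 94 b)) (Nat.ble 92 b)) (Nat.ble 88 b)) (Nat.ble 80 b)) (Bool.rec (motive := fun _ => ℕ) (Bool.rec (motive := fun _ => ℕ) (Bool.rec (motive := fun _ => ℕ) (Bool.rec (motive := fun _ => ℕ) (Bool.rec (motive := fun _ => ℕ) (j17_96) (j17_97) (Nat.ble 97 b)) (Bool.rec (motive := fun _ => ℕ) (j17_98) (j17_99) (Nat.ble 99 b)) (Nat.ble 98 b)) (Bool.rec (motive := fun _ => ℕ) (Bool.rec (motive := fun _ => ℕ) (j17_100) (j17_101) (Nat.ble 101 b)) (Bool.rec (motive := fun _ => ℕ) (j17_102) (j17_103) (Nat.ble 103 b)) (Nat.ble 102 b)) (Nat.ble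 100 b)) (Bool.rec (motive := fun _ => ℕ) (Bool.rec (motive := fun _ => ℕ) (Bool.rec (motive := fun _ => ℕ) (j17_104) (j17_105) (Nat.ble 105 b)) (Bool.rec (motive := fun _ => ℕ) (j17_106) (j17_107) (Nat.ble 107 b)) (Nat.ble 106 b)) (Bool.rec (motive := fun _ => ℕ) (Bool.rec (motive := fun _ => ℕ) (j17_108) (j17_109) (Nat.ble 109 b)) (Bool.rec (motive := fun _ => ℕ) (j17_110) (j17_111) (Nat.ble 111 b)) (Nat.ble 110 b)) (Nat.ble 108 b)) (Nat.ble 104 b)) (Bool.rec (motive := fun _ => ℕ) (Bool.rec (motive := fun _ => ℕ) (Bool.rec (motive := fun _ => ℕ) (Bool.rec (motive := fun _ => ℕ) (j17_112) (j17_113) (Nat.ble 113 b)) (Bool.rec (motive := fun _ => ℕ) (j17_114) (j17_115) (Nat.ble 115 b)) (Nat.ble 114 b)) (Bool.rec (motive := fun _ => ℕ) (Bool.rec (motive := fun _ => ℕ) (j17_116) (j17_117) (Nat.ble 117 b)) (Bool.rec (motive := fun _ => ℕ) (j17_118) (j17_119)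 (Nat.ble 119 b)) (Nat.ble 118 b)) (Nat.ble 116 b)) (Bool.rec (motive := fun _ => ℕ) (Bool.rec (motive := fun _ => ℕ) (Bool.rec (motive := fun _ => ℕ) (j17_120) (j17_121) (Nat.ble 121 b)) (Bool.rec (motive := fun _ => ℕ) (j17_122) (j17_123) (Nat.ble 123 b)) (Nat.ble 122 b)) (Bool.rec (motive := fun _ => ℕ) (Bool.rec (motive := fun _ => ℕ) (j17_124) (j17_125) (Nat.ble 125 b)) (Bool.rec (motive := fun _ => ℕ) (j17_126) (j17_127) (Nat.ble 127 b)) (Nat.ble 126 b)) (Nat.ble 124 b)) (Nat.ble 120 b)) (Nat.ble 112 b)) (Nat.ble 96 b)) (Nat.ble 64 b)) (Bool.rec (motive := fun _ => ℕ) (Bool.rec (motive := fun _ => ℕ) (Bool.rec (motive := fun _ => ℕ) (Bool.rec (motive := fun _ => ℕ) (Bool.rec (motive := fun _ => ℕ) (Bool.rec (motive := fun _ => ℕ) (Bool.rec (motive := fun _ => ℕ) (j17_128) (j17_129) (Nat.ble 129 b)) (Bool.rec (motive := fun _ => ℕ) (j17_130) (j17_131)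 (Nat.ble 131 b)) (Nat.ble 130 b)) (Bool.rec (motive := fun _ => ℕ) (Bool.rec (motive := fun _ => ℕ) (j17_132) (j17_133) (Nat.ble 133 b)) (Bool.rec (motive := fun _ => ℕ) (j17_134) (j17_135) (Nat.ble 135 b)) (Nat.ble 134 b)) (Nat.ble 132 b)) (Bool.rec (motive := fun _ => ℕ) (Bool.rec (motive := fun _ => ℕ) (Bool.rec (motive := fun _ => ℕ) (j17_136) (j17_137) (Nat.ble 137 b)) (Bool.rec (motive := fun _ => ℕ) (j17_138) (j17_139) (Nat.ble 139 b)) (Nat.ble 138 b)) (Bool.rec (motive := fun _ => ℕ) (Bool.rec (motive := fun _ => ℕ) (j17_140) (j17_141) (Nat.ble 141 b)) (Bool.rec (motive := fun _ => ℕ) (j17_142) (j17_143) (Nat.ble 143 b)) (Nat.ble 142 b)) (Nat.ble 140 b)) (Nat.ble 136 b)) (Bool.rec (motive := fun _ => ℕ) (Bool.rec (motive := fun _ => ℕ) (Bool.rec (motive := fun _ => ℕ) (Bool.rec (motive := fun _ => ℕ) (j17_144) (j17_145) (Nat.ble 145 b)) (Bool.rec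 (motive := fun _ => ℕ) (j17_146) (j17_147) (Nat.ble 147 b)) (Nat.ble 146 b)) (Bool.rec (motive := fun _ => ℕ) (Bool.rec (motive := fun _ => ℕ) (j17_148) (j17_149) (Nat.ble 149 b)) (Bool.rec (motive := fun _ => ℕ) (j17_150) (j17_151) (Nat.ble 151 b)) (Nat.ble 150 b)) (Nat.ble 148 b)) (Bool.rec (motive := fun _ => ℕ) (Bool.rec (motive := fun _ => ℕ) (Bool.rec (motive := fun _ => ℕ) (j17_152) (j17_153) (Nat.ble 153 b)) (Bool.rec (motive := fun _ => ℕ) (j17_154) (j17_155) (Nat.ble 155 b)) (Nat.ble 154 b)) (Bool.rec (motive := fun _ => ℕ) (Bool.rec (motive := fun _ => ℕ) (j17_156) (j17_157) (Nat.ble 157 b)) (Bool.rec (motive := fun _ => ℕ) (j17_158) (j17_159) (Nat.ble 159 b)) (Nat.ble 158 b)) (Nat.ble 156 b)) (Nat.ble 152 b)) (Nat.ble 144 b)) (Bool.rec (motive := fun _ => ℕ) (Bool.rec (motive := fun _ => ℕ) (Bool.rec (motive := fun _ => ℕ) (Bool.rec (motive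 := fun _ => ℕ) (Bool.rec (motive := fun _ => ℕ) (j17_160) (j17_161) (Nat.ble 161 b)) (Bool.rec (motive := fun _ => ℕ) (j17_162) (j17_163) (Nat.ble 163 b)) (Nat.ble 162 b)) (Bool.rec (motive := fun _ => ℕ) (Bool.rec (motive := fun _ => ℕ) (j17_164) (j17_165) (Nat.ble 165 b)) (Bool.rec (motive := fun _ => ℕ) (j17_166) (j17_167) (Nat.ble 167 b)) (Nat.ble 166 b)) (Nat.ble 164 b)) (0) (Nat.ble 168 b)) (0) (Nat.ble 176 b)) (Nat.ble 160 b)) (0) (Nat.ble 192 b)) (Nat.ble 128 b))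
noncomputable def ecol18 (b : ℕ) : ℕ := (Bool.rec (motive := fun _ => ℕ) (Bool.rec (motive := fun _ => ℕ) (Bool.rec (motive := fun _ => ℕ) (Bool.rec (motive := fun _ => ℕ) (Bool.rec (motive := fun _ => ℕ) (Bool.rec (motive := fun _ => ℕ) (Bool.rec (motive := fun _ => ℕ) (Bool.rec (motive := fun _ => ℕ) (e18_0) (e18_1) (Nat.ble 1 b)) (Bool.rec (motive := fun _ => ℕ) (e18_2) (e18_3) (Nat.ble 3 b)) (Nat.ble 2 b)) (Bool.rec (motive := fun _ => ℕ) (Bool.rec (motive := fun _ => ℕ) (e18_4) (e18_5) (Nat.ble 5 b)) (Bool.rec (motive := fun _ => ℕ) (e18_6) (e18_7) (Nat.ble 7 b)) (Nat.ble 6 b)) (Nat.ble 4 b)) (Bool.rec (motive := fun _ => ℕ) (Bool.rec (motive := fun _ => ℕ) (Bool.rec (motive := fun _ => ℕ) (e18_8) (e18_9) (Nat.ble 9 b)) (Bool.rec (motive := fun _ => ℕ) (e18_10) (e18_11) (Nat.ble 11 b)) (Nat.ble 10 b)) (Bool.rec (motive := fun _ => ℕ) (Bool.rec (motive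 := fun _ => ℕ) (e18_12) (e18_13) (Nat.ble 13 b)) (Bool.rec (motive := fun _ => ℕ) (e18_14) (e18_15) (Nat.ble 15 b)) (Nat.ble 14 b)) (Nat.ble 12 b)) (Nat.ble 8 b)) (Bool.rec (motive := fun _ => ℕ) (Bool.rec (motive := fun _ => ℕ) (Bool.rec (motive := fun _ => ℕ) (Bool.rec (motive := fun _ => ℕ) (e18_16) (e18_17) (Nat.ble 17 b)) (Bool.rec (motive := fun _ => ℕ) (e18_18) (e18_19) (Nat.ble 19 b)) (Nat.ble 18 b)) (Bool.rec (motive := fun _ => ℕ) (Bool.rec (motive := fun _ => ℕ) (e18_20) (e18_21) (Nat.ble 21 b)) (Bool.rec (motive := fun _ => ℕ) (e18_22) (e18_23) (Nat.ble 23 b)) (Nat.ble 22 b)) (Nat.ble 20 b)) (Bool.rec (motive := fun _ => ℕ) (Bool.rec (motive := fun _ => ℕ) (Bool.rec (motive := fun _ => ℕ) (e18_24) (e18_25) (Nat.ble 25 b)) (Bool.rec (motive := fun _ => ℕ) (e18_26) (e18_27) (Nat.ble 27 b)) (Nat.ble 26 b)) (Bool.rec (motive := fun _ => ℕ) (Bool.rec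 (motive := fun _ => ℕ) (e18_28) (e18_29) (Nat.ble 29 b)) (Bool.rec (motive := fun _ => ℕ) (e18_30) (e18_31) (Nat.ble 31 b)) (Nat.ble 30 b)) (Nat.ble 28 b)) (Nat.ble 24 b)) (Nat.ble 16 b)) (Bool.rec (motive := fun _ => ℕ) (Bool.rec (motive := fun _ => ℕ) (Bool.rec (motive := fun _ => ℕ) (Bool.rec (motive := fun _ => ℕ) (Bool.rec (motive := fun _ => ℕ) (e18_32) (e18_33) (Nat.ble 33 b)) (Bool.rec (motive := fun _ => ℕ) (e18_34) (e18_35) (Nat.ble 35 b)) (Nat.ble 34 b)) (Bool.rec (motive := fun _ => ℕ) (Bool.rec (motive := fun _ => ℕ) (e18_36) (e18_37) (Nat.ble 37 b)) (Bool.rec (motive := fun _ => ℕ) (e18_38) (e18_39) (Nat.ble 39 b)) (Nat.ble 38 b)) (Nat.ble 36 b)) (Bool.rec (motive := fun _ => ℕ) (Bool.rec (motive := fun _ => ℕ) (Bool.rec (motive := fun _ => ℕ) (e18_40) (e18_41) (Nat.ble 41 b)) (Bool.rec (motive := fun _ => ℕ) (e18_42) (e18_43) (Nat.ble 43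 b)) (Nat.ble 42 b)) (Bool.rec (motive := fun _ => ℕ) (Bool.rec (motive := fun _ => ℕ) (e18_44) (e18_45) (Nat.ble 45 b)) (Bool.rec (motive := fun _ => ℕ) (e18_46) (e18_47) (Nat.ble 47 b)) (Nat.ble 46 b)) (Nat.ble 44 b)) (Nat.ble 40 b)) (Bool.rec (motive := fun _ => ℕ) (Bool.rec (motive := fun _ => ℕ) (Bool.rec (motive := fun _ => ℕ) (Bool.rec (motive := fun _ => ℕ) (e18_48) (e18_49) (Nat.ble 49 b)) (Bool.rec (motive := fun _ => ℕ) (e18_50) (e18_51) (Nat.ble 51 b)) (Nat.ble 50 b)) (Bool.rec (motive := fun _ => ℕ) (Bool.rec (motive := fun _ => ℕ) (e18_52) (e18_53) (Nat.ble 53 b)) (Bool.rec (motive := fun _ => ℕ) (e18_54) (e18_55) (Nat.ble 55 b)) (Nat.ble 54 b)) (Nat.ble 52 b)) (Bool.rec (motive := fun _ => ℕ) (Bool.rec (motive := fun _ => ℕ) (Bool.rec (motive := fun _ => ℕ) (e18_56) (e18_57) (Nat.ble 57 b)) (Bool.rec (motive := fun _ => ℕ) (e18_58) (e18_59)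 (Nat.ble 59 b)) (Nat.ble 58 b)) (Bool.rec (motive := fun _ => ℕ) (Bool.rec (motive := fun _ => ℕ) (e18_60) (e18_61) (Nat.ble 61 b)) (Bool.rec (motive := fun _ => ℕ) (e18_62) (e18_63) (Nat.ble 63 b)) (Nat.ble 62 b)) (Nat.ble 60 b)) (Nat.ble 56 b)) (Nat.ble 48 b)) (Nat.ble 32 b)) (Bool.rec (motive := fun _ => ℕ) (Bool.rec (motive := fun _ => ℕ) (Bool.rec (motive := fun _ => ℕ) (Bool.rec (motive := fun _ => ℕ) (Bool.rec (motive := fun _ => ℕ) (Bool.rec (motive := fun _ => ℕ) (e18_64) (e18_65) (Nat.ble 65 b)) (Bool.rec (motive := fun _ => ℕ) (e18_66) (e18_67) (Nat.ble 67 b)) (Nat.ble 66 b)) (Bool.rec (motive := fun _ => ℕ) (Bool.rec (motive := fun _ => ℕ) (e18_68) (e18_69) (Nat.ble 69 b)) (Bool.rec (motive := fun _ => ℕ) (e18_70) (e18_71) (Nat.ble 71 b)) (Nat.ble 70 b)) (Nat.ble 68 b)) (Bool.rec (motive := fun _ => ℕ) (Bool.rec (motive := fun _ => ℕ) (Bool.rec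 (motive := fun _ => ℕ) (e18_72) (e18_73) (Nat.ble 73 b)) (Bool.rec (motive := fun _ => ℕ) (e18_74) (e18_75) (Nat.ble 75 b)) (Nat.ble 74 b)) (Bool.rec (motive := fun _ => ℕ) (Bool.rec (motive := fun _ => ℕ) (e18_76) (e18_77) (Nat.ble 77 b)) (Bool.rec (motive := fun _ => ℕ) (e18_78) (e18_79) (Nat.ble 79 b)) (Nat.ble 78 b)) (Nat.ble 76 b)) (Nat.ble 72 b)) (Bool.rec (motive := fun _ => ℕ) (Bool.rec (motive := fun _ => ℕ) (Bool.rec (motive := fun _ => ℕ) (Bool.rec (motive := fun _ => ℕ) (e18_80) (e18_81) (Nat.ble 81 b)) (Bool.rec (motive := fun _ => ℕ) (e18_82) (e18_83) (Nat.ble 83 b)) (Nat.ble 82 b)) (Bool.rec (motive := fun _ => ℕ) (Bool.rec (motive := fun _ => ℕ) (e18_84) (e18_85) (Nat.ble 85 b)) (Bool.rec (motive := fun _ => ℕ) (e18_86) (e18_87) (Nat.ble 87 b)) (Nat.ble 86 b)) (Nat.ble 84 b)) (Bool.rec (motive := fun _ => ℕ) (Bool.rec (motive := fun _ =>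 ℕ) (Bool.rec (motive := fun _ => ℕ) (e18_88) (e18_89) (Nat.ble 89 b)) (Bool.rec (motive := fun _ => ℕ) (e18_90) (e18_91) (Nat.ble 91 b)) (Nat.ble 90 b)) (Bool.rec (motive := fun _ => ℕ) (Bool.rec (motive := fun _ => ℕ) (e18_92) (e18_93) (Nat.ble 93 b)) (Bool.rec (motive := fun _ => ℕ) (e18_94) (e18_95) (Nat.ble 95 b)) (Nat.ble 94 b)) (Nat.ble 92 b)) (Nat.ble 88 b)) (Nat.ble 80 b)) (Bool.rec (motive := fun _ => ℕ) (Bool.rec (motive := fun _ => ℕ) (Bool.rec (motive := fun _ => ℕ) (Bool.rec (motive := fun _ => ℕ) (Bool.rec (motive := fun _ => ℕ) (e18_96) (e18_97) (Nat.ble 97 b)) (Bool.rec (motive := fun _ => ℕ) (e18_98) (e18_99) (Nat.ble 99 b)) (Nat.ble 98 b)) (Bool.rec (motive := fun _ => ℕ) (Bool.rec (motive := fun _ => ℕ) (e18_100) (e18_101) (Nat.ble 101 b)) (Bool.rec (motive := fun _ => ℕ) (e18_102) (e18_103) (Nat.ble 103 b)) (Nat.ble 102 b)) (Nat.ble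 100 b)) (Bool.rec (motive := fun _ => ℕ) (Bool.rec (motive := fun _ => ℕ) (Bool.rec (motive := fun _ => ℕ) (e18_104) (e18_105) (Nat.ble 105 b)) (Bool.rec (motive := fun _ => ℕ) (e18_106) (e18_107) (Nat.ble 107 b)) (Nat.ble 106 b)) (Bool.rec (motive := fun _ => ℕ) (Bool.rec (motive := fun _ => ℕ) (e18_108) (e18_109) (Nat.ble 109 b)) (Bool.rec (motive := fun _ => ℕ) (e18_110) (e18_111) (Nat.ble 111 b)) (Nat.ble 110 b)) (Nat.ble 108 b)) (Nat.ble 104 b)) (Bool.rec (motive := fun _ => ℕ) (Bool.rec (motive := fun _ => ℕ) (Bool.rec (motive := fun _ => ℕ) (Bool.rec (motive := fun _ => ℕ) (e18_112) (e18_113) (Nat.ble 113 b)) (Bool.rec (motive := fun _ => ℕ) (e18_114) (e18_115) (Nat.ble 115 b)) (Nat.ble 114 b)) (Bool.rec (motive := fun _ => ℕ) (Bool.rec (motive := fun _ => ℕ) (e18_116) (e18_117) (Nat.ble 117 b)) (Bool.rec (motive := fun _ => ℕ) (e18_118) (e18_119)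 (Nat.ble 119 b)) (Nat.ble 118 b)) (Nat.ble 116 b)) (Bool.rec (motive := fun _ => ℕ) (Bool.rec (motive := fun _ => ℕ) (Bool.rec (motive := fun _ => ℕ) (e18_120) (e18_121) (Nat.ble 121 b)) (Bool.rec (motive := fun _ => ℕ) (e18_122) (e18_123) (Nat.ble 123 b)) (Nat.ble 122 b)) (Bool.rec (motive := fun _ => ℕ) (Bool.rec (motive := fun _ => ℕ) (e18_124) (e18_125) (Nat.ble 125 b)) (Bool.rec (motive := fun _ => ℕ) (e18_126) (e18_127) (Nat.ble 127 b)) (Nat.ble 126 b)) (Nat.ble 124 b)) (Nat.ble 120 b)) (Nat.ble 112 b)) (Nat.ble 96 b)) (Nat.ble 64 b)) (Bool.rec (motive := fun _ => ℕ) (Bool.rec (motive := fun _ => ℕ) (Bool.rec (motive := fun _ => ℕ) (Bool.rec (motive := fun _ => ℕ) (Bool.rec (motive := fun _ => ℕ) (Bool.rec (motive := fun _ => ℕ) (Bool.rec (motive := fun _ => ℕ) (e18_128) (e18_129) (Nat.ble 129 b)) (Bool.rec (motive := fun _ => ℕ) (e18_130) (e18_131)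 (Nat.ble 131 b)) (Nat.ble 130 b)) (Bool.rec (motive := fun _ => ℕ) (Bool.rec (motive := fun _ => ℕ) (e18_132) (e18_133) (Nat.ble 133 b)) (Bool.rec (motive := fun _ => ℕ) (e18_134) (e18_135) (Nat.ble 135 b)) (Nat.ble 134 b)) (Nat.ble 132 b)) (Bool.rec (motive := fun _ => ℕ) (Bool.rec (motive := fun _ => ℕ) (Bool.rec (motive := fun _ => ℕ) (e18_136) (e18_137) (Nat.ble 137 b)) (Bool.rec (motive := fun _ => ℕ) (e18_138) (e18_139) (Nat.ble 139 b)) (Nat.ble 138 b)) (Bool.rec (motive := fun _ => ℕ) (Bool.rec (motive := fun _ => ℕ) (e18_140) (e18_141) (Nat.ble 141 b)) (Bool.rec (motive := fun _ => ℕ) (e18_142) (e18_143) (Nat.ble 143 b)) (Nat.ble 142 b)) (Nat.ble 140 b)) (Nat.ble 136 b)) (Bool.rec (motive := fun _ => ℕ) (Bool.rec (motive := fun _ => ℕ) (Bool.rec (motive := fun _ => ℕ) (Bool.rec (motive := fun _ => ℕ) (e18_144) (e18_145) (Nat.ble 145 b)) (Bool.rec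 (motive := fun _ => ℕ) (e18_146) (e18_147) (Nat.ble 147 b)) (Nat.ble 146 b)) (Bool.rec (motive := fun _ => ℕ) (Bool.rec (motive := fun _ => ℕ) (e18_148) (e18_149) (Nat.ble 149 b)) (Bool.rec (motive := fun _ => ℕ) (e18_150) (e18_151) (Nat.ble 151 b)) (Nat.ble 150 b)) (Nat.ble 148 b)) (Bool.rec (motive := fun _ => ℕ) (Bool.rec (motive := fun _ => ℕ) (Bool.rec (motive := fun _ => ℕ) (e18_152) (e18_153) (Nat.ble 153 b)) (Bool.rec (motive := fun _ => ℕ) (e18_154) (e18_155) (Nat.ble 155 b)) (Nat.ble 154 b)) (Bool.rec (motive := fun _ => ℕ) (Bool.rec (motive := fun _ => ℕ) (e18_156) (e18_157) (Nat.ble 157 b)) (Bool.rec (motive := fun _ => ℕ) (e18_158) (e18_159) (Nat.ble 159 b)) (Nat.ble 158 b)) (Nat.ble 156 b)) (Nat.ble 152 b)) (Nat.ble 144 b)) (Bool.rec (motive := fun _ => ℕ) (Bool.rec (motive := fun _ => ℕ) (Bool.rec (motive := fun _ => ℕ) (Bool.rec (motive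 := fun _ => ℕ) (Bool.rec (motive := fun _ => ℕ) (e18_160) (e18_161) (Nat.ble 161 b)) (Bool.rec (motive := fun _ => ℕ) (e18_162) (e18_163) (Nat.ble 163 b)) (Nat.ble 162 b)) (Bool.rec (motive := fun _ => ℕ) (Bool.rec (motive := fun _ => ℕ) (e18_164) (e18_165) (Nat.ble 165 b)) (Bool.rec (motive := fun _ => ℕ) (e18_166) (e18_167) (Nat.ble 167 b)) (Nat.ble 166 b)) (Nat.ble 164 b)) (0) (Nat.ble 168 b)) (0) (Nat.ble 176 b)) (Nat.ble 160 b)) (0) (Nat.ble 192 b)) (Nat.ble 128 b))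
noncomputable def jcol18 (b : ℕ) : ℕ := (Bool.rec (motive := fun _ => ℕ) (Bool.rec (motive := fun _ => ℕ) (Bool.rec (motive := fun _ => ℕ) (Bool.rec (motive := fun _ => ℕ) (Bool.rec (motive := fun _ => ℕ) (Bool.rec (motive := fun _ => ℕ) (Bool.rec (motive := fun _ => ℕ) (Bool.rec (motive := fun _ => ℕ) (j18_0) (j18_1) (Nat.ble 1 b)) (Bool.rec (motive := fun _ => ℕ) (j18_2) (j18_3) (Nat.ble 3 b)) (Nat.ble 2 b)) (Bool.rec (motive := fun _ => ℕ) (Bool.rec (motive := fun _ => ℕ) (j18_4) (j18_5) (Nat.ble 5 b)) (Bool.rec (motive := fun _ => ℕ) (j18_6) (j18_7) (Nat.ble 7 b)) (Nat.ble 6 b)) (Nat.ble 4 b)) (Bool.rec (motive := fun _ => ℕ) (Bool.rec (motive := fun _ => ℕ) (Bool.rec (motive := fun _ => ℕ) (j18_8) (j18_9) (Nat.ble 9 b)) (Bool.rec (motive := fun _ => ℕ) (j18_10) (j18_11) (Nat.ble 11 b)) (Nat.ble 10 b)) (Bool.rec (motive := fun _ => ℕ) (Bool.rec (motive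 := fun _ => ℕ) (j18_12) (j18_13) (Nat.ble 13 b)) (Bool.rec (motive := fun _ => ℕ) (j18_14) (j18_15) (Nat.ble 15 b)) (Nat.ble 14 b)) (Nat.ble 12 b)) (Nat.ble 8 b)) (Bool.rec (motive := fun _ => ℕ) (Bool.rec (motive := fun _ => ℕ) (Bool.rec (motive := fun _ => ℕ) (Bool.rec (motive := fun _ => ℕ) (j18_16) (j18_17) (Nat.ble 17 b)) (Bool.rec (motive := fun _ => ℕ) (j18_18) (j18_19) (Nat.ble 19 b)) (Nat.ble 18 b)) (Bool.rec (motive := fun _ => ℕ) (Bool.rec (motive := fun _ => ℕ) (j18_20) (j18_21) (Nat.ble 21 b)) (Bool.rec (motive := fun _ => ℕ) (j18_22) (j18_23) (Nat.ble 23 b)) (Nat.ble 22 b)) (Nat.ble 20 b)) (Bool.rec (motive := fun _ => ℕ) (Bool.rec (motive := fun _ => ℕ) (Bool.rec (motive := fun _ => ℕ) (j18_24) (j18_25) (Nat.ble 25 b)) (Bool.rec (motive := fun _ => ℕ) (j18_26) (j18_27) (Nat.ble 27 b)) (Nat.ble 26 b)) (Bool.rec (motive := fun _ => ℕ) (Bool.rec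 (motive := fun _ => ℕ) (j18_28) (j18_29) (Nat.ble 29 b)) (Bool.rec (motive := fun _ => ℕ) (j18_30) (j18_31) (Nat.ble 31 b)) (Nat.ble 30 b)) (Nat.ble 28 b)) (Nat.ble 24 b)) (Nat.ble 16 b)) (Bool.rec (motive := fun _ => ℕ) (Bool.rec (motive := fun _ => ℕ) (Bool.rec (motive := fun _ => ℕ) (Bool.rec (motive := fun _ => ℕ) (Bool.rec (motive := fun _ => ℕ) (j18_32) (j18_33) (Nat.ble 33 b)) (Bool.rec (motive := fun _ => ℕ) (j18_34) (j18_35) (Nat.ble 35 b)) (Nat.ble 34 b)) (Bool.rec (motive := fun _ => ℕ) (Bool.rec (motive := fun _ => ℕ) (j18_36) (j18_37) (Nat.ble 37 b)) (Bool.rec (motive := fun _ => ℕ) (j18_38) (j18_39) (Nat.ble 39 b)) (Nat.ble 38 b)) (Nat.ble 36 b)) (Bool.rec (motive := fun _ => ℕ) (Bool.rec (motive := fun _ => ℕ) (Bool.rec (motive := fun _ => ℕ) (j18_40) (j18_41) (Nat.ble 41 b)) (Bool.rec (motive := fun _ => ℕ) (j18_42) (j18_43) (Nat.ble 43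 b)) (Nat.ble 42 b)) (Bool.rec (motive := fun _ => ℕ) (Bool.rec (motive := fun _ => ℕ) (j18_44) (j18_45) (Nat.ble 45 b)) (Bool.rec (motive := fun _ => ℕ) (j18_46) (j18_47) (Nat.ble 47 b)) (Nat.ble 46 b)) (Nat.ble 44 b)) (Nat.ble 40 b)) (Bool.rec (motive := fun _ => ℕ) (Bool.rec (motive := fun _ => ℕ) (Bool.rec (motive := fun _ => ℕ) (Bool.rec (motive := fun _ => ℕ) (j18_48) (j18_49) (Nat.ble 49 b)) (Bool.rec (motive := fun _ => ℕ) (j18_50) (j18_51) (Nat.ble 51 b)) (Nat.ble 50 b)) (Bool.rec (motive := fun _ => ℕ) (Bool.rec (motive := fun _ => ℕ) (j18_52) (j18_53) (Nat.ble 53 b)) (Bool.rec (motive := fun _ => ℕ) (j18_54) (j18_55) (Nat.ble 55 b)) (Nat.ble 54 b)) (Nat.ble 52 b)) (Bool.rec (motive := fun _ => ℕ) (Bool.rec (motive := fun _ => ℕ) (Bool.rec (motive := fun _ => ℕ) (j18_56) (j18_57) (Nat.ble 57 b)) (Bool.rec (motive := fun _ => ℕ) (j18_58) (j18_59)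 (Nat.ble 59 b)) (Nat.ble 58 b)) (Bool.rec (motive := fun _ => ℕ) (Bool.rec (motive := fun _ => ℕ) (j18_60) (j18_61) (Nat.ble 61 b)) (Bool.rec (motive := fun _ => ℕ) (j18_62) (j18_63) (Nat.ble 63 b)) (Nat.ble 62 b)) (Nat.ble 60 b)) (Nat.ble 56 b)) (Nat.ble 48 b)) (Nat.ble 32 b)) (Bool.rec (motive := fun _ => ℕ) (Bool.rec (motive := fun _ => ℕ) (Bool.rec (motive := fun _ => ℕ) (Bool.rec (motive := fun _ => ℕ) (Bool.rec (motive := fun _ => ℕ) (Bool.rec (motive := fun _ => ℕ) (j18_64) (j18_65) (Nat.ble 65 b)) (Bool.rec (motive := fun _ => ℕ) (j18_66) (j18_67) (Nat.ble 67 b)) (Nat.ble 66 b)) (Bool.rec (motive := fun _ => ℕ) (Bool.rec (motive := fun _ => ℕ) (j18_68) (j18_69) (Nat.ble 69 b)) (Bool.rec (motive := fun _ => ℕ) (j18_70) (j18_71) (Nat.ble 71 b)) (Nat.ble 70 b)) (Nat.ble 68 b)) (Bool.rec (motive := fun _ => ℕ) (Bool.rec (motive := fun _ => ℕ) (Bool.rec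 (motive := fun _ => ℕ) (j18_72) (j18_73) (Nat.ble 73 b)) (Bool.rec (motive := fun _ => ℕ) (j18_74) (j18_75) (Nat.ble 75 b)) (Nat.ble 74 b)) (Bool.rec (motive := fun _ => ℕ) (Bool.rec (motive := fun _ => ℕ) (j18_76) (j18_77) (Nat.ble 77 b)) (Bool.rec (motive := fun _ => ℕ) (j18_78) (j18_79) (Nat.ble 79 b)) (Nat.ble 78 b)) (Nat.ble 76 b)) (Nat.ble 72 b)) (Bool.rec (motive := fun _ => ℕ) (Bool.rec (motive := fun _ => ℕ) (Bool.rec (motive := fun _ => ℕ) (Bool.rec (motive := fun _ => ℕ) (j18_80) (j18_81) (Nat.ble 81 b)) (Bool.rec (motive := fun _ => ℕ) (j18_82) (j18_83) (Nat.ble 83 b)) (Nat.ble 82 b)) (Bool.rec (motive := fun _ => ℕ) (Bool.rec (motive := fun _ => ℕ) (j18_84) (j18_85) (Nat.ble 85 b)) (Bool.rec (motive := fun _ => ℕ) (j18_86) (j18_87) (Nat.ble 87 b)) (Nat.ble 86 b)) (Nat.ble 84 b)) (Bool.rec (motive := fun _ => ℕ) (Bool.rec (motive := fun _ =>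 ℕ) (Bool.rec (motive := fun _ => ℕ) (j18_88) (j18_89) (Nat.ble 89 b)) (Bool.rec (motive := fun _ => ℕ) (j18_90) (j18_91) (Nat.ble 91 b)) (Nat.ble 90 b)) (Bool.rec (motive := fun _ => ℕ) (Bool.rec (motive := fun _ => ℕ) (j18_92) (j18_93) (Nat.ble 93 b)) (Bool.rec (motive := fun _ => ℕ) (j18_94) (j18_95) (Nat.ble 95 b)) (Nat.ble 94 b)) (Nat.ble 92 b)) (Nat.ble 88 b)) (Nat.ble 80 b)) (Bool.rec (motive := fun _ => ℕ) (Bool.rec (motive := fun _ => ℕ) (Bool.rec (motive := fun _ => ℕ) (Bool.rec (motive := fun _ => ℕ) (Bool.rec (motive := fun _ => ℕ) (j18_96) (j18_97) (Nat.ble 97 b)) (Bool.rec (motive := fun _ => ℕ) (j18_98) (j18_99) (Nat.ble 99 b)) (Nat.ble 98 b)) (Bool.rec (motive := fun _ => ℕ) (Bool.rec (motive := fun _ => ℕ) (j18_100) (j18_101) (Nat.ble 101 b)) (Bool.rec (motive := fun _ => ℕ) (j18_102) (j18_103) (Nat.ble 103 b)) (Nat.ble 102 b)) (Nat.ble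 100 b)) (Bool.rec (motive := fun _ => ℕ) (Bool.rec (motive := fun _ => ℕ) (Bool.rec (motive := fun _ => ℕ) (j18_104) (j18_105) (Nat.ble 105 b)) (Bool.rec (motive := fun _ => ℕ) (j18_106) (j18_107) (Nat.ble 107 b)) (Nat.ble 106 b)) (Bool.rec (motive := fun _ => ℕ) (Bool.rec (motive := fun _ => ℕ) (j18_108) (j18_109) (Nat.ble 109 b)) (Bool.rec (motive := fun _ => ℕ) (j18_110) (j18_111) (Nat.ble 111 b)) (Nat.ble 110 b)) (Nat.ble 108 b)) (Nat.ble 104 b)) (Bool.rec (motive := fun _ => ℕ) (Bool.rec (motive := fun _ => ℕ) (Bool.rec (motive := fun _ => ℕ) (Bool.rec (motive := fun _ => ℕ) (j18_112) (j18_113) (Nat.ble 113 b)) (Bool.rec (motive := fun _ => ℕ) (j18_114) (j18_115) (Nat.ble 115 b)) (Nat.ble 114 b)) (Bool.rec (motive := fun _ => ℕ) (Bool.rec (motive := fun _ => ℕ) (j18_116) (j18_117) (Nat.ble 117 b)) (Bool.rec (motive := fun _ => ℕ) (j18_118) (j18_119)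 (Nat.ble 119 b)) (Nat.ble 118 b)) (Nat.ble 116 b)) (Bool.rec (motive := fun _ => ℕ) (Bool.rec (motive := fun _ => ℕ) (Bool.rec (motive := fun _ => ℕ) (j18_120) (j18_121) (Nat.ble 121 b)) (Bool.rec (motive := fun _ => ℕ) (j18_122) (j18_123) (Nat.ble 123 b)) (Nat.ble 122 b)) (Bool.rec (motive := fun _ => ℕ) (Bool.rec (motive := fun _ => ℕ) (j18_124) (j18_125) (Nat.ble 125 b)) (Bool.rec (motive := fun _ => ℕ) (j18_126) (j18_127) (Nat.ble 127 b)) (Nat.ble 126 b)) (Nat.ble 124 b)) (Nat.ble 120 b)) (Nat.ble 112 b)) (Nat.ble 96 b)) (Nat.ble 64 b)) (Bool.rec (motive := fun _ => ℕ) (Bool.rec (motive := fun _ => ℕ) (Bool.rec (motive := fun _ => ℕ) (Bool.rec (motive := fun _ => ℕ) (Bool.rec (motive := fun _ => ℕ) (Bool.rec (motive := fun _ => ℕ) (Bool.rec (motive := fun _ => ℕ) (j18_128) (j18_129) (Nat.ble 129 b)) (Bool.rec (motive := fun _ => ℕ) (j18_130) (j18_131)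 (Nat.ble 131 b)) (Nat.ble 130 b)) (Bool.rec (motive := fun _ => ℕ) (Bool.rec (motive := fun _ => ℕ) (j18_132) (j18_133) (Nat.ble 133 b)) (Bool.rec (motive := fun _ => ℕ) (j18_134) (j18_135) (Nat.ble 135 b)) (Nat.ble 134 b)) (Nat.ble 132 b)) (Bool.rec (motive := fun _ => ℕ) (Bool.rec (motive := fun _ => ℕ) (Bool.rec (motive := fun _ => ℕ) (j18_136) (j18_137) (Nat.ble 137 b)) (Bool.rec (motive := fun _ => ℕ) (j18_138) (j18_139) (Nat.ble 139 b)) (Nat.ble 138 b)) (Bool.rec (motive := fun _ => ℕ) (Bool.rec (motive := fun _ => ℕ) (j18_140) (j18_141) (Nat.ble 141 b)) (Bool.rec (motive := fun _ => ℕ) (j18_142) (j18_143) (Nat.ble 143 b)) (Nat.ble 142 b)) (Nat.ble 140 b)) (Nat.ble 136 b)) (Bool.rec (motive := fun _ => ℕ) (Bool.rec (motive := fun _ => ℕ) (Bool.rec (motive := fun _ => ℕ) (Bool.rec (motive := fun _ => ℕ) (j18_144) (j18_145) (Nat.ble 145 b)) (Bool.rec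 (motive := fun _ => ℕ) (j18_146) (j18_147) (Nat.ble 147 b)) (Nat.ble 146 b)) (Bool.rec (motive := fun _ => ℕ) (Bool.rec (motive := fun _ => ℕ) (j18_148) (j18_149) (Nat.ble 149 b)) (Bool.rec (motive := fun _ => ℕ) (j18_150) (j18_151) (Nat.ble 151 b)) (Nat.ble 150 b)) (Nat.ble 148 b)) (Bool.rec (motive := fun _ => ℕ) (Bool.rec (motive := fun _ => ℕ) (Bool.rec (motive := fun _ => ℕ) (j18_152) (j18_153) (Nat.ble 153 b)) (Bool.rec (motive := fun _ => ℕ) (j18_154) (j18_155) (Nat.ble 155 b)) (Nat.ble 154 b)) (Bool.rec (motive := fun _ => ℕ) (Bool.rec (motive := fun _ => ℕ) (j18_156) (j18_157) (Nat.ble 157 b)) (Bool.rec (motive := fun _ => ℕ) (j18_158) (j18_159) (Nat.ble 159 b)) (Nat.ble 158 b)) (Nat.ble 156 b)) (Nat.ble 152 b)) (Nat.ble 144 b)) (Bool.rec (motive := fun _ => ℕ) (Bool.rec (motive := fun _ => ℕ) (Bool.rec (motive := fun _ => ℕ) (Bool.rec (motive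 := fun _ => ℕ) (Bool.rec (motive := fun _ => ℕ) (j18_160) (j18_161) (Nat.ble 161 b)) (Bool.rec (motive := fun _ => ℕ) (j18_162) (j18_163) (Nat.ble 163 b)) (Nat.ble 162 b)) (Bool.rec (motive := fun _ => ℕ) (Bool.rec (motive := fun _ => ℕ) (j18_164) (j18_165) (Nat.ble 165 b)) (Bool.rec (motive := fun _ => ℕ) (j18_166) (j18_167) (Nat.ble 167 b)) (Nat.ble 166 b)) (Nat.ble 164 b)) (0) (Nat.ble 168 b)) (0) (Nat.ble 176 b)) (Nat.ble 160 b)) (0) (Nat.ble 192 b)) (Nat.ble 128 b))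
noncomputable def ecol19 (b : ℕ) : ℕ := (Bool.rec (motive := fun _ => ℕ) (Bool.rec (motive := fun _ => ℕ) (Bool.rec (motive := fun _ => ℕ) (Bool.rec (motive := fun _ => ℕ) (Bool.rec (motive := fun _ => ℕ) (Bool.rec (motive := fun _ => ℕ) (Bool.rec (motive := fun _ => ℕ) (Bool.rec (motive := fun _ => ℕ) (e19_0) (e19_1) (Nat.ble 1 b)) (Bool.rec (motive := fun _ => ℕ) (e19_2) (e19_3) (Nat.ble 3 b)) (Nat.ble 2 b)) (Bool.rec (motive := fun _ => ℕ) (Bool.rec (motive := fun _ => ℕ) (e19_4) (e19_5) (Nat.ble 5 b)) (Bool.rec (motive := fun _ => ℕ) (e19_6) (e19_7) (Nat.ble 7 b)) (Nat.ble 6 b)) (Nat.ble 4 b)) (Bool.rec (motive := fun _ => ℕ) (Bool.rec (motive := fun _ => ℕ) (Bool.rec (motive := fun _ => ℕ) (e19_8) (e19_9) (Nat.ble 9 b)) (Bool.rec (motive := fun _ => ℕ) (e19_10) (e19_11) (Nat.ble 11 b)) (Nat.ble 10 b)) (Bool.rec (motive := fun _ => ℕ) (Bool.rec (motive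 := fun _ => ℕ) (e19_12) (e19_13) (Nat.ble 13 b)) (Bool.rec (motive := fun _ => ℕ) (e19_14) (e19_15) (Nat.ble 15 b)) (Nat.ble 14 b)) (Nat.ble 12 b)) (Nat.ble 8 b)) (Bool.rec (motive := fun _ => ℕ) (Bool.rec (motive := fun _ => ℕ) (Bool.rec (motive := fun _ => ℕ) (Bool.rec (motive := fun _ => ℕ) (e19_16) (e19_17) (Nat.ble 17 b)) (Bool.rec (motive := fun _ => ℕ) (e19_18) (e19_19) (Nat.ble 19 b)) (Nat.ble 18 b)) (Bool.rec (motive := fun _ => ℕ) (Bool.rec (motive := fun _ => ℕ) (e19_20) (e19_21) (Nat.ble 21 b)) (Bool.rec (motive := fun _ => ℕ) (e19_22) (e19_23) (Nat.ble 23 b)) (Nat.ble 22 b)) (Nat.ble 20 b)) (Bool.rec (motive := fun _ => ℕ) (Bool.rec (motive := fun _ => ℕ) (Bool.rec (motive := fun _ => ℕ) (e19_24) (e19_25) (Nat.ble 25 b)) (Bool.rec (motive := fun _ => ℕ) (e19_26) (e19_27) (Nat.ble 27 b)) (Nat.ble 26 b)) (Bool.rec (motive := fun _ => ℕ) (Bool.rec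 (motive := fun _ => ℕ) (e19_28) (e19_29) (Nat.ble 29 b)) (Bool.rec (motive := fun _ => ℕ) (e19_30) (e19_31) (Nat.ble 31 b)) (Nat.ble 30 b)) (Nat.ble 28 b)) (Nat.ble 24 b)) (Nat.ble 16 b)) (Bool.rec (motive := fun _ => ℕ) (Bool.rec (motive := fun _ => ℕ) (Bool.rec (motive := fun _ => ℕ) (Bool.rec (motive := fun _ => ℕ) (Bool.rec (motive := fun _ => ℕ) (e19_32) (e19_33) (Nat.ble 33 b)) (Bool.rec (motive := fun _ => ℕ) (e19_34) (e19_35) (Nat.ble 35 b)) (Nat.ble 34 b)) (Bool.rec (motive := fun _ => ℕ) (Bool.rec (motive := fun _ => ℕ) (e19_36) (e19_37) (Nat.ble 37 b)) (Bool.rec (motive := fun _ => ℕ) (e19_38) (e19_39) (Nat.ble 39 b)) (Nat.ble 38 b)) (Nat.ble 36 b)) (Bool.rec (motive := fun _ => ℕ) (Bool.rec (motive := fun _ => ℕ) (Bool.rec (motive := fun _ => ℕ) (e19_40) (e19_41) (Nat.ble 41 b)) (Bool.rec (motive := fun _ => ℕ) (e19_42) (e19_43) (Nat.ble 43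 b)) (Nat.ble 42 b)) (Bool.rec (motive := fun _ => ℕ) (Bool.rec (motive := fun _ => ℕ) (e19_44) (e19_45) (Nat.ble 45 b)) (Bool.rec (motive := fun _ => ℕ) (e19_46) (e19_47) (Nat.ble 47 b)) (Nat.ble 46 b)) (Nat.ble 44 b)) (Nat.ble 40 b)) (Bool.rec (motive := fun _ => ℕ) (Bool.rec (motive := fun _ => ℕ) (Bool.rec (motive := fun _ => ℕ) (Bool.rec (motive := fun _ => ℕ) (e19_48) (e19_49) (Nat.ble 49 b)) (Bool.rec (motive := fun _ => ℕ) (e19_50) (e19_51) (Nat.ble 51 b)) (Nat.ble 50 b)) (Bool.rec (motive := fun _ => ℕ) (Bool.rec (motive := fun _ => ℕ) (e19_52) (e19_53) (Nat.ble 53 b)) (Bool.rec (motive := fun _ => ℕ) (e19_54) (e19_55) (Nat.ble 55 b)) (Nat.ble 54 b)) (Nat.ble 52 b)) (Bool.rec (motive := fun _ => ℕ) (Bool.rec (motive := fun _ => ℕ) (Bool.rec (motive := fun _ => ℕ) (e19_56) (e19_57) (Nat.ble 57 b)) (Bool.rec (motive := fun _ => ℕ) (e19_58) (e19_59)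 (Nat.ble 59 b)) (Nat.ble 58 b)) (Bool.rec (motive := fun _ => ℕ) (Bool.rec (motive := fun _ => ℕ) (e19_60) (e19_61) (Nat.ble 61 b)) (Bool.rec (motive := fun _ => ℕ) (e19_62) (e19_63) (Nat.ble 63 b)) (Nat.ble 62 b)) (Nat.ble 60 b)) (Nat.ble 56 b)) (Nat.ble 48 b)) (Nat.ble 32 b)) (Bool.rec (motive := fun _ => ℕ) (Bool.rec (motive := fun _ => ℕ) (Bool.rec (motive := fun _ => ℕ) (Bool.rec (motive := fun _ => ℕ) (Bool.rec (motive := fun _ => ℕ) (Bool.rec (motive := fun _ => ℕ) (e19_64) (e19_65) (Nat.ble 65 b)) (Bool.rec (motive := fun _ => ℕ) (e19_66) (e19_67) (Nat.ble 67 b)) (Nat.ble 66 b)) (Bool.rec (motive := fun _ => ℕ) (Bool.rec (motive := fun _ => ℕ) (e19_68) (e19_69) (Nat.ble 69 b)) (Bool.rec (motive := fun _ => ℕ) (e19_70) (e19_71) (Nat.ble 71 b)) (Nat.ble 70 b)) (Nat.ble 68 b)) (Bool.rec (motive := fun _ => ℕ) (Bool.rec (motive := fun _ => ℕ) (Bool.rec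 (motive := fun _ => ℕ) (e19_72) (e19_73) (Nat.ble 73 b)) (Bool.rec (motive := fun _ => ℕ) (e19_74) (e19_75) (Nat.ble 75 b)) (Nat.ble 74 b)) (Bool.rec (motive := fun _ => ℕ) (Bool.rec (motive := fun _ => ℕ) (e19_76) (e19_77) (Nat.ble 77 b)) (Bool.rec (motive := fun _ => ℕ) (e19_78) (e19_79) (Nat.ble 79 b)) (Nat.ble 78 b)) (Nat.ble 76 b)) (Nat.ble 72 b)) (Bool.rec (motive := fun _ => ℕ) (Bool.rec (motive := fun _ => ℕ) (Bool.rec (motive := fun _ => ℕ) (Bool.rec (motive := fun _ => ℕ) (e19_80) (e19_81) (Nat.ble 81 b)) (Bool.rec (motive := fun _ => ℕ) (e19_82) (e19_83) (Nat.ble 83 b)) (Nat.ble 82 b)) (Bool.rec (motive := fun _ => ℕ) (Bool.rec (motive := fun _ => ℕ) (e19_84) (e19_85) (Nat.ble 85 b)) (Bool.rec (motive := fun _ => ℕ) (e19_86) (e19_87) (Nat.ble 87 b)) (Nat.ble 86 b)) (Nat.ble 84 b)) (Bool.rec (motive := fun _ => ℕ) (Bool.rec (motive := fun _ =>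 ℕ) (Bool.rec (motive := fun _ => ℕ) (e19_88) (e19_89) (Nat.ble 89 b)) (Bool.rec (motive := fun _ => ℕ) (e19_90) (e19_91) (Nat.ble 91 b)) (Nat.ble 90 b)) (Bool.rec (motive := fun _ => ℕ) (Bool.rec (motive := fun _ => ℕ) (e19_92) (e19_93) (Nat.ble 93 b)) (Bool.rec (motive := fun _ => ℕ) (e19_94) (e19_95) (Nat.ble 95 b)) (Nat.ble 94 b)) (Nat.ble 92 b)) (Nat.ble 88 b)) (Nat.ble 80 b)) (Bool.rec (motive := fun _ => ℕ) (Bool.rec (motive := fun _ => ℕ) (Bool.rec (motive := fun _ => ℕ) (Bool.rec (motive := fun _ => ℕ) (Bool.rec (motive := fun _ => ℕ) (e19_96) (e19_97) (Nat.ble 97 b)) (Bool.rec (motive := fun _ => ℕ) (e19_98) (e19_99) (Nat.ble 99 b)) (Nat.ble 98 b)) (Bool.rec (motive := fun _ => ℕ) (Bool.rec (motive := fun _ => ℕ) (e19_100) (e19_101) (Nat.ble 101 b)) (Bool.rec (motive := fun _ => ℕ) (e19_102) (e19_103) (Nat.ble 103 b)) (Nat.ble 102 b)) (Nat.ble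 100 b)) (Bool.rec (motive := fun _ => ℕ) (Bool.rec (motive := fun _ => ℕ) (Bool.rec (motive := fun _ => ℕ) (e19_104) (e19_105) (Nat.ble 105 b)) (Bool.rec (motive := fun _ => ℕ) (e19_106) (e19_107) (Nat.ble 107 b)) (Nat.ble 106 b)) (Bool.rec (motive := fun _ => ℕ) (Bool.rec (motive := fun _ => ℕ) (e19_108) (e19_109) (Nat.ble 109 b)) (Bool.rec (motive := fun _ => ℕ) (e19_110) (e19_111) (Nat.ble 111 b)) (Nat.ble 110 b)) (Nat.ble 108 b)) (Nat.ble 104 b)) (Bool.rec (motive := fun _ => ℕ) (Bool.rec (motive := fun _ => ℕ) (Bool.rec (motive := fun _ => ℕ) (Bool.rec (motive := fun _ => ℕ) (e19_112) (e19_113) (Nat.ble 113 b)) (Bool.rec (motive := fun _ => ℕ) (e19_114) (e19_115) (Nat.ble 115 b)) (Nat.ble 114 b)) (Bool.rec (motive := fun _ => ℕ) (Bool.rec (motive := fun _ => ℕ) (e19_116) (e19_117) (Nat.ble 117 b)) (Bool.rec (motive := fun _ => ℕ) (e19_118) (e19_119)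 (Nat.ble 119 b)) (Nat.ble 118 b)) (Nat.ble 116 b)) (Bool.rec (motive := fun _ => ℕ) (Bool.rec (motive := fun _ => ℕ) (Bool.rec (motive := fun _ => ℕ) (e19_120) (e19_121) (Nat.ble 121 b)) (Bool.rec (motive := fun _ => ℕ) (e19_122) (e19_123) (Nat.ble 123 b)) (Nat.ble 122 b)) (Bool.rec (motive := fun _ => ℕ) (Bool.rec (motive := fun _ => ℕ) (e19_124) (e19_125) (Nat.ble 125 b)) (Bool.rec (motive := fun _ => ℕ) (e19_126) (e19_127) (Nat.ble 127 b)) (Nat.ble 126 b)) (Nat.ble 124 b)) (Nat.ble 120 b)) (Nat.ble 112 b)) (Nat.ble 96 b)) (Nat.ble 64 b)) (Bool.rec (motive := fun _ => ℕ) (Bool.rec (motive := fun _ => ℕ) (Bool.rec (motive := fun _ => ℕ) (Bool.rec (motive := fun _ => ℕ) (Bool.rec (motive := fun _ => ℕ) (Bool.rec (motive := fun _ => ℕ) (Bool.rec (motive := fun _ => ℕ) (e19_128) (e19_129) (Nat.ble 129 b)) (Bool.rec (motive := fun _ => ℕ) (e19_130) (e19_131)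 (Nat.ble 131 b)) (Nat.ble 130 b)) (Bool.rec (motive := fun _ => ℕ) (Bool.rec (motive := fun _ => ℕ) (e19_132) (e19_133) (Nat.ble 133 b)) (Bool.rec (motive := fun _ => ℕ) (e19_134) (e19_135) (Nat.ble 135 b)) (Nat.ble 134 b)) (Nat.ble 132 b)) (Bool.rec (motive := fun _ => ℕ) (Bool.rec (motive := fun _ => ℕ) (Bool.rec (motive := fun _ => ℕ) (e19_136) (e19_137) (Nat.ble 137 b)) (Bool.rec (motive := fun _ => ℕ) (e19_138) (e19_139) (Nat.ble 139 b)) (Nat.ble 138 b)) (Bool.rec (motive := fun _ => ℕ) (Bool.rec (motive := fun _ => ℕ) (e19_140) (e19_141) (Nat.ble 141 b)) (Bool.rec (motive := fun _ => ℕ) (e19_142) (e19_143) (Nat.ble 143 b)) (Nat.ble 142 b)) (Nat.ble 140 b)) (Nat.ble 136 b)) (Bool.rec (motive := fun _ => ℕ) (Bool.rec (motive := fun _ => ℕ) (Bool.rec (motive := fun _ => ℕ) (Bool.rec (motive := fun _ => ℕ) (e19_144) (e19_145) (Nat.ble 145 b)) (Bool.rec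 (motive := fun _ => ℕ) (e19_146) (e19_147) (Nat.ble 147 b)) (Nat.ble 146 b)) (Bool.rec (motive := fun _ => ℕ) (Bool.rec (motive := fun _ => ℕ) (e19_148) (e19_149) (Nat.ble 149 b)) (Bool.rec (motive := fun _ => ℕ) (e19_150) (e19_151) (Nat.ble 151 b)) (Nat.ble 150 b)) (Nat.ble 148 b)) (Bool.rec (motive := fun _ => ℕ) (Bool.rec (motive := fun _ => ℕ) (Bool.rec (motive := fun _ => ℕ) (e19_152) (e19_153) (Nat.ble 153 b)) (Bool.rec (motive := fun _ => ℕ) (e19_154) (e19_155) (Nat.ble 155 b)) (Nat.ble 154 b)) (Bool.rec (motive := fun _ => ℕ) (Bool.rec (motive := fun _ => ℕ) (e19_156) (e19_157) (Nat.ble 157 b)) (Bool.rec (motive := fun _ => ℕ) (e19_158) (e19_159) (Nat.ble 159 b)) (Nat.ble 158 b)) (Nat.ble 156 b)) (Nat.ble 152 b)) (Nat.ble 144 b)) (Bool.rec (motive := fun _ => ℕ) (Bool.rec (motive := fun _ => ℕ) (Bool.rec (motive := fun _ => ℕ) (Bool.rec (motive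 := fun _ => ℕ) (Bool.rec (motive := fun _ => ℕ) (e19_160) (e19_161) (Nat.ble 161 b)) (Bool.rec (motive := fun _ => ℕ) (e19_162) (e19_163) (Nat.ble 163 b)) (Nat.ble 162 b)) (Bool.rec (motive := fun _ => ℕ) (Bool.rec (motive := fun _ => ℕ) (e19_164) (e19_165) (Nat.ble 165 b)) (Bool.rec (motive := fun _ => ℕ) (e19_166) (e19_167) (Nat.ble 167 b)) (Nat.ble 166 b)) (Nat.ble 164 b)) (0) (Nat.ble 168 b)) (0) (Nat.ble 176 b)) (Nat.ble 160 b)) (0) (Nat.ble 192 b)) (Nat.ble 128 b))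
noncomputable def jcol19 (b : ℕ) : ℕ := (Bool.rec (motive := fun _ => ℕ) (Bool.rec (motive := fun _ => ℕ) (Bool.rec (motive := fun _ => ℕ) (Bool.rec (motive := fun _ => ℕ) (Bool.rec (motive := fun _ => ℕ) (Bool.rec (motive := fun _ => ℕ) (Bool.rec (motive := fun _ => ℕ) (Bool.rec (motive := fun _ => ℕ) (j19_0) (j19_1) (Nat.ble 1 b)) (Bool.rec (motive := fun _ => ℕ) (j19_2) (j19_3) (Nat.ble 3 b)) (Nat.ble 2 b)) (Bool.rec (motive := fun _ => ℕ) (Bool.rec (motive := fun _ => ℕ) (j19_4) (j19_5) (Nat.ble 5 b)) (Bool.rec (motive := fun _ => ℕ) (j19_6) (j19_7) (Nat.ble 7 b)) (Nat.ble 6 b)) (Nat.ble 4 b)) (Bool.rec (motive := fun _ => ℕ) (Bool.rec (motive := fun _ => ℕ) (Bool.rec (motive := fun _ => ℕ) (j19_8) (j19_9) (Nat.ble 9 b)) (Bool.rec (motive := fun _ => ℕ) (j19_10) (j19_11) (Nat.ble 11 b)) (Nat.ble 10 b)) (Bool.rec (motive := fun _ => ℕ) (Bool.rec (motive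 := fun _ => ℕ) (j19_12) (j19_13) (Nat.ble 13 b)) (Bool.rec (motive := fun _ => ℕ) (j19_14) (j19_15) (Nat.ble 15 b)) (Nat.ble 14 b)) (Nat.ble 12 b)) (Nat.ble 8 b)) (Bool.rec (motive := fun _ => ℕ) (Bool.rec (motive := fun _ => ℕ) (Bool.rec (motive := fun _ => ℕ) (Bool.rec (motive := fun _ => ℕ) (j19_16) (j19_17) (Nat.ble 17 b)) (Bool.rec (motive := fun _ => ℕ) (j19_18) (j19_19) (Nat.ble 19 b)) (Nat.ble 18 b)) (Bool.rec (motive := fun _ => ℕ) (Bool.rec (motive := fun _ => ℕ) (j19_20) (j19_21) (Nat.ble 21 b)) (Bool.rec (motive := fun _ => ℕ) (j19_22) (j19_23) (Nat.ble 23 b)) (Nat.ble 22 b)) (Nat.ble 20 b)) (Bool.rec (motive := fun _ => ℕ) (Bool.rec (motive := fun _ => ℕ) (Bool.rec (motive := fun _ => ℕ) (j19_24) (j19_25) (Nat.ble 25 b)) (Bool.rec (motive := fun _ => ℕ) (j19_26) (j19_27) (Nat.ble 27 b)) (Nat.ble 26 b)) (Bool.rec (motive := fun _ => ℕ) (Bool.rec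 (motive := fun _ => ℕ) (j19_28) (j19_29) (Nat.ble 29 b)) (Bool.rec (motive := fun _ => ℕ) (j19_30) (j19_31) (Nat.ble 31 b)) (Nat.ble 30 b)) (Nat.ble 28 b)) (Nat.ble 24 b)) (Nat.ble 16 b)) (Bool.rec (motive := fun _ => ℕ) (Bool.rec (motive := fun _ => ℕ) (Bool.rec (motive := fun _ => ℕ) (Bool.rec (motive := fun _ => ℕ) (Bool.rec (motive := fun _ => ℕ) (j19_32) (j19_33) (Nat.ble 33 b)) (Bool.rec (motive := fun _ => ℕ) (j19_34) (j19_35) (Nat.ble 35 b)) (Nat.ble 34 b)) (Bool.rec (motive := fun _ => ℕ) (Bool.rec (motive := fun _ => ℕ) (j19_36) (j19_37) (Nat.ble 37 b)) (Bool.rec (motive := fun _ => ℕ) (j19_38) (j19_39) (Nat.ble 39 b)) (Nat.ble 38 b)) (Nat.ble 36 b)) (Bool.rec (motive := fun _ => ℕ) (Bool.rec (motive := fun _ => ℕ) (Bool.rec (motive := fun _ => ℕ) (j19_40) (j19_41) (Nat.ble 41 b)) (Bool.rec (motive := fun _ => ℕ) (j19_42) (j19_43) (Nat.ble 43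 b)) (Nat.ble 42 b)) (Bool.rec (motive := fun _ => ℕ) (Bool.rec (motive := fun _ => ℕ) (j19_44) (j19_45) (Nat.ble 45 b)) (Bool.rec (motive := fun _ => ℕ) (j19_46) (j19_47) (Nat.ble 47 b)) (Nat.ble 46 b)) (Nat.ble 44 b)) (Nat.ble 40 b)) (Bool.rec (motive := fun _ => ℕ) (Bool.rec (motive := fun _ => ℕ) (Bool.rec (motive := fun _ => ℕ) (Bool.rec (motive := fun _ => ℕ) (j19_48) (j19_49) (Nat.ble 49 b)) (Bool.rec (motive := fun _ => ℕ) (j19_50) (j19_51) (Nat.ble 51 b)) (Nat.ble 50 b)) (Bool.rec (motive := fun _ => ℕ) (Bool.rec (motive := fun _ => ℕ) (j19_52) (j19_53) (Nat.ble 53 b)) (Bool.rec (motive := fun _ => ℕ) (j19_54) (j19_55) (Nat.ble 55 b)) (Nat.ble 54 b)) (Nat.ble 52 b)) (Bool.rec (motive := fun _ => ℕ) (Bool.rec (motive := fun _ => ℕ) (Bool.rec (motive := fun _ => ℕ) (j19_56) (j19_57) (Nat.ble 57 b)) (Bool.rec (motive := fun _ => ℕ) (j19_58) (j19_59)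 (Nat.ble 59 b)) (Nat.ble 58 b)) (Bool.rec (motive := fun _ => ℕ) (Bool.rec (motive := fun _ => ℕ) (j19_60) (j19_61) (Nat.ble 61 b)) (Bool.rec (motive := fun _ => ℕ) (j19_62) (j19_63) (Nat.ble 63 b)) (Nat.ble 62 b)) (Nat.ble 60 b)) (Nat.ble 56 b)) (Nat.ble 48 b)) (Nat.ble 32 b)) (Bool.rec (motive := fun _ => ℕ) (Bool.rec (motive := fun _ => ℕ) (Bool.rec (motive := fun _ => ℕ) (Bool.rec (motive := fun _ => ℕ) (Bool.rec (motive := fun _ => ℕ) (Bool.rec (motive := fun _ => ℕ) (j19_64) (j19_65) (Nat.ble 65 b)) (Bool.rec (motive := fun _ => ℕ) (j19_66) (j19_67) (Nat.ble 67 b)) (Nat.ble 66 b)) (Bool.rec (motive := fun _ => ℕ) (Bool.rec (motive := fun _ => ℕ) (j19_68) (j19_69) (Nat.ble 69 b)) (Bool.rec (motive := fun _ => ℕ) (j19_70) (j19_71) (Nat.ble 71 b)) (Nat.ble 70 b)) (Nat.ble 68 b)) (Bool.rec (motive := fun _ => ℕ) (Bool.rec (motive := fun _ => ℕ) (Bool.rec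 (motive := fun _ => ℕ) (j19_72) (j19_73) (Nat.ble 73 b)) (Bool.rec (motive := fun _ => ℕ) (j19_74) (j19_75) (Nat.ble 75 b)) (Nat.ble 74 b)) (Bool.rec (motive := fun _ => ℕ) (Bool.rec (motive := fun _ => ℕ) (j19_76) (j19_77) (Nat.ble 77 b)) (Bool.rec (motive := fun _ => ℕ) (j19_78) (j19_79) (Nat.ble 79 b)) (Nat.ble 78 b)) (Nat.ble 76 b)) (Nat.ble 72 b)) (Bool.rec (motive := fun _ => ℕ) (Bool.rec (motive := fun _ => ℕ) (Bool.rec (motive := fun _ => ℕ) (Bool.rec (motive := fun _ => ℕ) (j19_80) (j19_81) (Nat.ble 81 b)) (Bool.rec (motive := fun _ => ℕ) (j19_82) (j19_83) (Nat.ble 83 b)) (Nat.ble 82 b)) (Bool.rec (motive := fun _ => ℕ) (Bool.rec (motive := fun _ => ℕ) (j19_84) (j19_85) (Nat.ble 85 b)) (Bool.rec (motive := fun _ => ℕ) (j19_86) (j19_87) (Nat.ble 87 b)) (Nat.ble 86 b)) (Nat.ble 84 b)) (Bool.rec (motive := fun _ => ℕ) (Bool.rec (motive := fun _ =>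 ℕ) (Bool.rec (motive := fun _ => ℕ) (j19_88) (j19_89) (Nat.ble 89 b)) (Bool.rec (motive := fun _ => ℕ) (j19_90) (j19_91) (Nat.ble 91 b)) (Nat.ble 90 b)) (Bool.rec (motive := fun _ => ℕ) (Bool.rec (motive := fun _ => ℕ) (j19_92) (j19_93) (Nat.ble 93 b)) (Bool.rec (motive := fun _ => ℕ) (j19_94) (j19_95) (Nat.ble 95 b)) (Nat.ble 94 b)) (Nat.ble 92 b)) (Nat.ble 88 b)) (Nat.ble 80 b)) (Bool.rec (motive := fun _ => ℕ) (Bool.rec (motive := fun _ => ℕ) (Bool.rec (motive := fun _ => ℕ) (Bool.rec (motive := fun _ => ℕ) (Bool.rec (motive := fun _ => ℕ) (j19_96) (j19_97) (Nat.ble 97 b)) (Bool.rec (motive := fun _ => ℕ) (j19_98) (j19_99) (Nat.ble 99 b)) (Nat.ble 98 b)) (Bool.rec (motive := fun _ => ℕ) (Bool.rec (motive := fun _ => ℕ) (j19_100) (j19_101) (Nat.ble 101 b)) (Bool.rec (motive := fun _ => ℕ) (j19_102) (j19_103) (Nat.ble 103 b)) (Nat.ble 102 b)) (Nat.ble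 100 b)) (Bool.rec (motive := fun _ => ℕ) (Bool.rec (motive := fun _ => ℕ) (Bool.rec (motive := fun _ => ℕ) (j19_104) (j19_105) (Nat.ble 105 b)) (Bool.rec (motive := fun _ => ℕ) (j19_106) (j19_107) (Nat.ble 107 b)) (Nat.ble 106 b)) (Bool.rec (motive := fun _ => ℕ) (Bool.rec (motive := fun _ => ℕ) (j19_108) (j19_109) (Nat.ble 109 b)) (Bool.rec (motive := fun _ => ℕ) (j19_110) (j19_111) (Nat.ble 111 b)) (Nat.ble 110 b)) (Nat.ble 108 b)) (Nat.ble 104 b)) (Bool.rec (motive := fun _ => ℕ) (Bool.rec (motive := fun _ => ℕ) (Bool.rec (motive := fun _ => ℕ) (Bool.rec (motive := fun _ => ℕ) (j19_112) (j19_113) (Nat.ble 113 b)) (Bool.rec (motive := fun _ => ℕ) (j19_114) (j19_115) (Nat.ble 115 b)) (Nat.ble 114 b)) (Bool.rec (motive := fun _ => ℕ) (Bool.rec (motive := fun _ => ℕ) (j19_116) (j19_117) (Nat.ble 117 b)) (Bool.rec (motive := fun _ => ℕ) (j19_118) (j19_119)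 (Nat.ble 119 b)) (Nat.ble 118 b)) (Nat.ble 116 b)) (Bool.rec (motive := fun _ => ℕ) (Bool.rec (motive := fun _ => ℕ) (Bool.rec (motive := fun _ => ℕ) (j19_120) (j19_121) (Nat.ble 121 b)) (Bool.rec (motive := fun _ => ℕ) (j19_122) (j19_123) (Nat.ble 123 b)) (Nat.ble 122 b)) (Bool.rec (motive := fun _ => ℕ) (Bool.rec (motive := fun _ => ℕ) (j19_124) (j19_125) (Nat.ble 125 b)) (Bool.rec (motive := fun _ => ℕ) (j19_126) (j19_127) (Nat.ble 127 b)) (Nat.ble 126 b)) (Nat.ble 124 b)) (Nat.ble 120 b)) (Nat.ble 112 b)) (Nat.ble 96 b)) (Nat.ble 64 b)) (Bool.rec (motive := fun _ => ℕ) (Bool.rec (motive := fun _ => ℕ) (Bool.rec (motive := fun _ => ℕ) (Bool.rec (motive := fun _ => ℕ) (Bool.rec (motive := fun _ => ℕ) (Bool.rec (motive := fun _ => ℕ) (Bool.rec (motive := fun _ => ℕ) (j19_128) (j19_129) (Nat.ble 129 b)) (Bool.rec (motive := fun _ => ℕ) (j19_130) (j19_131)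 (Nat.ble 131 b)) (Nat.ble 130 b)) (Bool.rec (motive := fun _ => ℕ) (Bool.rec (motive := fun _ => ℕ) (j19_132) (j19_133) (Nat.ble 133 b)) (Bool.rec (motive := fun _ => ℕ) (j19_134) (j19_135) (Nat.ble 135 b)) (Nat.ble 134 b)) (Nat.ble 132 b)) (Bool.rec (motive := fun _ => ℕ) (Bool.rec (motive := fun _ => ℕ) (Bool.rec (motive := fun _ => ℕ) (j19_136) (j19_137) (Nat.ble 137 b)) (Bool.rec (motive := fun _ => ℕ) (j19_138) (j19_139) (Nat.ble 139 b)) (Nat.ble 138 b)) (Bool.rec (motive := fun _ => ℕ) (Bool.rec (motive := fun _ => ℕ) (j19_140) (j19_141) (Nat.ble 141 b)) (Bool.rec (motive := fun _ => ℕ) (j19_142) (j19_143) (Nat.ble 143 b)) (Nat.ble 142 b)) (Nat.ble 140 b)) (Nat.ble 136 b)) (Bool.rec (motive := fun _ => ℕ) (Bool.rec (motive := fun _ => ℕ) (Bool.rec (motive := fun _ => ℕ) (Bool.rec (motive := fun _ => ℕ) (j19_144) (j19_145) (Nat.ble 145 b)) (Bool.rec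 (motive := fun _ => ℕ) (j19_146) (j19_147) (Nat.ble 147 b)) (Nat.ble 146 b)) (Bool.rec (motive := fun _ => ℕ) (Bool.rec (motive := fun _ => ℕ) (j19_148) (j19_149) (Nat.ble 149 b)) (Bool.rec (motive := fun _ => ℕ) (j19_150) (j19_151) (Nat.ble 151 b)) (Nat.ble 150 b)) (Nat.ble 148 b)) (Bool.rec (motive := fun _ => ℕ) (Bool.rec (motive := fun _ => ℕ) (Bool.rec (motive := fun _ => ℕ) (j19_152) (j19_153) (Nat.ble 153 b)) (Bool.rec (motive := fun _ => ℕ) (j19_154) (j19_155) (Nat.ble 155 b)) (Nat.ble 154 b)) (Bool.rec (motive := fun _ => ℕ) (Bool.rec (motive := fun _ => ℕ) (j19_156) (j19_157) (Nat.ble 157 b)) (Bool.rec (motive := fun _ => ℕ) (j19_158) (j19_159) (Nat.ble 159 b)) (Nat.ble 158 b)) (Nat.ble 156 b)) (Nat.ble 152 b)) (Nat.ble 144 b)) (Bool.rec (motive := fun _ => ℕ) (Bool.rec (motive := fun _ => ℕ) (Bool.rec (motive := fun _ => ℕ) (Bool.rec (motive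 := fun _ => ℕ) (Bool.rec (motive := fun _ => ℕ) (j19_160) (j19_161) (Nat.ble 161 b)) (Bool.rec (motive := fun _ => ℕ) (j19_162) (j19_163) (Nat.ble 163 b)) (Nat.ble 162 b)) (Bool.rec (motive := fun _ => ℕ) (Bool.rec (motive := fun _ => ℕ) (j19_164) (j19_165) (Nat.ble 165 b)) (Bool.rec (motive := fun _ => ℕ) (j19_166) (j19_167) (Nat.ble 167 b)) (Nat.ble 166 b)) (Nat.ble 164 b)) (0) (Nat.ble 168 b)) (0) (Nat.ble 176 b)) (Nat.ble 160 b)) (0) (Nat.ble 192 b)) (Nat.ble 128 b))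
noncomputable def eT (c b : ℕ) : ℕ := (Bool.rec (motive := fun _ => ℕ) (Bool.rec (motive := fun _ => ℕ) (Bool.rec (motive := fun _ => ℕ) (Bool.rec (motive := fun _ => ℕ) (Bool.rec (motive := fun _ => ℕ) (ecol0 b) (ecol1 b) (Nat.ble 1 c)) (Bool.rec (motive := fun _ => ℕ) (ecol2 b) (ecol3 b) (Nat.ble 3 c)) (Nat.ble 2 c)) (Bool.rec (motive := fun _ => ℕ) (Bool.rec (motive := fun _ => ℕ) (ecol4 b) (ecol5 b) (Nat.ble 5 c)) (Bool.rec (motive := fun _ => ℕ) (ecol6 b) (ecol7 b) (Nat.ble 7 c)) (Nat.ble 6 c)) (Nat.ble 4 c)) (Bool.rec (motive := fun _ => ℕ) (Bool.rec (motive := fun _ => ℕ) (Bool.rec (motive := fun _ => ℕ) (ecol8 b) (ecol9 b) (Nat.ble 9 c)) (Bool.rec (motive := fun _ => ℕ) (ecol10 b) (ecol11 b) (Nat.ble 11 c)) (Nat.ble 10 c)) (Bool.rec (motive := fun _ => ℕ) (Bool.rec (motive := fun _ => ℕ) (ecol12 b) (ecol13 b) (Nat.ble 13 c)) (Bool.rec (motive :=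 fun _ => ℕ) (ecol14 b) (ecol15 b) (Nat.ble 15 c)) (Nat.ble 14 c)) (Nat.ble 12 c)) (Nat.ble 8 c)) (Bool.rec (motive := fun _ => ℕ) (Bool.rec (motive := fun _ => ℕ) (Bool.rec (motive := fun _ => ℕ) (Bool.rec (motive := fun _ => ℕ) (ecol16 b) (ecol17 b) (Nat.ble 17 c)) (Bool.rec (motive := fun _ => ℕ) (ecol18 b) (ecol19 b) (Nat.ble 19 c)) (Nat.ble 18 c)) (0) (Nat.ble 20 c)) (0) (Nat.ble 24 c)) (Nat.ble 16 c))
noncomputable def jT (c b : ℕ) : ℕ := (Bool.rec (motive := fun _ => ℕ) (Bool.rec (motive := fun _ => ℕ) (Bool.rec (motive := fun _ => ℕ) (Bool.rec (motive := fun _ => ℕ) (Bool.rec (motive := fun _ => ℕ) (jcol0 b) (jcol1 b) (Nat.ble 1 c)) (Bool.rec (motive := fun _ => ℕ) (jcol2 b) (jcol3 b) (Nat.ble 3 c)) (Nat.ble 2 c)) (Bool.rec (motive := fun _ => ℕ) (Bool.rec (motive := fun _ => ℕ) (jcol4 b) (jcol5 b) (Nat.ble 5 c)) (Bool.rec (motive := fun _ => ℕ)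 (jcol6 b) (jcol7 b) (Nat.ble 7 c)) (Nat.ble 6 c)) (Nat.ble 4 c)) (Bool.rec (motive := fun _ => ℕ) (Bool.rec (motive := fun _ => ℕ) (Bool.rec (motive := fun _ => ℕ) (jcol8 b) (jcol9 b) (Nat.ble 9 c)) (Bool.rec (motive := fun _ => ℕ) (jcol10 b) (jcol11 b) (Nat.ble 11 c)) (Nat.ble 10 c)) (Bool.rec (motive := fun _ => ℕ) (Bool.rec (motive := fun _ => ℕ) (jcol12 b) (jcol13 b) (Nat.ble 13 c)) (Bool.rec (motive := fun _ => ℕ) (jcol14 b) (jcol15 b) (Nat.ble 15 c)) (Nat.ble 14 c)) (Nat.ble 12 c)) (Nat.ble 8 c)) (Bool.rec (motive := fun _ => ℕ) (Bool.rec (motive := fun _ => ℕ) (Bool.rec (motive := fun _ => ℕ) (Bool.rec (motive := fun _ => ℕ) (jcol16 b) (jcol17 b) (Nat.ble 17 c)) (Bool.rec (motive := fun _ => ℕ) (jcol18 b) (jcol19 b) (Nat.ble 19 c)) (Nat.ble 18 c)) (0) (Nat.ble 20 c)) (0) (Nat.ble 24 c)) (Nat.ble 16 c))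
noncomputable def mgT (b : ℕ) : ℕ := (Bool.rec (motive := fun _ => ℕ) (Bool.rec (motive := fun _ => ℕ) (Bool.rec (motive := fun _ => ℕ) (Bool.rec (motive := fun _ => ℕ) (Bool.rec (motive := fun _ => ℕ) (Bool.rec (motive := fun _ => ℕ) (Bool.rec (motive := fun _ => ℕ) (Bool.rec (motive := fun _ => ℕ) (m_0) (m_1) (Nat.ble 1 b)) (Bool.rec (motive := fun _ => ℕ) (m_2) (m_3) (Nat.ble 3 b)) (Nat.ble 2 b)) (Bool.rec (motive := fun _ => ℕ) (Bool.rec (motive := fun _ => ℕ) (m_4) (m_5) (Nat.ble 5 b)) (Bool.rec (motive := fun _ => ℕ) (m_6) (m_7) (Nat.ble 7 b)) (Nat.ble 6 b)) (Nat.ble 4 b)) (Bool.rec (motive := fun _ => ℕ) (Bool.rec (motive := fun _ => ℕ) (Bool.rec (motive := fun _ => ℕ) (m_8) (m_9) (Nat.ble 9 b)) (Bool.rec (motive := fun _ => ℕ) (m_10) (m_11) (Nat.ble 11 b)) (Nat.ble 10 b)) (Bool.rec (motive := fun _ => ℕ) (Bool.rec (motive := fun _ => ℕ) (m_12)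 (m_13) (Nat.ble 13 b)) (Bool.rec (motive := fun _ => ℕ) (m_14) (m_15) (Nat.ble 15 b)) (Nat.ble 14 b)) (Nat.ble 12 b)) (Nat.ble 8 b)) (Bool.rec (motive := fun _ => ℕ) (Bool.rec (motive := fun _ => ℕ) (Bool.rec (motive := fun _ => ℕ) (Bool.rec (motive := fun _ => ℕ) (m_16) (m_17) (Nat.ble 17 b)) (Bool.rec (motive := fun _ => ℕ) (m_18) (m_19) (Nat.ble 19 b)) (Nat.ble 18 b)) (Bool.rec (motive := fun _ => ℕ) (Bool.rec (motive := fun _ => ℕ) (m_20) (m_21) (Nat.ble 21 b)) (Bool.rec (motive := fun _ => ℕ) (m_22) (m_23) (Nat.ble 23 b)) (Nat.ble 22 b)) (Nat.ble 20 b)) (Bool.rec (motive := fun _ => ℕ) (Bool.rec (motive := fun _ => ℕ) (Bool.rec (motive := fun _ => ℕ) (m_24) (m_25) (Nat.ble 25 b)) (Bool.rec (motive := fun _ => ℕ) (m_26) (m_27) (Nat.ble 27 b)) (Nat.ble 26 b)) (Bool.rec (motive := fun _ => ℕ) (Bool.rec (motive := fun _ => ℕ) (m_28) (m_29) (Nat.ble 29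 b)) (Bool.rec (motive := fun _ => ℕ) (m_30) (m_31) (Nat.ble 31 b)) (Nat.ble 30 b)) (Nat.ble 28 b)) (Nat.ble 24 b)) (Nat.ble 16 b)) (Bool.rec (motive := fun _ => ℕ) (Bool.rec (motive := fun _ => ℕ) (Bool.rec (motive := fun _ => ℕ) (Bool.rec (motive := fun _ => ℕ) (Bool.rec (motive := fun _ => ℕ) (m_32) (m_33) (Nat.ble 33 b)) (Bool.rec (motive := fun _ => ℕ) (m_34) (m_35) (Nat.ble 35 b)) (Nat.ble 34 b)) (Bool.rec (motive := fun _ => ℕ) (Bool.rec (motive := fun _ => ℕ) (m_36) (m_37) (Nat.ble 37 b)) (Bool.rec (motive := fun _ => ℕ) (m_38) (m_39) (Nat.ble 39 b)) (Nat.ble 38 b)) (Nat.ble 36 b)) (Bool.rec (motive := fun _ => ℕ) (Bool.rec (motive := fun _ => ℕ) (Bool.rec (motive := fun _ => ℕ) (m_40) (m_41) (Nat.ble 41 b)) (Bool.rec (motive := fun _ => ℕ) (m_42) (m_43) (Nat.ble 43 b)) (Nat.ble 42 b)) (Bool.rec (motive := fun _ => ℕ) (Bool.rec (motive := fun _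 => ℕ) (m_44) (m_45) (Nat.ble 45 b)) (Bool.rec (motive := fun _ => ℕ) (m_46) (m_47) (Nat.ble 47 b)) (Nat.ble 46 b)) (Nat.ble 44 b)) (Nat.ble 40 b)) (Bool.rec (motive := fun _ => ℕ) (Bool.rec (motive := fun _ => ℕ) (Bool.rec (motive := fun _ => ℕ) (Bool.rec (motive := fun _ => ℕ) (m_48) (m_49) (Nat.ble 49 b)) (Bool.rec (motive := fun _ => ℕ) (m_50) (m_51) (Nat.ble 51 b)) (Nat.ble 50 b)) (Bool.rec (motive := fun _ => ℕ) (Bool.rec (motive := fun _ => ℕ) (m_52) (m_53) (Nat.ble 53 b)) (Bool.rec (motive := fun _ => ℕ) (m_54) (m_55) (Nat.ble 55 b)) (Nat.ble 54 b)) (Nat.ble 52 b)) (Bool.rec (motive := fun _ => ℕ) (Bool.rec (motive := fun _ => ℕ) (Bool.rec (motive := fun _ => ℕ) (m_56) (m_57) (Nat.ble 57 b)) (Bool.rec (motive := fun _ => ℕ) (m_58) (m_59) (Nat.ble 59 b)) (Nat.ble 58 b)) (Bool.rec (motive := fun _ => ℕ) (Bool.rec (motive := fun _ => ℕ) (m_60) (m_61)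 (Nat.ble 61 b)) (Bool.rec (motive := fun _ => ℕ) (m_62) (m_63) (Nat.ble 63 b)) (Nat.ble 62 b)) (Nat.ble 60 b)) (Nat.ble 56 b)) (Nat.ble 48 b)) (Nat.ble 32 b)) (Bool.rec (motive := fun _ => ℕ) (Bool.rec (motive := fun _ => ℕ) (Bool.rec (motive := fun _ => ℕ) (Bool.rec (motive := fun _ => ℕ) (Bool.rec (motive := fun _ => ℕ) (Bool.rec (motive := fun _ => ℕ) (m_64) (m_65) (Nat.ble 65 b)) (Bool.rec (motive := fun _ => ℕ) (m_66) (m_67) (Nat.ble 67 b)) (Nat.ble 66 b)) (Bool.rec (motive := fun _ => ℕ) (Bool.rec (motive := fun _ => ℕ) (m_68) (m_69) (Nat.ble 69 b)) (Bool.rec (motive := fun _ => ℕ) (m_70) (m_71) (Nat.ble 71 b)) (Nat.ble 70 b)) (Nat.ble 68 b)) (Bool.rec (motive := fun _ => ℕ) (Bool.rec (motive := fun _ => ℕ) (Bool.rec (motive := fun _ => ℕ) (m_72) (m_73) (Nat.ble 73 b)) (Bool.rec (motive := fun _ => ℕ) (m_74) (m_75) (Nat.ble 75 b)) (Nat.ble 74 b))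 (Bool.rec (motive := fun _ => ℕ) (Bool.rec (motive := fun _ => ℕ) (m_76) (m_77) (Nat.ble 77 b)) (Bool.rec (motive := fun _ => ℕ) (m_78) (m_79) (Nat.ble 79 b)) (Nat.ble 78 b)) (Nat.ble 76 b)) (Nat.ble 72 b)) (Bool.rec (motive := fun _ => ℕ) (Bool.rec (motive := fun _ => ℕ) (Bool.rec (motive := fun _ => ℕ) (Bool.rec (motive := fun _ => ℕ) (m_80) (m_81) (Nat.ble 81 b)) (Bool.rec (motive := fun _ => ℕ) (m_82) (m_83) (Nat.ble 83 b)) (Nat.ble 82 b)) (Bool.rec (motive := fun _ => ℕ) (Bool.rec (motive := fun _ => ℕ) (m_84) (m_85) (Nat.ble 85 b)) (Bool.rec (motive := fun _ => ℕ) (m_86) (m_87) (Nat.ble 87 b)) (Nat.ble 86 b)) (Nat.ble 84 b)) (Bool.rec (motive := fun _ => ℕ) (Bool.rec (motive := fun _ => ℕ) (Bool.rec (motive := fun _ => ℕ) (m_88) (m_89) (Nat.ble 89 b)) (Bool.rec (motive := fun _ => ℕ) (m_90) (m_91) (Nat.ble 91 b)) (Nat.ble 90 b)) (Bool.rec (motive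 := fun _ => ℕ) (Bool.rec (motive := fun _ => ℕ) (m_92) (m_93) (Nat.ble 93 b)) (Bool.rec (motive := fun _ => ℕ) (m_94) (m_95) (Nat.ble 95 b)) (Nat.ble 94 b)) (Nat.ble 92 b)) (Nat.ble 88 b)) (Nat.ble 80 b)) (Bool.rec (motive := fun _ => ℕ) (Bool.rec (motive := fun _ => ℕ) (Bool.rec (motive := fun _ => ℕ) (Bool.rec (motive := fun _ => ℕ) (Bool.rec (motive := fun _ => ℕ) (m_96) (m_97) (Nat.ble 97 b)) (Bool.rec (motive := fun _ => ℕ) (m_98) (m_99) (Nat.ble 99 b)) (Nat.ble 98 b)) (Bool.rec (motive := fun _ => ℕ) (Bool.rec (motive := fun _ => ℕ) (m_100) (m_101) (Nat.ble 101 b)) (Bool.rec (motive := fun _ => ℕ) (m_102) (m_103) (Nat.ble 103 b)) (Nat.ble 102 b)) (Nat.ble 100 b)) (Bool.rec (motive := fun _ => ℕ) (Bool.rec (motive := fun _ => ℕ) (Bool.rec (motive := fun _ => ℕ) (m_104) (m_105) (Nat.ble 105 b)) (Bool.rec (motive := fun _ => ℕ) (m_106) (m_107) (Nat.ble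 107 b)) (Nat.ble 106 b)) (Bool.rec (motive := fun _ => ℕ) (Bool.rec (motive := fun _ => ℕ) (m_108) (m_109) (Nat.ble 109 b)) (Bool.rec (motive := fun _ => ℕ) (m_110) (m_111) (Nat.ble 111 b)) (Nat.ble 110 b)) (Nat.ble 108 b)) (Nat.ble 104 b)) (Bool.rec (motive := fun _ => ℕ) (Bool.rec (motive := fun _ => ℕ) (Bool.rec (motive := fun _ => ℕ) (Bool.rec (motive := fun _ => ℕ) (m_112) (m_113) (Nat.ble 113 b)) (Bool.rec (motive := fun _ => ℕ) (m_114) (m_115) (Nat.ble 115 b)) (Nat.ble 114 b)) (Bool.rec (motive := fun _ => ℕ) (Bool.rec (motive := fun _ => ℕ) (m_116) (m_117) (Nat.ble 117 b)) (Bool.rec (motive := fun _ => ℕ) (m_118) (m_119) (Nat.ble 119 b)) (Nat.ble 118 b)) (Nat.ble 116 b)) (Bool.rec (motive := fun _ => ℕ) (Bool.rec (motive := fun _ => ℕ) (Bool.rec (motive := fun _ => ℕ) (m_120) (m_121) (Nat.ble 121 b)) (Bool.rec (motive := fun _ => ℕ) (m_122) (m_123)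 (Nat.ble 123 b)) (Nat.ble 122 b)) (Bool.rec (motive := fun _ => ℕ) (Bool.rec (motive := fun _ => ℕ) (m_124) (m_125) (Nat.ble 125 b)) (Bool.rec (motive := fun _ => ℕ) (m_126) (m_127) (Nat.ble 127 b)) (Nat.ble 126 b)) (Nat.ble 124 b)) (Nat.ble 120 b)) (Nat.ble 112 b)) (Nat.ble 96 b)) (Nat.ble 64 b)) (Bool.rec (motive := fun _ => ℕ) (Bool.rec (motive := fun _ => ℕ) (Bool.rec (motive := fun _ => ℕ) (Bool.rec (motive := fun _ => ℕ) (Bool.rec (motive := fun _ => ℕ) (Bool.rec (motive := fun _ => ℕ) (Bool.rec (motive := fun _ => ℕ) (m_128) (m_129) (Nat.ble 129 b)) (Bool.rec (motive := fun _ => ℕ) (m_130) (m_131) (Nat.ble 131 b)) (Nat.ble 130 b)) (Bool.rec (motive := fun _ => ℕ) (Bool.rec (motive := fun _ => ℕ) (m_132) (m_133) (Nat.ble 133 b)) (Bool.rec (motive := fun _ => ℕ) (m_134) (m_135) (Nat.ble 135 b)) (Nat.ble 134 b)) (Nat.ble 132 b)) (Bool.rec (motive :=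 fun _ => ℕ) (Bool.rec (motive := fun _ => ℕ) (Bool.rec (motive := fun _ => ℕ) (m_136) (m_137) (Nat.ble 137 b)) (Bool.rec (motive := fun _ => ℕ) (m_138) (m_139) (Nat.ble 139 b)) (Nat.ble 138 b)) (Bool.rec (motive := fun _ => ℕ) (Bool.rec (motive := fun _ => ℕ) (m_140) (m_141) (Nat.ble 141 b)) (Bool.rec (motive := fun _ => ℕ) (m_142) (m_143) (Nat.ble 143 b)) (Nat.ble 142 b)) (Nat.ble 140 b)) (Nat.ble 136 b)) (Bool.rec (motive := fun _ => ℕ) (Bool.rec (motive := fun _ => ℕ) (Bool.rec (motive := fun _ => ℕ) (Bool.rec (motive := fun _ => ℕ) (m_144) (m_145) (Nat.ble 145 b)) (Bool.rec (motive := fun _ => ℕ) (m_146) (m_147) (Nat.ble 147 b)) (Nat.ble 146 b)) (Bool.rec (motive := fun _ => ℕ) (Bool.rec (motive := fun _ => ℕ) (m_148) (m_149) (Nat.ble 149 b)) (Bool.rec (motive := fun _ => ℕ) (m_150) (m_151) (Nat.ble 151 b)) (Nat.ble 150 b)) (Nat.ble 148 b)) (Bool.rec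 (motive := fun _ => ℕ) (Bool.rec (motive := fun _ => ℕ) (Bool.rec (motive := fun _ => ℕ) (m_152) (m_153) (Nat.ble 153 b)) (Bool.rec (motive := fun _ => ℕ) (m_154) (m_155) (Nat.ble 155 b)) (Nat.ble 154 b)) (Bool.rec (motive := fun _ => ℕ) (Bool.rec (motive := fun _ => ℕ) (m_156) (m_157) (Nat.ble 157 b)) (Bool.rec (motive := fun _ => ℕ) (m_158) (m_159) (Nat.ble 159 b)) (Nat.ble 158 b)) (Nat.ble 156 b)) (Nat.ble 152 b)) (Nat.ble 144 b)) (Bool.rec (motive := fun _ => ℕ) (Bool.rec (motive := fun _ => ℕ) (Bool.rec (motive := fun _ => ℕ) (Bool.rec (motive := fun _ => ℕ) (Bool.rec (motive := fun _ => ℕ) (m_160) (m_161) (Nat.ble 161 b)) (Bool.rec (motive := fun _ => ℕ) (m_162) (m_163) (Nat.ble 163 b)) (Nat.ble 162 b)) (Bool.rec (motive := fun _ => ℕ) (Bool.rec (motive := fun _ => ℕ) (m_164) (m_165) (Nat.ble 165 b)) (Bool.rec (motive := fun _ => ℕ) (m_166) (m_167)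 (Nat.ble 167 b)) (Nat.ble 166 b)) (Nat.ble 164 b)) (0) (Nat.ble 168 b)) (0) (Nat.ble 176 b)) (Nat.ble 160 b)) (0) (Nat.ble 192 b)) (Nat.ble 128 b))
noncomputable def jmT (b : ℕ) : ℕ := (Bool.rec (motive := fun _ => ℕ) (Bool.rec (motive := fun _ => ℕ) (Bool.rec (motive := fun _ => ℕ) (Bool.rec (motive := fun _ => ℕ) (Bool.rec (motive := fun _ => ℕ) (Bool.rec (motive := fun _ => ℕ) (Bool.rec (motive := fun _ => ℕ) (Bool.rec (motive := fun _ => ℕ) (jm_0) (jm_1) (Nat.ble 1 b)) (Bool.rec (motive := fun _ => ℕ) (jm_2) (jm_3) (Nat.ble 3 b)) (Nat.ble 2 b)) (Bool.rec (motive := fun _ => ℕ) (Bool.rec (motive := fun _ => ℕ) (jm_4) (jm_5) (Nat.ble 5 b)) (Bool.rec (motive := fun _ => ℕ) (jm_6) (jm_7) (Nat.ble 7 b)) (Nat.ble 6 b)) (Nat.ble 4 b)) (Bool.rec (motive := fun _ => ℕ) (Bool.rec (motive := fun _ => ℕ) (Bool.rec (motive := fun _ => ℕ) (jm_8) (jm_9) (Nat.ble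 9 b)) (Bool.rec (motive := fun _ => ℕ) (jm_10) (jm_11) (Nat.ble 11 b)) (Nat.ble 10 b)) (Bool.rec (motive := fun _ => ℕ) (Bool.rec (motive := fun _ => ℕ) (jm_12) (jm_13) (Nat.ble 13 b)) (Bool.rec (motive := fun _ => ℕ) (jm_14) (jm_15) (Nat.ble 15 b)) (Nat.ble 14 b)) (Nat.ble 12 b)) (Nat.ble 8 b)) (Bool.rec (motive := fun _ => ℕ) (Bool.rec (motive := fun _ => ℕ) (Bool.rec (motive := fun _ => ℕ) (Bool.rec (motive := fun _ => ℕ) (jm_16) (jm_17) (Nat.ble 17 b)) (Bool.rec (motive := fun _ => ℕ) (jm_18) (jm_19) (Nat.ble 19 b)) (Nat.ble 18 b)) (Bool.rec (motive := fun _ => ℕ) (Bool.rec (motive := fun _ => ℕ) (jm_20) (jm_21) (Nat.ble 21 b)) (Bool.rec (motive := fun _ => ℕ) (jm_22) (jm_23) (Nat.ble 23 b)) (Nat.ble 22 b)) (Nat.ble 20 b)) (Bool.rec (motive := fun _ => ℕ) (Bool.rec (motive := fun _ => ℕ) (Bool.rec (motive := fun _ => ℕ) (jm_24) (jm_25) (Nat.ble 25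 b)) (Bool.rec (motive := fun _ => ℕ) (jm_26) (jm_27) (Nat.ble 27 b)) (Nat.ble 26 b)) (Bool.rec (motive := fun _ => ℕ) (Bool.rec (motive := fun _ => ℕ) (jm_28) (jm_29) (Nat.ble 29 b)) (Bool.rec (motive := fun _ => ℕ) (jm_30) (jm_31) (Nat.ble 31 b)) (Nat.ble 30 b)) (Nat.ble 28 b)) (Nat.ble 24 b)) (Nat.ble 16 b)) (Bool.rec (motive := fun _ => ℕ) (Bool.rec (motive := fun _ => ℕ) (Bool.rec (motive := fun _ => ℕ) (Bool.rec (motive := fun _ => ℕ) (Bool.rec (motive := fun _ => ℕ) (jm_32) (jm_33) (Nat.ble 33 b)) (Bool.rec (motive := fun _ => ℕ) (jm_34) (jm_35) (Nat.ble 35 b)) (Nat.ble 34 b)) (Bool.rec (motive := fun _ => ℕ) (Bool.rec (motive := fun _ => ℕ) (jm_36) (jm_37) (Nat.ble 37 b)) (Bool.rec (motive := fun _ => ℕ) (jm_38) (jm_39) (Nat.ble 39 b)) (Nat.ble 38 b)) (Nat.ble 36 b)) (Bool.rec (motive := fun _ => ℕ) (Bool.rec (motive := fun _ => ℕ) (Bool.rec (motive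 := fun _ => ℕ) (jm_40) (jm_41) (Nat.ble 41 b)) (Bool.rec (motive := fun _ => ℕ) (jm_42) (jm_43) (Nat.ble 43 b)) (Nat.ble 42 b)) (Bool.rec (motive := fun _ => ℕ) (Bool.rec (motive := fun _ => ℕ) (jm_44) (jm_45) (Nat.ble 45 b)) (Bool.rec (motive := fun _ => ℕ) (jm_46) (jm_47) (Nat.ble 47 b)) (Nat.ble 46 b)) (Nat.ble 44 b)) (Nat.ble 40 b)) (Bool.rec (motive := fun _ => ℕ) (Bool.rec (motive := fun _ => ℕ) (Bool.rec (motive := fun _ => ℕ) (Bool.rec (motive := fun _ => ℕ) (jm_48) (jm_49) (Nat.ble 49 b)) (Bool.rec (motive := fun _ => ℕ) (jm_50) (jm_51) (Nat.ble 51 b)) (Nat.ble 50 b)) (Bool.rec (motive := fun _ => ℕ) (Bool.rec (motive := fun _ => ℕ) (jm_52) (jm_53) (Nat.ble 53 b)) (Bool.rec (motive := fun _ => ℕ) (jm_54) (jm_55) (Nat.ble 55 b)) (Nat.ble 54 b)) (Nat.ble 52 b)) (Bool.rec (motive := fun _ => ℕ) (Bool.rec (motive := fun _ => ℕ) (Bool.rec (motive :=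 fun _ => ℕ) (jm_56) (jm_57) (Nat.ble 57 b)) (Bool.rec (motive := fun _ => ℕ) (jm_58) (jm_59) (Nat.ble 59 b)) (Nat.ble 58 b)) (Bool.rec (motive := fun _ => ℕ) (Bool.rec (motive := fun _ => ℕ) (jm_60) (jm_61) (Nat.ble 61 b)) (Bool.rec (motive := fun _ => ℕ) (jm_62) (jm_63) (Nat.ble 63 b)) (Nat.ble 62 b)) (Nat.ble 60 b)) (Nat.ble 56 b)) (Nat.ble 48 b)) (Nat.ble 32 b)) (Bool.rec (motive := fun _ => ℕ) (Bool.rec (motive := fun _ => ℕ) (Bool.rec (motive := fun _ => ℕ) (Bool.rec (motive := fun _ => ℕ) (Bool.rec (motive := fun _ => ℕ) (Bool.rec (motive := fun _ => ℕ) (jm_64) (jm_65) (Nat.ble 65 b)) (Bool.rec (motive := fun _ => ℕ) (jm_66) (jm_67) (Nat.ble 67 b)) (Nat.ble 66 b)) (Bool.rec (motive := fun _ => ℕ) (Bool.rec (motive := fun _ => ℕ) (jm_68) (jm_69) (Nat.ble 69 b)) (Bool.rec (motive := fun _ => ℕ) (jm_70) (jm_71) (Nat.ble 71 b)) (Nat.ble 70 b)) (Nat.ble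 68 b)) (Bool.rec (motive := fun _ => ℕ) (Bool.rec (motive := fun _ => ℕ) (Bool.rec (motive := fun _ => ℕ) (jm_72) (jm_73) (Nat.ble 73 b)) (Bool.rec (motive := fun _ => ℕ) (jm_74) (jm_75) (Nat.ble 75 b)) (Nat.ble 74 b)) (Bool.rec (motive := fun _ => ℕ) (Bool.rec (motive := fun _ => ℕ) (jm_76) (jm_77) (Nat.ble 77 b)) (Bool.rec (motive := fun _ => ℕ) (jm_78) (jm_79) (Nat.ble 79 b)) (Nat.ble 78 b)) (Nat.ble 76 b)) (Nat.ble 72 b)) (Bool.rec (motive := fun _ => ℕ) (Bool.rec (motive := fun _ => ℕ) (Bool.rec (motive := fun _ => ℕ) (Bool.rec (motive := fun _ => ℕ) (jm_80) (jm_81) (Nat.ble 81 b)) (Bool.rec (motive := fun _ => ℕ) (jm_82) (jm_83) (Nat.ble 83 b)) (Nat.ble 82 b)) (Bool.rec (motive := fun _ => ℕ) (Bool.rec (motive := fun _ => ℕ) (jm_84) (jm_85) (Nat.ble 85 b)) (Bool.rec (motive := fun _ => ℕ) (jm_86) (jm_87) (Nat.ble 87 b)) (Nat.ble 86 b)) (Nat.ble 84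 b)) (Bool.rec (motive := fun _ => ℕ) (Bool.rec (motive := fun _ => ℕ) (Bool.rec (motive := fun _ => ℕ) (jm_88) (jm_89) (Nat.ble 89 b)) (Bool.rec (motive := fun _ => ℕ) (jm_90) (jm_91) (Nat.ble 91 b)) (Nat.ble 90 b)) (Bool.rec (motive := fun _ => ℕ) (Bool.rec (motive := fun _ => ℕ) (jm_92) (jm_93) (Nat.ble 93 b)) (Bool.rec (motive := fun _ => ℕ) (jm_94) (jm_95) (Nat.ble 95 b)) (Nat.ble 94 b)) (Nat.ble 92 b)) (Nat.ble 88 b)) (Nat.ble 80 b)) (Bool.rec (motive := fun _ => ℕ) (Bool.rec (motive := fun _ => ℕ) (Bool.rec (motive := fun _ => ℕ) (Bool.rec (motive := fun _ => ℕ) (Bool.rec (motive := fun _ => ℕ) (jm_96) (jm_97) (Nat.ble 97 b)) (Bool.rec (motive := fun _ => ℕ) (jm_98) (jm_99) (Nat.ble 99 b)) (Nat.ble 98 b)) (Bool.rec (motive := fun _ => ℕ) (Bool.rec (motive := fun _ => ℕ) (jm_100) (jm_101) (Nat.ble 101 b)) (Bool.rec (motive := fun _ => ℕ) (jm_102)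 (jm_103) (Nat.ble 103 b)) (Nat.ble 102 b)) (Nat.ble 100 b)) (Bool.rec (motive := fun _ => ℕ) (Bool.rec (motive := fun _ => ℕ) (Bool.rec (motive := fun _ => ℕ) (jm_104) (jm_105) (Nat.ble 105 b)) (Bool.rec (motive := fun _ => ℕ) (jm_106) (jm_107) (Nat.ble 107 b)) (Nat.ble 106 b)) (Bool.rec (motive := fun _ => ℕ) (Bool.rec (motive := fun _ => ℕ) (jm_108) (jm_109) (Nat.ble 109 b)) (Bool.rec (motive := fun _ => ℕ) (jm_110) (jm_111) (Nat.ble 111 b)) (Nat.ble 110 b)) (Nat.ble 108 b)) (Nat.ble 104 b)) (Bool.rec (motive := fun _ => ℕ) (Bool.rec (motive := fun _ => ℕ) (Bool.rec (motive := fun _ => ℕ) (Bool.rec (motive := fun _ => ℕ) (jm_112) (jm_113) (Nat.ble 113 b)) (Bool.rec (motive := fun _ => ℕ) (jm_114) (jm_115) (Nat.ble 115 b)) (Nat.ble 114 b)) (Bool.rec (motive := fun _ => ℕ) (Bool.rec (motive := fun _ => ℕ) (jm_116) (jm_117) (Nat.ble 117 b)) (Bool.rec (motive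 := fun _ => ℕ) (jm_118) (jm_119) (Nat.ble 119 b)) (Nat.ble 118 b)) (Nat.ble 116 b)) (Bool.rec (motive := fun _ => ℕ) (Bool.rec (motive := fun _ => ℕ) (Bool.rec (motive := fun _ => ℕ) (jm_120) (jm_121) (Nat.ble 121 b)) (Bool.rec (motive := fun _ => ℕ) (jm_122) (jm_123) (Nat.ble 123 b)) (Nat.ble 122 b)) (Bool.rec (motive := fun _ => ℕ) (Bool.rec (motive := fun _ => ℕ) (jm_124) (jm_125) (Nat.ble 125 b)) (Bool.rec (motive := fun _ => ℕ) (jm_126) (jm_127) (Nat.ble 127 b)) (Nat.ble 126 b)) (Nat.ble 124 b)) (Nat.ble 120 b)) (Nat.ble 112 b)) (Nat.ble 96 b)) (Nat.ble 64 b)) (Bool.rec (motive := fun _ => ℕ) (Bool.rec (motive := fun _ => ℕ) (Bool.rec (motive := fun _ => ℕ) (Bool.rec (motive := fun _ => ℕ) (Bool.rec (motive := fun _ => ℕ) (Bool.rec (motive := fun _ => ℕ) (Bool.rec (motive := fun _ => ℕ) (jm_128) (jm_129) (Nat.ble 129 b)) (Bool.rec (motive := fun _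 => ℕ) (jm_130) (jm_131) (Nat.ble 131 b)) (Nat.ble 130 b)) (Bool.rec (motive := fun _ => ℕ) (Bool.rec (motive := fun _ => ℕ) (jm_132) (jm_133) (Nat.ble 133 b)) (Bool.rec (motive := fun _ => ℕ) (jm_134) (jm_135) (Nat.ble 135 b)) (Nat.ble 134 b)) (Nat.ble 132 b)) (Bool.rec (motive := fun _ => ℕ) (Bool.rec (motive := fun _ => ℕ) (Bool.rec (motive := fun _ => ℕ) (jm_136) (jm_137) (Nat.ble 137 b)) (Bool.rec (motive := fun _ => ℕ) (jm_138) (jm_139) (Nat.ble 139 b)) (Nat.ble 138 b)) (Bool.rec (motive := fun _ => ℕ) (Bool.rec (motive := fun _ => ℕ) (jm_140) (jm_141) (Nat.ble 141 b)) (Bool.rec (motive := fun _ => ℕ) (jm_142) (jm_143) (Nat.ble 143 b)) (Nat.ble 142 b)) (Nat.ble 140 b)) (Nat.ble 136 b)) (Bool.rec (motive := fun _ => ℕ) (Bool.rec (motive := fun _ => ℕ) (Bool.rec (motive := fun _ => ℕ) (Bool.rec (motive := fun _ => ℕ) (jm_144) (jm_145) (Nat.ble 145 b))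 (Bool.rec (motive := fun _ => ℕ) (jm_146) (jm_147) (Nat.ble 147 b)) (Nat.ble 146 b)) (Bool.rec (motive := fun _ => ℕ) (Bool.rec (motive := fun _ => ℕ) (jm_148) (jm_149) (Nat.ble 149 b)) (Bool.rec (motive := fun _ => ℕ) (jm_150) (jm_151) (Nat.ble 151 b)) (Nat.ble 150 b)) (Nat.ble 148 b)) (Bool.rec (motive := fun _ => ℕ) (Bool.rec (motive := fun _ => ℕ) (Bool.rec (motive := fun _ => ℕ) (jm_152) (jm_153) (Nat.ble 153 b)) (Bool.rec (motive := fun _ => ℕ) (jm_154) (jm_155) (Nat.ble 155 b)) (Nat.ble 154 b)) (Bool.rec (motive := fun _ => ℕ) (Bool.rec (motive := fun _ => ℕ) (jm_156) (jm_157) (Nat.ble 157 b)) (Bool.rec (motive := fun _ => ℕ) (jm_158) (jm_159) (Nat.ble 159 b)) (Nat.ble 158 b)) (Nat.ble 156 b)) (Nat.ble 152 b)) (Nat.ble 144 b)) (Bool.rec (motive := fun _ => ℕ) (Bool.rec (motive := fun _ => ℕ) (Bool.rec (motive := fun _ => ℕ) (Bool.rec (motive :=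 fun _ => ℕ) (Bool.rec (motive := fun _ => ℕ) (jm_160) (jm_161) (Nat.ble 161 b)) (Bool.rec (motive := fun _ => ℕ) (jm_162) (jm_163) (Nat.ble 163 b)) (Nat.ble 162 b)) (Bool.rec (motive := fun _ => ℕ) (Bool.rec (motive := fun _ => ℕ) (jm_164) (jm_165) (Nat.ble 165 b)) (Bool.rec (motive := fun _ => ℕ) (jm_166) (jm_167) (Nat.ble 167 b)) (Nat.ble 166 b)) (Nat.ble 164 b)) (0) (Nat.ble 168 b)) (0) (Nat.ble 176 b)) (Nat.ble 160 b)) (0) (Nat.ble 192 b)) (Nat.ble 128 b))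
def rw0 : List ℕ := [0, 0]
def rw1 : List ℕ := [0, 6, 0, 6, 0, 6]
def rw2 : List ℕ := [0, 8, 0, 8]
def rw3 : List ℕ := [0, 4, 0, 4]
def rw4 : List ℕ := [0, 10, 0, 10]
def rw5 : List ℕ := [0, 2, 0, 2]
def rw6 : List ℕ := [0, 12, 0, 12]
def rw7 : List ℕ := [0, 14, 0, 14]
def rw8 : List ℕ := [0, 16, 0, 16]
def rw9 : List ℕ := [0, 12, 0, 12]
def rw10 : List ℕ := [0, 10, 0, 10]
def rw11 : List ℕ := [0, 14, 0, 14]
def rw12 : List ℕ := [0, 8, 0, 8]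
def rw13 : List ℕ := [0, 16, 0, 16]
def rw14 : List ℕ := [0, 4, 0, 4]
def rw15 : List ℕ := [0, 2, 0, 2]
def rw16 : List ℕ := [0, 6, 0, 6, 0, 6]
def rw17 : List ℕ := [0, 19, 0, 18]
def rw18 : List ℕ := [0, 6, 0, 6, 0, 6]
def rw19 : List ℕ := [0, 18, 0, 19]
def rw20 : List ℕ := [0, 8, 10, 12, 8, 4, 2, 8, 6, 0, 8, 10, 12, 8, 4, 2, 8, 6, 0, 8, 10, 12, 8, 4, 2, 8, 6, 0, 8, 10, 12, 8, 4, 2, 8, 6, 0, 8, 10, 12, 8, 4, 2, 8, 6, 0, 8, 10, 12, 8, 4, 2, 8, 6, 0, 8, 10, 12, 8, 4, 2, 8, 6, 0, 8, 10, 12, 8, 4, 2, 8, 6, 0, 8, 10, 12, 8, 4, 2, 8, 6, 0, 8, 10, 12, 8, 4, 2, 19, 8, 6]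
def rw21 : List ℕ := [0, 8, 10, 12, 8, 4, 2, 8, 6, 0, 8, 10, 12, 8, 4, 2, 8, 6, 0, 8, 10, 12, 8, 4, 2, 8, 6, 0, 8, 10, 12, 8, 4, 2, 8, 6, 0, 8, 10, 12, 8, 4, 2, 8, 6, 0, 8, 10, 12, 8, 4, 2, 8, 6, 0, 8, 10, 12, 8, 4, 2, 19, 8, 6, 0, 8, 10, 12, 8, 4, 2, 8, 6, 0, 8, 10, 12, 8, 4, 2, 8, 6, 0, 8, 10, 12, 8, 4, 2, 8, 6]
def rw22 : List ℕ := [0, 8, 10, 12, 8, 4, 2, 8, 6, 0, 8, 10, 12, 8, 4, 2, 8, 6, 0, 8, 10, 12, 8, 4, 2, 8, 6, 0, 8, 10, 12, 8, 4, 2, 8, 6, 0, 8, 10, 12, 8, 4, 2, 8, 6, 0, 8, 10, 12, 8, 4, 2, 8, 6, 0, 8, 10, 12, 8, 4, 2, 8, 6, 0, 8, 10, 12, 8, 4, 2, 19, 8, 6, 0, 8, 10, 12, 8, 4, 2, 8, 6, 0, 8, 10, 12, 8, 4, 2, 8, 6]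
def rw23 : List ℕ := [0, 8, 10, 12, 8, 4, 2, 8, 6, 0, 8, 10, 12, 8, 4, 2, 19, 8, 6, 0, 8, 10, 12, 8, 4, 2, 8, 6, 0, 8, 10, 12, 8, 4, 2, 8, 6, 0, 8, 10, 12, 8, 4, 2, 8, 6, 0, 8, 10, 12, 8, 4, 2, 8, 6, 0, 8, 10, 12, 8, 4, 2, 8, 6, 0, 8, 10, 12, 8, 4, 2, 8, 6, 0, 8, 10, 12, 8, 4, 2, 8, 6, 0, 8, 10, 12, 8, 4, 2, 8, 6]
def rw24 : List ℕ := [0, 8, 10, 12, 8, 4, 2, 8, 6, 0, 8, 10, 12, 8, 4, 2, 8, 6, 0, 8, 10, 12, 8, 4, 2, 8, 6, 0, 8, 10, 12, 8, 4, 2, 8, 6, 0, 8, 10, 12, 8, 4, 2, 8, 6, 0, 8, 10, 12, 8, 4, 2, 8, 6, 0, 8, 10, 12, 8, 4, 2, 8, 6, 0, 8, 10, 12, 8, 4, 2, 8, 6, 0, 8, 10, 12, 8, 4, 2, 19, 8, 6, 0, 8, 10, 12, 8, 4, 2, 8, 6]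
def rw25 : List ℕ := [1, 5, 1, 5]
def rw26 : List ℕ := [1, 15, 1, 15]
def rw27 : List ℕ := [1, 13, 1, 13]
def rw28 : List ℕ := [1, 11, 1, 11]
def rw29 : List ℕ := [1, 7, 9, 3, 5, 9, 13, 11, 9, 1, 7, 9, 3, 5, 9, 13, 11, 9, 1, 7, 9, 3, 5, 9, 13, 11, 9, 1, 7, 9, 18, 3, 5, 9, 13, 11, 9, 1, 7, 9, 3, 5, 9, 13, 11, 9, 1, 7, 9, 3, 5, 9, 13, 11, 9, 1, 7, 9, 3, 5, 9, 13, 11, 9, 1, 7, 9, 3, 5, 9, 13, 11, 9, 1, 7, 9, 3, 5, 9, 13, 11, 9, 1, 7, 9, 3, 5, 9, 13, 11, 9]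
def rw30 : List ℕ := [1, 19, 1, 18]
def rw31 : List ℕ := [1, 17, 1, 17]
def rw32 : List ℕ := [1, 13, 1, 13]
def rw33 : List ℕ := [1, 11, 1, 11]
def rw34 : List ℕ := [1, 9, 1, 9]
def rw35 : List ℕ := [1, 7, 1, 7, 1, 7]
def rw36 : List ℕ := [1, 7, 9, 3, 5, 9, 13, 11, 9, 1, 7, 9, 3, 5, 9, 13, 11, 9, 1, 7, 9, 3, 5, 9, 13, 11, 9, 1, 7, 9, 3, 5, 9, 13, 11, 9, 1, 7, 9, 3, 5, 9, 13, 11, 9, 1, 7, 9, 3, 5, 9, 13, 11, 9, 1, 7, 9, 3, 5, 9, 13, 11, 9, 1, 7, 9, 3, 5, 9, 13, 11, 9, 1, 7, 9, 3, 5, 9, 13, 11, 9, 1, 7, 9, 18, 3, 5, 9, 13, 11, 9]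
def rw37 : List ℕ := [1, 7, 1, 7, 1, 7]
def rw38 : List ℕ := [1, 9, 1, 9]
def rw39 : List ℕ := [1, 5, 1, 5]
def rw40 : List ℕ := [1, 3, 1, 3]
def rw41 : List ℕ := [1, 1]
def rw42 : List ℕ := [1, 18, 1, 19]
def rw43 : List ℕ := [1, 15, 1, 15]
def rw44 : List ℕ := [1, 7, 9, 18, 3, 5, 9, 13, 11, 9, 1, 7, 9, 3, 5, 9, 13, 11, 9, 1, 7, 9, 3, 5, 9, 13, 11, 9, 1, 7, 9, 3, 5, 9, 13, 11, 9, 1, 7, 9, 3, 5, 9, 13, 11, 9, 1, 7, 9, 3, 5, 9, 13, 11, 9, 1, 7, 9, 3, 5, 9, 13, 11, 9, 1, 7, 9, 3, 5, 9, 13, 11, 9, 1, 7, 9, 3, 5, 9, 13, 11, 9, 1, 7, 9, 3, 5, 9, 13, 11, 9]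
def rw45 : List ℕ := [2, 0, 2, 0]
def rw46 : List ℕ := [2, 6, 2, 6]
def rw47 : List ℕ := [2, 8, 2, 8]
def rw48 : List ℕ := [2, 10, 2, 10]
def rw49 : List ℕ := [2, 2]
def rw50 : List ℕ := [2, 10, 2, 10]
def rw51 : List ℕ := [2, 12, 2, 12]
def rw52 : List ℕ := [2, 8, 2, 8]
def rw53 : List ℕ := [2, 12, 2, 12]
def rw54 : List ℕ := [2, 14, 2, 14]
def rw55 : List ℕ := [2, 6, 2, 6]
def rw56 : List ℕ := [2, 14, 2, 14]
def rw57 : List ℕ := [2, 16, 2, 16]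
def rw58 : List ℕ := [2, 4, 2, 4, 2, 4]
def rw59 : List ℕ := [2, 0, 2, 0]
def rw60 : List ℕ := [2, 16, 2, 16]
def rw61 : List ℕ := [2, 4, 2, 4, 2, 4]
def rw62 : List ℕ := [2, 4, 2, 4, 2, 4]
def rw63 : List ℕ := [2, 19, 2, 18]
def rw64 : List ℕ := [2, 8, 6, 0, 8, 10, 12, 8, 4, 2, 8, 6, 0, 8, 10, 12, 8, 4, 2, 8, 6, 0, 8, 10, 12, 8, 4, 2, 8, 6, 0, 8, 10, 12, 8, 4, 2, 8, 6, 0, 8, 10, 12, 8, 4, 2, 8, 6, 0, 8, 10, 12, 8, 4, 2, 8, 6, 0, 8, 10, 12, 8, 4, 2, 8, 6, 0, 8, 10, 12, 8, 4, 2, 19, 8, 6, 0, 8, 10, 12, 8, 4, 2, 8, 6, 0, 8, 10, 12, 8, 4]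
def rw65 : List ℕ := [2, 8, 6, 0, 8, 10, 12, 8, 4, 2, 8, 6, 0, 8, 10, 12, 8, 4, 2, 8, 6, 0, 8, 10, 12, 8, 4, 2, 8, 6, 0, 8, 10, 12, 8, 4, 2, 8, 6, 0, 8, 10, 12, 8, 4, 2, 19, 8, 6, 0, 8, 10, 12, 8, 4, 2, 8, 6, 0, 8, 10, 12, 8, 4, 2, 8, 6, 0, 8, 10, 12, 8, 4, 2, 8, 6, 0, 8, 10, 12, 8, 4, 2, 8, 6, 0, 8, 10, 12, 8, 4]
def rw66 : List ℕ := [2, 18, 2, 19]
def rw67 : List ℕ := [2, 8, 6, 0, 8, 10, 12, 8, 4, 2, 8, 6, 0, 8, 10, 12, 8, 4, 2, 8, 6, 0, 8, 10, 12, 8, 4, 2, 8, 6, 0, 8, 10, 12, 8, 4, 2, 8, 6, 0, 8, 10, 12, 8, 4, 2, 8, 6, 0, 8, 10, 12, 8, 4, 2, 8, 6, 0, 8, 10, 12, 8, 4, 2, 8, 6, 0, 8, 10, 12, 8, 4, 2, 8, 6, 0, 8, 10, 12, 8, 4, 2, 19, 8, 6, 0, 8, 10, 12, 8, 4]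
def rw68 : List ℕ := [3, 11, 3, 11]
def rw69 : List ℕ := [3, 9, 3, 9]
def rw70 : List ℕ := [3, 13, 3, 13]
def rw71 : List ℕ := [3, 1, 3, 1]
def rw72 : List ℕ := [3, 5, 9, 13, 11, 9, 1, 7, 9, 3, 5, 9, 13, 11, 9, 1, 7, 9, 3, 5, 9, 13, 11, 9, 1, 7, 9, 3, 5, 9, 13, 11, 9, 1, 7, 9, 3, 5, 9, 13, 11, 9, 1, 7, 9, 18, 3, 5, 9, 13, 11, 9, 1, 7, 9, 3, 5, 9, 13, 11, 9, 1, 7, 9, 3, 5, 9, 13, 11, 9, 1, 7, 9, 3, 5, 9, 13, 11, 9, 1, 7, 9, 3, 5, 9, 13, 11, 9, 1, 7, 9]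
def rw73 : List ℕ := [3, 11, 3, 11]
def rw74 : List ℕ := [3, 9, 3, 9]
def rw75 : List ℕ := [3, 17, 3, 17]
def rw76 : List ℕ := [3, 15, 3, 15]
def rw77 : List ℕ := [3, 7, 3, 7]
def rw78 : List ℕ := [3, 5, 3, 5, 3, 5]
def rw79 : List ℕ := [3, 5, 9, 13, 11, 9, 1, 7, 9, 3, 5, 9, 13, 11, 9, 1, 7, 9, 3, 5, 9, 13, 11, 9, 1, 7, 9, 3, 5, 9, 13, 11, 9, 1, 7, 9, 3, 5, 9, 13, 11, 9, 1, 7, 9, 3, 5, 9, 13, 11, 9, 1, 7, 9, 3, 5, 9, 13, 11, 9, 1, 7, 9, 3, 5, 9, 13, 11, 9, 1, 7, 9, 18, 3, 5, 9, 13, 11, 9, 1, 7, 9, 3, 5, 9, 13, 11, 9, 1, 7, 9]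
def rw80 : List ℕ := [3, 18, 3, 19]
def rw81 : List ℕ := [3, 1, 3, 1]
def rw82 : List ℕ := [3, 19, 3, 18]
def rw83 : List ℕ := [3, 17, 3, 17]
def rw84 : List ℕ := [3, 13, 3, 13]
def rw85 : List ℕ := [4, 0, 4, 0]
def rw86 : List ℕ := [4, 6, 4, 6]
def rw87 : List ℕ := [4, 4]
def rw88 : List ℕ := [4, 10, 4, 10]
def rw89 : List ℕ := [4, 2, 4, 2, 4, 2]
def rw90 : List ℕ := [4, 10, 4, 10]
def rw91 : List ℕ := [4, 12, 4, 12]
def rw92 : List ℕ := [4, 8, 4, 8, 4, 8]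
def rw93 : List ℕ := [4, 12, 4, 12]
def rw94 : List ℕ := [4, 14, 4, 14]
def rw95 : List ℕ := [4, 14, 4, 14]
def rw96 : List ℕ := [4, 16, 4, 16]
def rw97 : List ℕ := [4, 6, 4, 6]
def rw98 : List ℕ := [4, 16, 4, 16]
def rw99 : List ℕ := [4, 0, 4, 0]
def rw100 : List ℕ := [4, 2, 4, 2, 4, 2]
def rw101 : List ℕ := [4, 8, 4, 8, 4, 8]
def rw102 : List ℕ := [4, 2, 8, 6, 0, 8, 10, 12, 8, 4, 2, 8, 6, 0, 8, 10, 12, 8, 4, 2, 8, 6, 0, 8, 10, 12, 8, 4, 2, 8, 6, 0, 8, 10, 12, 8, 4, 2, 8, 6, 0, 8, 10, 12, 8, 4, 2, 8, 6, 0, 8, 10, 12, 8, 4, 2, 8, 6, 0, 8, 10, 12, 8, 4, 2, 8, 6, 0, 8, 10, 12, 8, 4, 2, 19, 8, 6, 0, 8, 10, 12, 8, 4, 2, 8, 6, 0, 8, 10, 12, 8]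
def rw103 : List ℕ := [4, 2, 4, 2, 4, 2]
def rw104 : List ℕ := [4, 2, 8, 6, 0, 8, 10, 12, 8, 4, 2, 8, 6, 0, 8, 10, 12, 8, 4, 2, 8, 6, 0, 8, 10, 12, 8, 4, 2, 19, 8, 6, 0, 8, 10, 12, 8, 4, 2, 8, 6, 0, 8, 10, 12, 8, 4, 2, 8, 6, 0, 8, 10, 12, 8, 4, 2, 8, 6, 0, 8, 10, 12, 8, 4, 2, 8, 6, 0, 8, 10, 12, 8, 4, 2, 8, 6, 0, 8, 10, 12, 8, 4, 2, 8, 6, 0, 8, 10, 12, 8]
def rw105 : List ℕ := [4, 8, 4, 8, 4, 8]
def rw106 : List ℕ := [4, 19, 4, 18]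
def rw107 : List ℕ := [4, 2, 8, 6, 0, 8, 10, 12, 8, 4, 2, 8, 6, 0, 8, 10, 12, 8, 4, 2, 8, 6, 0, 8, 10, 12, 8, 4, 2, 8, 6, 0, 8, 10, 12, 8, 4, 2, 8, 6, 0, 8, 10, 12, 8, 4, 2, 8, 6, 0, 8, 10, 12, 8, 4, 2, 8, 6, 0, 8, 10, 12, 8, 4, 2, 19, 8, 6, 0, 8, 10, 12, 8, 4, 2, 8, 6, 0, 8, 10, 12, 8, 4, 2, 8, 6, 0, 8, 10, 12, 8]
def rw108 : List ℕ := [4, 2, 8, 6, 0, 8, 10, 12, 8, 4, 2, 8, 6, 0, 8, 10, 12, 8, 4, 2, 8, 6, 0, 8, 10, 12, 8, 4, 2, 8, 6, 0, 8, 10, 12, 8, 4, 2, 8, 6, 0, 8, 10, 12, 8, 4, 2, 19, 8, 6, 0, 8, 10, 12, 8, 4, 2, 8, 6, 0, 8, 10, 12, 8, 4, 2, 8, 6, 0, 8, 10, 12, 8, 4, 2, 8, 6, 0, 8, 10, 12, 8, 4, 2, 8, 6, 0, 8, 10, 12, 8]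
def rw109 : List ℕ := [4, 18, 4, 19]
def rw110 : List ℕ := [4, 2, 8, 6, 0, 8, 10, 12, 8, 4, 2, 8, 6, 0, 8, 10, 12, 8, 4, 2, 8, 6, 0, 8, 10, 12, 8, 4, 2, 8, 6, 0, 8, 10, 12, 8, 4, 2, 8, 6, 0, 8, 10, 12, 8, 4, 2, 8, 6, 0, 8, 10, 12, 8, 4, 2, 8, 6, 0, 8, 10, 12, 8, 4, 2, 8, 6, 0, 8, 10, 12, 8, 4, 2, 8, 6, 0, 8, 10, 12, 8, 4, 2, 19, 8, 6, 0, 8, 10, 12, 8]
def rw111 : List ℕ := [5, 13, 5, 13]
def rw112 : List ℕ := [5, 13, 5, 13]
def rw113 : List ℕ := [5, 5]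
def rw114 : List ℕ := [5, 19, 5, 18]
def rw115 : List ℕ := [5, 1, 5, 1]
def rw116 : List ℕ := [5, 9, 13, 11, 9, 1, 7, 9, 3, 5, 9, 13, 11, 9, 1, 7, 9, 3, 5, 9, 13, 11, 9, 1, 7, 9, 3, 5, 9, 13, 11, 9, 1, 7, 9, 3, 5, 9, 13, 11, 9, 1, 7, 9, 3, 5, 9, 13, 11, 9, 1, 7, 9, 3, 5, 9, 13, 11, 9, 1, 7, 9, 18, 3, 5, 9, 13, 11, 9, 1, 7, 9, 3, 5, 9, 13, 11, 9, 1, 7, 9, 3, 5, 9, 13, 11, 9, 1, 7, 9, 3]
def rw117 : List ℕ := [5, 7, 5, 7]
def rw118 : List ℕ := [5, 9, 5, 9, 5, 9]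
def rw119 : List ℕ := [5, 9, 5, 9, 5, 9]
def rw120 : List ℕ := [5, 17, 5, 17]
def rw121 : List ℕ := [5, 11, 5, 11]
def rw122 : List ℕ := [5, 15, 5, 15]
def rw123 : List ℕ := [5, 15, 5, 15]
def rw124 : List ℕ := [5, 11, 5, 11]
def rw125 : List ℕ := [5, 1, 5, 1]
def rw126 : List ℕ := [5, 9, 13, 11, 9, 1, 7, 9, 3, 5, 9, 13, 11, 9, 1, 7, 9, 3, 5, 9, 13, 11, 9, 1, 7, 9, 3, 5, 9, 13, 11, 9, 1, 7, 9, 3, 5, 9, 13, 11, 9, 1, 7, 9, 3, 5, 9, 13, 11, 9, 1, 7, 9, 3, 5, 9, 13, 11, 9, 1, 7, 9, 3, 5, 9, 13, 11, 9, 1, 7, 9, 3, 5, 9, 13, 11, 9, 1, 7, 9, 18, 3, 5, 9, 13, 11, 9, 1, 7, 9, 3]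
def rw127 : List ℕ := [5, 17, 5, 17]
def rw128 : List ℕ := [5, 7, 5, 7]
def rw129 : List ℕ := [6, 6]
def rw130 : List ℕ := [6, 8, 6, 8, 6, 8]
def rw131 : List ℕ := [6, 4, 6, 4]
def rw132 : List ℕ := [6, 10, 6, 10]
def rw133 : List ℕ := [6, 2, 6, 2]
def rw134 : List ℕ := [6, 12, 6, 12]
def rw135 : List ℕ := [6, 14, 6, 14]
def rw136 : List ℕ := [6, 12, 6, 12]
def rw137 : List ℕ := [6, 16, 6, 16]
def rw138 : List ℕ := [6, 0, 6, 0, 6, 0]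
def rw139 : List ℕ := [6, 10, 6, 10]
def rw140 : List ℕ := [6, 14, 6, 14]
def rw141 : List ℕ := [6, 16, 6, 16]
def rw142 : List ℕ := [6, 0, 6, 0, 6, 0]
def rw143 : List ℕ := [6, 8, 6, 8, 6, 8]
def rw144 : List ℕ := [6, 4, 6, 4]
def rw145 : List ℕ := [6, 2, 6, 2]
def rw146 : List ℕ := [6, 8, 6, 8, 6, 8]
def rw147 : List ℕ := [6, 0, 8, 10, 12, 8, 4, 2, 8, 6, 0, 8, 10, 12, 8, 4, 2, 19, 8, 6, 0, 8, 10, 12, 8, 4, 2, 8, 6, 0, 8, 10, 12, 8, 4, 2, 8, 6, 0, 8, 10, 12, 8, 4, 2, 8, 6, 0, 8, 10, 12, 8, 4, 2, 8, 6, 0, 8, 10, 12, 8, 4, 2, 8, 6, 0, 8, 10, 12, 8, 4, 2, 8, 6, 0, 8, 10, 12, 8, 4, 2, 8, 6, 0, 8, 10, 12, 8, 4, 2, 8]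
def rw148 : List ℕ := [6, 19, 6, 18]
def rw149 : List ℕ := [6, 0, 8, 10, 12, 8, 4, 2, 8, 6, 0, 8, 10, 12, 8, 4, 2, 8, 6, 0, 8, 10, 12, 8, 4, 2, 8, 6, 0, 8, 10, 12, 8, 4, 2, 8, 6, 0, 8, 10, 12, 8, 4, 2, 8, 6, 0, 8, 10, 12, 8, 4, 2, 19, 8, 6, 0, 8, 10, 12, 8, 4, 2, 8, 6, 0, 8, 10, 12, 8, 4, 2, 8, 6, 0, 8, 10, 12, 8, 4, 2, 8, 6, 0, 8, 10, 12, 8, 4, 2, 8]
def rw150 : List ℕ := [6, 0, 8, 10, 12, 8, 4, 2, 8, 6, 0, 8, 10, 12, 8, 4, 2, 8, 6, 0, 8, 10, 12, 8, 4, 2, 8, 6, 0, 8, 10, 12, 8, 4, 2, 8, 6, 0, 8, 10, 12, 8, 4, 2, 8, 6, 0, 8, 10, 12, 8, 4, 2, 8, 6, 0, 8, 10, 12, 8, 4, 2, 8, 6, 0, 8, 10, 12, 8, 4, 2, 8, 6, 0, 8, 10, 12, 8, 4, 2, 8, 6, 0, 8, 10, 12, 8, 4, 2, 19, 8]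
def rw151 : List ℕ := [6, 18, 6, 19]
def rw152 : List ℕ := [6, 0, 6, 0, 6, 0]
def rw153 : List ℕ := [6, 0, 8, 10, 12, 8, 4, 2, 8, 6, 0, 8, 10, 12, 8, 4, 2, 8, 6, 0, 8, 10, 12, 8, 4, 2, 8, 6, 0, 8, 10, 12, 8, 4, 2, 19, 8, 6, 0, 8, 10, 12, 8, 4, 2, 8, 6, 0, 8, 10, 12, 8, 4, 2, 8, 6, 0, 8, 10, 12, 8, 4, 2, 8, 6, 0, 8, 10, 12, 8, 4, 2, 8, 6, 0, 8, 10, 12, 8, 4, 2, 8, 6, 0, 8, 10, 12, 8, 4, 2, 8]
def rw154 : List ℕ := [6, 0, 8, 10, 12, 8, 4, 2, 8, 6, 0, 8, 10, 12, 8, 4, 2, 8, 6, 0, 8, 10, 12, 8, 4, 2, 8, 6, 0, 8, 10, 12, 8, 4, 2, 8, 6, 0, 8, 10, 12, 8, 4, 2, 8, 6, 0, 8, 10, 12, 8, 4, 2, 8, 6, 0, 8, 10, 12, 8, 4, 2, 8, 6, 0, 8, 10, 12, 8, 4, 2, 8, 6, 0, 8, 10, 12, 8, 4, 2, 19, 8, 6, 0, 8, 10, 12, 8, 4, 2, 8]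
def rw155 : List ℕ := [7, 13, 7, 13]
def rw156 : List ℕ := [7, 15, 7, 15]
def rw157 : List ℕ := [7, 5, 7, 5]
def rw158 : List ℕ := [7, 5, 7, 5]
def rw159 : List ℕ := [7, 1, 7, 1, 7, 1]
def rw160 : List ℕ := [7, 11, 7, 11]
def rw161 : List ℕ := [7, 15, 7, 15]
def rw162 : List ℕ := [7, 1, 7, 1, 7, 1]
def rw163 : List ℕ := [7, 17, 7, 17]
def rw164 : List ℕ := [7, 9, 3, 5, 9, 13, 11, 9, 1, 7, 9, 3, 5, 9, 13, 11, 9, 1, 7, 9, 3, 5, 9, 13, 11, 9, 1, 7, 9, 18, 3, 5, 9, 13, 11, 9, 1, 7, 9, 3, 5, 9, 13, 11, 9, 1, 7, 9, 3, 5, 9, 13, 11, 9, 1, 7, 9, 3, 5, 9, 13, 11, 9, 1, 7, 9, 3, 5, 9, 13, 11, 9, 1, 7, 9, 3, 5, 9, 13, 11, 9, 1, 7, 9, 3, 5, 9, 13, 11, 9, 1]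
def rw165 : List ℕ := [7, 9, 18, 3, 5, 9, 13, 11, 9, 1, 7, 9, 3, 5, 9, 13, 11, 9, 1, 7, 9, 3, 5, 9, 13, 11, 9, 1, 7, 9, 3, 5, 9, 13, 11, 9, 1, 7, 9, 3, 5, 9, 13, 11, 9, 1, 7, 9, 3, 5, 9, 13, 11, 9, 1, 7, 9, 3, 5, 9, 13, 11, 9, 1, 7, 9, 3, 5, 9, 13, 11, 9, 1, 7, 9, 3, 5, 9, 13, 11, 9, 1, 7, 9, 3, 5, 9, 13, 11, 9, 1]
def rw166 : List ℕ := [7, 9, 3, 5, 9, 13, 11, 9, 1, 7, 9, 3, 5, 9, 13, 11, 9, 1, 7, 9, 18, 3, 5, 9, 13, 11, 9, 1, 7, 9, 3, 5, 9, 13, 11, 9, 1, 7, 9, 3, 5, 9, 13, 11, 9, 1, 7, 9, 3, 5, 9, 13, 11, 9, 1, 7, 9, 3, 5, 9, 13, 11, 9, 1, 7, 9, 3, 5, 9, 13, 11, 9, 1, 7, 9, 3, 5, 9, 13, 11, 9, 1, 7, 9, 3, 5, 9, 13, 11, 9, 1]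
def rw167 : List ℕ := [7, 9, 7, 9, 7, 9]
def rw168 : List ℕ := [7, 11, 7, 11]
def rw169 : List ℕ := [7, 9, 7, 9, 7, 9]
def rw170 : List ℕ := [7, 13, 7, 13]
def rw171 : List ℕ := [7, 7]
def rw172 : List ℕ := [7, 19, 7, 18]
def rw173 : List ℕ := [7, 3, 7, 3]
def rw174 : List ℕ := [7, 17, 7, 17]
def rw175 : List ℕ := [7, 9, 3, 5, 9, 13, 11, 9, 1, 7, 9, 18, 3, 5, 9, 13, 11, 9, 1, 7, 9, 3, 5, 9, 13, 11, 9, 1, 7, 9, 3, 5, 9, 13, 11, 9, 1, 7, 9, 3, 5, 9, 13, 11, 9, 1, 7, 9, 3, 5, 9, 13, 11, 9, 1, 7, 9, 3, 5, 9, 13, 11, 9, 1, 7, 9, 3, 5, 9, 13, 11, 9, 1, 7, 9, 3, 5, 9, 13, 11, 9, 1, 7, 9, 3, 5, 9, 13, 11, 9, 1]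
def rw176 : List ℕ := [7, 9, 3, 5, 9, 13, 11, 9, 1, 7, 9, 3, 5, 9, 13, 11, 9, 1, 7, 9, 3, 5, 9, 13, 11, 9, 1, 7, 9, 3, 5, 9, 13, 11, 9, 1, 7, 9, 3, 5, 9, 13, 11, 9, 1, 7, 9, 3, 5, 9, 13, 11, 9, 1, 7, 9, 18, 3, 5, 9, 13, 11, 9, 1, 7, 9, 3, 5, 9, 13, 11, 9, 1, 7, 9, 3, 5, 9, 13, 11, 9, 1, 7, 9, 3, 5, 9, 13, 11, 9, 1]
def rw177 : List ℕ := [7, 1, 7, 1, 7, 1]
def rw178 : List ℕ := [8, 0, 8, 0]
def rw179 : List ℕ := [8, 8]
def rw180 : List ℕ := [8, 4, 8, 4, 8, 4]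
def rw181 : List ℕ := [8, 10, 8, 10, 8, 10]
def rw182 : List ℕ := [8, 2, 8, 2]
def rw183 : List ℕ := [8, 12, 8, 12]
def rw184 : List ℕ := [8, 12, 8, 12]
def rw185 : List ℕ := [8, 14, 8, 14]
def rw186 : List ℕ := [8, 6, 8, 6, 8, 6]
def rw187 : List ℕ := [8, 14, 8, 14]
def rw188 : List ℕ := [8, 16, 8, 16]
def rw189 : List ℕ := [8, 16, 8, 16]
def rw190 : List ℕ := [8, 6, 8, 6, 8, 6]
def rw191 : List ℕ := [8, 4, 8, 4, 8, 4]
def rw192 : List ℕ := [8, 0, 8, 0]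
def rw193 : List ℕ := [8, 2, 8, 2]
def rw194 : List ℕ := [8, 10, 8, 10, 8, 10]
def rw195 : List ℕ := [8, 4, 8, 4, 8, 4]
def rw196 : List ℕ := [8, 4, 2, 8, 6, 0, 8, 10, 12, 8, 4, 2, 8, 6, 0, 8, 10, 12, 8, 4, 2, 8, 6, 0, 8, 10, 12, 8, 4, 2, 8, 6, 0, 8, 10, 12, 8, 4, 2, 8, 6, 0, 8, 10, 12, 8, 4, 2, 8, 6, 0, 8, 10, 12, 8, 4, 2, 19, 8, 6, 0, 8, 10, 12, 8, 4, 2, 8, 6, 0, 8, 10, 12, 8, 4, 2, 8, 6, 0, 8, 10, 12, 8, 4, 2, 8, 6, 0, 8, 10, 12]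
def rw197 : List ℕ := [8, 6, 0, 8, 10, 12, 8, 4, 2, 8, 6, 0, 8, 10, 12, 8, 4, 2, 8, 6, 0, 8, 10, 12, 8, 4, 2, 8, 6, 0, 8, 10, 12, 8, 4, 2, 8, 6, 0, 8, 10, 12, 8, 4, 2, 8, 6, 0, 8, 10, 12, 8, 4, 2, 8, 6, 0, 8, 10, 12, 8, 4, 2, 8, 6, 0, 8, 10, 12, 8, 4, 2, 8, 6, 0, 8, 10, 12, 8, 4, 2, 19, 8, 6, 0, 8, 10, 12, 8, 4, 2]
def rw198 : List ℕ := [8, 6, 0, 8, 10, 12, 8, 4, 2, 8, 6, 0, 8, 10, 12, 8, 4, 2, 19, 8, 6, 0, 8, 10, 12, 8, 4, 2, 8, 6, 0, 8, 10, 12, 8, 4, 2, 8, 6, 0, 8, 10, 12, 8, 4, 2, 8, 6, 0, 8, 10, 12, 8, 4, 2, 8, 6, 0, 8, 10, 12, 8, 4, 2, 8, 6, 0, 8, 10, 12, 8, 4, 2, 8, 6, 0, 8, 10, 12, 8, 4, 2, 8, 6, 0, 8, 10, 12, 8, 4, 2]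
def rw199 : List ℕ := [8, 4, 2, 8, 6, 0, 8, 10, 12, 8, 4, 2, 8, 6, 0, 8, 10, 12, 8, 4, 2, 8, 6, 0, 8, 10, 12, 8, 4, 2, 8, 6, 0, 8, 10, 12, 8, 4, 2, 8, 6, 0, 8, 10, 12, 8, 4, 2, 8, 6, 0, 8, 10, 12, 8, 4, 2, 8, 6, 0, 8, 10, 12, 8, 4, 2, 8, 6, 0, 8, 10, 12, 8, 4, 2, 19, 8, 6, 0, 8, 10, 12, 8, 4, 2, 8, 6, 0, 8, 10, 12]
def rw200 : List ℕ := [8, 6, 8, 6, 8, 6]
def rw201 : List ℕ := [8, 19, 8, 18]
def rw202 : List ℕ := [8, 10, 12, 8, 4, 2, 8, 6, 0, 8, 10, 12, 8, 4, 2, 8, 6, 0, 8, 10, 12, 8, 4, 2, 8, 6, 0, 8, 10, 12, 8, 4, 2, 8, 6, 0, 8, 10, 12, 8, 4, 2, 8, 6, 0, 8, 10, 12, 8, 4, 2, 8, 6, 0, 8, 10, 12, 8, 4, 2, 8, 6, 0, 8, 10, 12, 8, 4, 2, 8, 6, 0, 8, 10, 12, 8, 4, 2, 8, 6, 0, 8, 10, 12, 8, 4, 2, 19, 8, 6, 0]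
def rw203 : List ℕ := [8, 10, 12, 8, 4, 2, 8, 6, 0, 8, 10, 12, 8, 4, 2, 8, 6, 0, 8, 10, 12, 8, 4, 2, 8, 6, 0, 8, 10, 12, 8, 4, 2, 19, 8, 6, 0, 8, 10, 12, 8, 4, 2, 8, 6, 0, 8, 10, 12, 8, 4, 2, 8, 6, 0, 8, 10, 12, 8, 4, 2, 8, 6, 0, 8, 10, 12, 8, 4, 2, 8, 6, 0, 8, 10, 12, 8, 4, 2, 8, 6, 0, 8, 10, 12, 8, 4, 2, 8, 6, 0]
def rw204 : List ℕ := [8, 10, 8, 10, 8, 10]
def rw205 : List ℕ := [8, 18, 8, 19]
def rw206 : List ℕ := [8, 10, 12, 8, 4, 2, 8, 6, 0, 8, 10, 12, 8, 4, 2, 8, 6, 0, 8, 10, 12, 8, 4, 2, 8, 6, 0, 8, 10, 12, 8, 4, 2, 8, 6, 0, 8, 10, 12, 8, 4, 2, 8, 6, 0, 8, 10, 12, 8, 4, 2, 8, 6, 0, 8, 10, 12, 8, 4, 2, 8, 6, 0, 8, 10, 12, 8, 4, 2, 19, 8, 6, 0, 8, 10, 12, 8, 4, 2, 8, 6, 0, 8, 10, 12, 8, 4, 2, 8, 6, 0]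
def rw207 : List ℕ := [8, 6, 0, 8, 10, 12, 8, 4, 2, 8, 6, 0, 8, 10, 12, 8, 4, 2, 8, 6, 0, 8, 10, 12, 8, 4, 2, 8, 6, 0, 8, 10, 12, 8, 4, 2, 8, 6, 0, 8, 10, 12, 8, 4, 2, 8, 6, 0, 8, 10, 12, 8, 4, 2, 8, 6, 0, 8, 10, 12, 8, 4, 2, 19, 8, 6, 0, 8, 10, 12, 8, 4, 2, 8, 6, 0, 8, 10, 12, 8, 4, 2, 8, 6, 0, 8, 10, 12, 8, 4, 2]
def rw208 : List ℕ := [8, 10, 12, 8, 4, 2, 19, 8, 6, 0, 8, 10, 12, 8, 4, 2, 8, 6, 0, 8, 10, 12, 8, 4, 2, 8, 6, 0, 8, 10, 12, 8, 4, 2, 8, 6, 0, 8, 10, 12, 8, 4, 2, 8, 6, 0, 8, 10, 12, 8, 4, 2, 8, 6, 0, 8, 10, 12, 8, 4, 2, 8, 6, 0, 8, 10, 12, 8, 4, 2, 8, 6, 0, 8, 10, 12, 8, 4, 2, 8, 6, 0, 8, 10, 12, 8, 4, 2, 8, 6, 0]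
def rw209 : List ℕ := [8, 6, 0, 8, 10, 12, 8, 4, 2, 8, 6, 0, 8, 10, 12, 8, 4, 2, 8, 6, 0, 8, 10, 12, 8, 4, 2, 8, 6, 0, 8, 10, 12, 8, 4, 2, 8, 6, 0, 8, 10, 12, 8, 4, 2, 8, 6, 0, 8, 10, 12, 8, 4, 2, 19, 8, 6, 0, 8, 10, 12, 8, 4, 2, 8, 6, 0, 8, 10, 12, 8, 4, 2, 8, 6, 0, 8, 10, 12, 8, 4, 2, 8, 6, 0, 8, 10, 12, 8, 4, 2]
def rw210 : List ℕ := [8, 6, 0, 8, 10, 12, 8, 4, 2, 8, 6, 0, 8, 10, 12, 8, 4, 2, 8, 6, 0, 8, 10, 12, 8, 4, 2, 8, 6, 0, 8, 10, 12, 8, 4, 2, 8, 6, 0, 8, 10, 12, 8, 4, 2, 8, 6, 0, 8, 10, 12, 8, 4, 2, 8, 6, 0, 8, 10, 12, 8, 4, 2, 8, 6, 0, 8, 10, 12, 8, 4, 2, 8, 6, 0, 8, 10, 12, 8, 4, 2, 8, 6, 0, 8, 10, 12, 8, 4, 2, 19]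
def rw211 : List ℕ := [9, 13, 9, 13]
def rw212 : List ℕ := [9, 11, 9, 11, 9, 11]
def rw213 : List ℕ := [9, 11, 9, 11, 9, 11]
def rw214 : List ℕ := [9, 19, 9, 18]
def rw215 : List ℕ := [9, 17, 9, 17]
def rw216 : List ℕ := [9, 7, 9, 7, 9, 7]
def rw217 : List ℕ := [9, 1, 7, 9, 3, 5, 9, 13, 11, 9, 1, 7, 9, 3, 5, 9, 13, 11, 9, 1, 7, 9, 3, 5, 9, 13, 11, 9, 1, 7, 9, 3, 5, 9, 13, 11, 9, 1, 7, 9, 3, 5, 9, 13, 11, 9, 1, 7, 9, 3, 5, 9, 13, 11, 9, 1, 7, 9, 18, 3, 5, 9, 13, 11, 9, 1, 7, 9, 3, 5, 9, 13, 11, 9, 1, 7, 9, 3, 5, 9, 13, 11, 9, 1, 7, 9, 3, 5, 9, 13, 11]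
def rw218 : List ℕ := [9, 1, 9, 1]
def rw219 : List ℕ := [9, 17, 9, 17]
def rw220 : List ℕ := [9, 3, 9, 3]
def rw221 : List ℕ := [9, 15, 9, 15]
def rw222 : List ℕ := [9, 13, 9, 13]
def rw223 : List ℕ := [9, 3, 5, 9, 13, 11, 9, 1, 7, 9, 3, 5, 9, 13, 11, 9, 1, 7, 9, 3, 5, 9, 13, 11, 9, 1, 7, 9, 18, 3, 5, 9, 13, 11, 9, 1, 7, 9, 3, 5, 9, 13, 11, 9, 1, 7, 9, 3, 5, 9, 13, 11, 9, 1, 7, 9, 3, 5, 9, 13, 11, 9, 1, 7, 9, 3, 5, 9, 13, 11, 9, 1, 7, 9, 3, 5, 9, 13, 11, 9, 1, 7, 9, 3, 5, 9, 13, 11, 9, 1, 7]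
def rw224 : List ℕ := [9, 15, 9, 15]
def rw225 : List ℕ := [9, 9]
def rw226 : List ℕ := [9, 13, 11, 9, 1, 7, 9, 3, 5, 9, 13, 11, 9, 1, 7, 9, 3, 5, 9, 13, 11, 9, 1, 7, 9, 18, 3, 5, 9, 13, 11, 9, 1, 7, 9, 3, 5, 9, 13, 11, 9, 1, 7, 9, 3, 5, 9, 13, 11, 9, 1, 7, 9, 3, 5, 9, 13, 11, 9, 1, 7, 9, 3, 5, 9, 13, 11, 9, 1, 7, 9, 3, 5, 9, 13, 11, 9, 1, 7, 9, 3, 5, 9, 13, 11, 9, 1, 7, 9, 3, 5]
def rw227 : List ℕ := [9, 1, 9, 1]
def rw228 : List ℕ := [9, 7, 9, 7, 9, 7]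
def rw229 : List ℕ := [9, 3, 5, 9, 13, 11, 9, 1, 7, 9, 3, 5, 9, 13, 11, 9, 1, 7, 9, 3, 5, 9, 13, 11, 9, 1, 7, 9, 3, 5, 9, 13, 11, 9, 1, 7, 9, 3, 5, 9, 13, 11, 9, 1, 7, 9, 3, 5, 9, 13, 11, 9, 1, 7, 9, 3, 5, 9, 13, 11, 9, 1, 7, 9, 3, 5, 9, 13, 11, 9, 1, 7, 9, 18, 3, 5, 9, 13, 11, 9, 1, 7, 9, 3, 5, 9, 13, 11, 9, 1, 7]
def rw230 : List ℕ := [9, 7, 9, 7, 9, 7]
def rw231 : List ℕ := [10, 0, 10, 0]
def rw232 : List ℕ := [10, 6, 10, 6]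
def rw233 : List ℕ := [10, 10]
def rw234 : List ℕ := [10, 12, 10, 12, 10, 12]
def rw235 : List ℕ := [10, 8, 10, 8, 10, 8]
def rw236 : List ℕ := [10, 14, 10, 14]
def rw237 : List ℕ := [10, 16, 10, 16]
def rw238 : List ℕ := [10, 4, 10, 4]
def rw239 : List ℕ := [10, 14, 10, 14]
def rw240 : List ℕ := [10, 16, 10, 16]
def rw241 : List ℕ := [10, 8, 10, 8, 10, 8]
def rw242 : List ℕ := [10, 2, 10, 2]
def rw243 : List ℕ := [10, 4, 10, 4]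
def rw244 : List ℕ := [10, 6, 10, 6]
def rw245 : List ℕ := [10, 2, 10, 2]
def rw246 : List ℕ := [10, 0, 10, 0]
def rw247 : List ℕ := [10, 12, 10, 12, 10, 12]
def rw248 : List ℕ := [10, 12, 10, 12, 10, 12]
def rw249 : List ℕ := [10, 12, 8, 4, 2, 8, 6, 0, 8, 10, 12, 8, 4, 2, 8, 6, 0, 8, 10, 12, 8, 4, 2, 8, 6, 0, 8, 10, 12, 8, 4, 2, 8, 6, 0, 8, 10, 12, 8, 4, 2, 8, 6, 0, 8, 10, 12, 8, 4, 2, 8, 6, 0, 8, 10, 12, 8, 4, 2, 8, 6, 0, 8, 10, 12, 8, 4, 2, 19, 8, 6, 0, 8, 10, 12, 8, 4, 2, 8, 6, 0, 8, 10, 12, 8, 4, 2, 8, 6, 0, 8]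
def rw250 : List ℕ := [10, 12, 8, 4, 2, 8, 6, 0, 8, 10, 12, 8, 4, 2, 8, 6, 0, 8, 10, 12, 8, 4, 2, 8, 6, 0, 8, 10, 12, 8, 4, 2, 19, 8, 6, 0, 8, 10, 12, 8, 4, 2, 8, 6, 0, 8, 10, 12, 8, 4, 2, 8, 6, 0, 8, 10, 12, 8, 4, 2, 8, 6, 0, 8, 10, 12, 8, 4, 2, 8, 6, 0, 8, 10, 12, 8, 4, 2, 8, 6, 0, 8, 10, 12, 8, 4, 2, 8, 6, 0, 8]
def rw251 : List ℕ := [10, 8, 10, 8, 10, 8]
def rw252 : List ℕ := [10, 12, 8, 4, 2, 8, 6, 0, 8, 10, 12, 8, 4, 2, 8, 6, 0, 8, 10, 12, 8, 4, 2, 8, 6, 0, 8, 10, 12, 8, 4, 2, 8, 6, 0, 8, 10, 12, 8, 4, 2, 8, 6, 0, 8, 10, 12, 8, 4, 2, 8, 6, 0, 8, 10, 12, 8, 4, 2, 8, 6, 0, 8, 10, 12, 8, 4, 2, 8, 6, 0, 8, 10, 12, 8, 4, 2, 8, 6, 0, 8, 10, 12, 8, 4, 2, 19, 8, 6, 0, 8]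
def rw253 : List ℕ := [10, 19, 10, 18]
def rw254 : List ℕ := [10, 12, 8, 4, 2, 8, 6, 0, 8, 10, 12, 8, 4, 2, 8, 6, 0, 8, 10, 12, 8, 4, 2, 8, 6, 0, 8, 10, 12, 8, 4, 2, 8, 6, 0, 8, 10, 12, 8, 4, 2, 19, 8, 6, 0, 8, 10, 12, 8, 4, 2, 8, 6, 0, 8, 10, 12, 8, 4, 2, 8, 6, 0, 8, 10, 12, 8, 4, 2, 8, 6, 0, 8, 10, 12, 8, 4, 2, 8, 6, 0, 8, 10, 12, 8, 4, 2, 8, 6, 0, 8]
def rw255 : List ℕ := [10, 12, 8, 4, 2, 8, 6, 0, 8, 10, 12, 8, 4, 2, 8, 6, 0, 8, 10, 12, 8, 4, 2, 19, 8, 6, 0, 8, 10, 12, 8, 4, 2, 8, 6, 0, 8, 10, 12, 8, 4, 2, 8, 6, 0, 8, 10, 12, 8, 4, 2, 8, 6, 0, 8, 10, 12, 8, 4, 2, 8, 6, 0, 8, 10, 12, 8, 4, 2, 8, 6, 0, 8, 10, 12, 8, 4, 2, 8, 6, 0, 8, 10, 12, 8, 4, 2, 8, 6, 0, 8]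
def rw256 : List ℕ := [10, 12, 8, 4, 2, 19, 8, 6, 0, 8, 10, 12, 8, 4, 2, 8, 6, 0, 8, 10, 12, 8, 4, 2, 8, 6, 0, 8, 10, 12, 8, 4, 2, 8, 6, 0, 8, 10, 12, 8, 4, 2, 8, 6, 0, 8, 10, 12, 8, 4, 2, 8, 6, 0, 8, 10, 12, 8, 4, 2, 8, 6, 0, 8, 10, 12, 8, 4, 2, 8, 6, 0, 8, 10, 12, 8, 4, 2, 8, 6, 0, 8, 10, 12, 8, 4, 2, 8, 6, 0, 8]
def rw257 : List ℕ := [10, 12, 8, 4, 2, 8, 6, 0, 8, 10, 12, 8, 4, 2, 8, 6, 0, 8, 10, 12, 8, 4, 2, 8, 6, 0, 8, 10, 12, 8, 4, 2, 8, 6, 0, 8, 10, 12, 8, 4, 2, 8, 6, 0, 8, 10, 12, 8, 4, 2, 8, 6, 0, 8, 10, 12, 8, 4, 2, 8, 6, 0, 8, 10, 12, 8, 4, 2, 8, 6, 0, 8, 10, 12, 8, 4, 2, 19, 8, 6, 0, 8, 10, 12, 8, 4, 2, 8, 6, 0, 8]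
def rw258 : List ℕ := [10, 12, 8, 4, 2, 8, 6, 0, 8, 10, 12, 8, 4, 2, 8, 6, 0, 8, 10, 12, 8, 4, 2, 8, 6, 0, 8, 10, 12, 8, 4, 2, 8, 6, 0, 8, 10, 12, 8, 4, 2, 8, 6, 0, 8, 10, 12, 8, 4, 2, 8, 6, 0, 8, 10, 12, 8, 4, 2, 19, 8, 6, 0, 8, 10, 12, 8, 4, 2, 8, 6, 0, 8, 10, 12, 8, 4, 2, 8, 6, 0, 8, 10, 12, 8, 4, 2, 8, 6, 0, 8]
def rw259 : List ℕ := [10, 18, 10, 19]
def rw260 : List ℕ := [11, 13, 11, 13, 11, 13]
def rw261 : List ℕ := [11, 9, 1, 7, 9, 3, 5, 9, 13, 11, 9, 1, 7, 9, 3, 5, 9, 13, 11, 9, 1, 7, 9, 3, 5, 9, 13, 11, 9, 1, 7, 9, 3, 5, 9, 13, 11, 9, 1, 7, 9, 18, 3, 5, 9, 13, 11, 9, 1, 7, 9, 3, 5, 9, 13, 11, 9, 1, 7, 9, 3, 5, 9, 13, 11, 9, 1, 7, 9, 3, 5, 9, 13, 11, 9, 1, 7, 9, 3, 5, 9, 13, 11, 9, 1, 7, 9, 3, 5, 9, 13]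
def rw262 : List ℕ := [11, 5, 11, 5]
def rw263 : List ℕ := [11, 18, 11, 19]
def rw264 : List ℕ := [11, 5, 11, 5]
def rw265 : List ℕ := [11, 9, 11, 9, 11, 9]
def rw266 : List ℕ := [11, 9, 1, 7, 9, 18, 3, 5, 9, 13, 11, 9, 1, 7, 9, 3, 5, 9, 13, 11, 9, 1, 7, 9, 3, 5, 9, 13, 11, 9, 1, 7, 9, 3, 5, 9, 13, 11, 9, 1, 7, 9, 3, 5, 9, 13, 11, 9, 1, 7, 9, 3, 5, 9, 13, 11, 9, 1, 7, 9, 3, 5, 9, 13, 11, 9, 1, 7, 9, 3, 5, 9, 13, 11, 9, 1, 7, 9, 3, 5, 9, 13, 11, 9, 1, 7, 9, 3, 5, 9, 13]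
def rw267 : List ℕ := [11, 13, 11, 13, 11, 13]
def rw268 : List ℕ := [11, 1, 11, 1]
def rw269 : List ℕ := [11, 7, 11, 7]
def rw270 : List ℕ := [11, 15, 11, 15]
def rw271 : List ℕ := [11, 9, 1, 7, 9, 3, 5, 9, 13, 11, 9, 1, 7, 9, 3, 5, 9, 13, 11, 9, 1, 7, 9, 3, 5, 9, 13, 11, 9, 1, 7, 9, 3, 5, 9, 13, 11, 9, 1, 7, 9, 3, 5, 9, 13, 11, 9, 1, 7, 9, 3, 5, 9, 13, 11, 9, 1, 7, 9, 3, 5, 9, 13, 11, 9, 1, 7, 9, 3, 5, 9, 13, 11, 9, 1, 7, 9, 18, 3, 5, 9, 13, 11, 9, 1, 7, 9, 3, 5, 9, 13]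
def rw272 : List ℕ := [11, 9, 11, 9, 11, 9]
def rw273 : List ℕ := [11, 17, 11, 17]
def rw274 : List ℕ := [11, 15, 11, 15]
def rw275 : List ℕ := [11, 11]
def rw276 : List ℕ := [11, 3, 11, 3]
def rw277 : List ℕ := [11, 7, 11, 7]
def rw278 : List ℕ := [11, 9, 1, 7, 9, 3, 5, 9, 13, 11, 9, 1, 7, 9, 3, 5, 9, 13, 11, 9, 1, 7, 9, 3, 5, 9, 13, 11, 9, 1, 7, 9, 3, 5, 9, 13, 11, 9, 1, 7, 9, 3, 5, 9, 13, 11, 9, 1, 7, 9, 3, 5, 9, 13, 11, 9, 1, 7, 9, 3, 5, 9, 13, 11, 9, 1, 7, 9, 3, 5, 9, 13, 11, 9, 1, 7, 9, 3, 5, 9, 13, 11, 9, 1, 7, 9, 18, 3, 5, 9, 13]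
def rw279 : List ℕ := [11, 17, 11, 17]
def rw280 : List ℕ := [11, 13, 11, 13, 11, 13]
def rw281 : List ℕ := [11, 9, 1, 7, 9, 3, 5, 9, 13, 11, 9, 1, 7, 9, 3, 5, 9, 13, 11, 9, 1, 7, 9, 3, 5, 9, 13, 11, 9, 1, 7, 9, 3, 5, 9, 13, 11, 9, 1, 7, 9, 3, 5, 9, 13, 11, 9, 1, 7, 9, 3, 5, 9, 13, 11, 9, 1, 7, 9, 3, 5, 9, 13, 11, 9, 1, 7, 9, 18, 3, 5, 9, 13, 11, 9, 1, 7, 9, 3, 5, 9, 13, 11, 9, 1, 7, 9, 3, 5, 9, 13]
def rw282 : List ℕ := [11, 9, 11, 9, 11, 9]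
def rw283 : List ℕ := [11, 3, 11, 3]
def rw284 : List ℕ := [12, 0, 12, 0]
def rw285 : List ℕ := [12, 6, 12, 6]
def rw286 : List ℕ := [12, 8, 12, 8]
def rw287 : List ℕ := [12, 4, 12, 4]
def rw288 : List ℕ := [12, 2, 12, 2]
def rw289 : List ℕ := [12, 12]
def rw290 : List ℕ := [12, 14, 12, 14, 12, 14]
def rw291 : List ℕ := [12, 16, 12, 16]
def rw292 : List ℕ := [12, 10, 12, 10, 12, 10]
def rw293 : List ℕ := [12, 16, 12, 16]
def rw294 : List ℕ := [12, 10, 12, 10, 12, 10]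
def rw295 : List ℕ := [12, 8, 12, 8]
def rw296 : List ℕ := [12, 4, 12, 4]
def rw297 : List ℕ := [12, 6, 12, 6]
def rw298 : List ℕ := [12, 2, 12, 2]
def rw299 : List ℕ := [12, 0, 12, 0]
def rw300 : List ℕ := [12, 14, 12, 14, 12, 14]
def rw301 : List ℕ := [12, 10, 12, 10, 12, 10]
def rw302 : List ℕ := [12, 19, 12, 18]
def rw303 : List ℕ := [12, 8, 4, 2, 8, 6, 0, 8, 10, 12, 8, 4, 2, 8, 6, 0, 8, 10, 12, 8, 4, 2, 8, 6, 0, 8, 10, 12, 8, 4, 2, 8, 6, 0, 8, 10, 12, 8, 4, 2, 8, 6, 0, 8, 10, 12, 8, 4, 2, 8, 6, 0, 8, 10, 12, 8, 4, 2, 8, 6, 0, 8, 10, 12, 8, 4, 2, 8, 6, 0, 8, 10, 12, 8, 4, 2, 19, 8, 6, 0, 8, 10, 12, 8, 4, 2, 8, 6, 0, 8, 10]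
def rw304 : List ℕ := [12, 14, 12, 14, 12, 14]
def rw305 : List ℕ := [12, 8, 4, 2, 8, 6, 0, 8, 10, 12, 8, 4, 2, 8, 6, 0, 8, 10, 12, 8, 4, 2, 8, 6, 0, 8, 10, 12, 8, 4, 2, 8, 6, 0, 8, 10, 12, 8, 4, 2, 19, 8, 6, 0, 8, 10, 12, 8, 4, 2, 8, 6, 0, 8, 10, 12, 8, 4, 2, 8, 6, 0, 8, 10, 12, 8, 4, 2, 8, 6, 0, 8, 10, 12, 8, 4, 2, 8, 6, 0, 8, 10, 12, 8, 4, 2, 8, 6, 0, 8, 10]
def rw306 : List ℕ := [12, 8, 4, 2, 8, 6, 0, 8, 10, 12, 8, 4, 2, 8, 6, 0, 8, 10, 12, 8, 4, 2, 8, 6, 0, 8, 10, 12, 8, 4, 2, 19, 8, 6, 0, 8, 10, 12, 8, 4, 2, 8, 6, 0, 8, 10, 12, 8, 4, 2, 8, 6, 0, 8, 10, 12, 8, 4, 2, 8, 6, 0, 8, 10, 12, 8, 4, 2, 8, 6, 0, 8, 10, 12, 8, 4, 2, 8, 6, 0, 8, 10, 12, 8, 4, 2, 8, 6, 0, 8, 10]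
def rw307 : List ℕ := [12, 18, 12, 19]
def rw308 : List ℕ := [12, 8, 4, 2, 8, 6, 0, 8, 10, 12, 8, 4, 2, 8, 6, 0, 8, 10, 12, 8, 4, 2, 8, 6, 0, 8, 10, 12, 8, 4, 2, 8, 6, 0, 8, 10, 12, 8, 4, 2, 8, 6, 0, 8, 10, 12, 8, 4, 2, 8, 6, 0, 8, 10, 12, 8, 4, 2, 8, 6, 0, 8, 10, 12, 8, 4, 2, 8, 6, 0, 8, 10, 12, 8, 4, 2, 8, 6, 0, 8, 10, 12, 8, 4, 2, 19, 8, 6, 0, 8, 10]
def rw309 : List ℕ := [12, 8, 4, 2, 19, 8, 6, 0, 8, 10, 12, 8, 4, 2, 8, 6, 0, 8, 10, 12, 8, 4, 2, 8, 6, 0, 8, 10, 12, 8, 4, 2, 8, 6, 0, 8, 10, 12, 8, 4, 2, 8, 6, 0, 8, 10, 12, 8, 4, 2, 8, 6, 0, 8, 10, 12, 8, 4, 2, 8, 6, 0, 8, 10, 12, 8, 4, 2, 8, 6, 0, 8, 10, 12, 8, 4, 2, 8, 6, 0, 8, 10, 12, 8, 4, 2, 8, 6, 0, 8, 10]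
def rw310 : List ℕ := [13, 11, 13, 11, 13, 11]
def rw311 : List ℕ := [13, 5, 13, 5]
def rw312 : List ℕ := [13, 15, 13, 15, 13, 15]
def rw313 : List ℕ := [13, 11, 9, 1, 7, 9, 3, 5, 9, 13, 11, 9, 1, 7, 9, 3, 5, 9, 13, 11, 9, 1, 7, 9, 3, 5, 9, 13, 11, 9, 1, 7, 9, 3, 5, 9, 13, 11, 9, 1, 7, 9, 3, 5, 9, 13, 11, 9, 1, 7, 9, 3, 5, 9, 13, 11, 9, 1, 7, 9, 18, 3, 5, 9, 13, 11, 9, 1, 7, 9, 3, 5, 9, 13, 11, 9, 1, 7, 9, 3, 5, 9, 13, 11, 9, 1, 7, 9, 3, 5, 9]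
def rw314 : List ℕ := [13, 11, 9, 1, 7, 9, 3, 5, 9, 13, 11, 9, 1, 7, 9, 3, 5, 9, 13, 11, 9, 1, 7, 9, 3, 5, 9, 13, 11, 9, 1, 7, 9, 3, 5, 9, 13, 11, 9, 1, 7, 9, 3, 5, 9, 13, 11, 9, 1, 7, 9, 3, 5, 9, 13, 11, 9, 1, 7, 9, 3, 5, 9, 13, 11, 9, 1, 7, 9, 3, 5, 9, 13, 11, 9, 1, 7, 9, 18, 3, 5, 9, 13, 11, 9, 1, 7, 9, 3, 5, 9]
def rw315 : List ℕ := [13, 11, 9, 1, 7, 9, 3, 5, 9, 13, 11, 9, 1, 7, 9, 3, 5, 9, 13, 11, 9, 1, 7, 9, 3, 5, 9, 13, 11, 9, 1, 7, 9, 3, 5, 9, 13, 11, 9, 1, 7, 9, 3, 5, 9, 13, 11, 9, 1, 7, 9, 18, 3, 5, 9, 13, 11, 9, 1, 7, 9, 3, 5, 9, 13, 11, 9, 1, 7, 9, 3, 5, 9, 13, 11, 9, 1, 7, 9, 3, 5, 9, 13, 11, 9, 1, 7, 9, 3, 5, 9]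
def rw316 : List ℕ := [13, 1, 13, 1]
def rw317 : List ℕ := [13, 11, 9, 1, 7, 9, 3, 5, 9, 13, 11, 9, 1, 7, 9, 3, 5, 9, 13, 11, 9, 1, 7, 9, 3, 5, 9, 13, 11, 9, 1, 7, 9, 18, 3, 5, 9, 13, 11, 9, 1, 7, 9, 3, 5, 9, 13, 11, 9, 1, 7, 9, 3, 5, 9, 13, 11, 9, 1, 7, 9, 3, 5, 9, 13, 11, 9, 1, 7, 9, 3, 5, 9, 13, 11, 9, 1, 7, 9, 3, 5, 9, 13, 11, 9, 1, 7, 9, 3, 5, 9]
def rw318 : List ℕ := [13, 3, 13, 3]
def rw319 : List ℕ := [13, 7, 13, 7]
def rw320 : List ℕ := [13, 15, 13, 15, 13, 15]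
def rw321 : List ℕ := [13, 3, 13, 3]
def rw322 : List ℕ := [13, 9, 13, 9]
def rw323 : List ℕ := [13, 11, 13, 11, 13, 11]
def rw324 : List ℕ := [13, 7, 13, 7]
def rw325 : List ℕ := [13, 17, 13, 17]
def rw326 : List ℕ := [13, 5, 13, 5]
def rw327 : List ℕ := [13, 1, 13, 1]
def rw328 : List ℕ := [13, 9, 13, 9]
def rw329 : List ℕ := [13, 19, 13, 18]
def rw330 : List ℕ := [13, 13]
def rw331 : List ℕ := [13, 17, 13, 17]
def rw332 : List ℕ := [13, 11, 9, 1, 7, 9, 3, 5, 9, 13, 11, 9, 1, 7, 9, 3, 5, 9, 13, 11, 9, 1, 7, 9, 3, 5, 9, 13, 11, 9, 1, 7, 9, 3, 5, 9, 13, 11, 9, 1, 7, 9, 3, 5, 9, 13, 11, 9, 1, 7, 9, 3, 5, 9, 13, 11, 9, 1, 7, 9, 3, 5, 9, 13, 11, 9, 1, 7, 9, 3, 5, 9, 13, 11, 9, 1, 7, 9, 3, 5, 9, 13, 11, 9, 1, 7, 9, 18, 3, 5, 9]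
def rw333 : List ℕ := [13, 11, 13, 11, 13, 11]
def rw334 : List ℕ := [14, 0, 14, 0]
def rw335 : List ℕ := [14, 6, 14, 6]
def rw336 : List ℕ := [14, 8, 14, 8]
def rw337 : List ℕ := [14, 4, 14, 4]
def rw338 : List ℕ := [14, 10, 14, 10]
def rw339 : List ℕ := [14, 2, 14, 2]
def rw340 : List ℕ := [14, 14]
def rw341 : List ℕ := [14, 16, 14, 16, 14, 16]
def rw342 : List ℕ := [14, 12, 14, 12, 14, 12]
def rw343 : List ℕ := [14, 12, 14, 12, 14, 12]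
def rw344 : List ℕ := [14, 10, 14, 10]
def rw345 : List ℕ := [14, 8, 14, 8]
def rw346 : List ℕ := [14, 6, 14, 6]
def rw347 : List ℕ := [14, 4, 14, 4]
def rw348 : List ℕ := [14, 0, 14, 0]
def rw349 : List ℕ := [14, 2, 14, 2]
def rw350 : List ℕ := [14, 12, 14, 12, 14, 12]
def rw351 : List ℕ := [14, 19, 14, 18]
def rw352 : List ℕ := [14, 16, 14, 16, 14, 16]
def rw353 : List ℕ := [14, 16, 14, 16, 14, 16]
def rw354 : List ℕ := [14, 18, 14, 19]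
def rw355 : List ℕ := [15, 13, 15, 13, 15, 13]
def rw356 : List ℕ := [15, 11, 15, 11]
def rw357 : List ℕ := [15, 7, 15, 7]
def rw358 : List ℕ := [15, 1, 15, 1]
def rw359 : List ℕ := [15, 3, 15, 3]
def rw360 : List ℕ := [15, 7, 15, 7]
def rw361 : List ℕ := [15, 5, 15, 5]
def rw362 : List ℕ := [15, 9, 15, 9]
def rw363 : List ℕ := [15, 5, 15, 5]
def rw364 : List ℕ := [15, 9, 15, 9]
def rw365 : List ℕ := [15, 19, 15, 18]
def rw366 : List ℕ := [15, 17, 15, 17, 15, 17]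
def rw367 : List ℕ := [15, 3, 15, 3]
def rw368 : List ℕ := [15, 11, 15, 11]
def rw369 : List ℕ := [15, 13, 15, 13, 15, 13]
def rw370 : List ℕ := [16, 0, 16, 0]
def rw371 : List ℕ := [16, 6, 16, 6]
def rw372 : List ℕ := [16, 8, 16, 8]
def rw373 : List ℕ := [16, 4, 16, 4]
def rw374 : List ℕ := [16, 10, 16, 10]
def rw375 : List ℕ := [16, 2, 16, 2]
def rw376 : List ℕ := [16, 12, 16, 12]
def rw377 : List ℕ := [16, 16]
def rw378 : List ℕ := [16, 14, 16, 14, 16, 14]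
def rw379 : List ℕ := [16, 14, 16, 14, 16, 14]
def rw380 : List ℕ := [16, 12, 16, 12]
def rw381 : List ℕ := [16, 10, 16, 10]
def rw382 : List ℕ := [16, 8, 16, 8]
def rw383 : List ℕ := [16, 4, 16, 4]
def rw384 : List ℕ := [16, 6, 16, 6]
def rw385 : List ℕ := [16, 0, 16, 0]
def rw386 : List ℕ := [16, 2, 16, 2]
def rw387 : List ℕ := [16, 19, 16, 18]
def rw388 : List ℕ := [16, 14, 16, 14, 16, 14]
def rw389 : List ℕ := [16, 18, 16, 19]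
def rw390 : List ℕ := [17, 9, 17, 9]
def rw391 : List ℕ := [17, 19, 17, 18]
def rw392 : List ℕ := [17, 1, 17, 1]
def rw393 : List ℕ := [17, 15, 17, 15, 17, 15]
def rw394 : List ℕ := [17, 1, 17, 1]
def rw395 : List ℕ := [17, 5, 17, 5]
def rw396 : List ℕ := [17, 3, 17, 3]
def rw397 : List ℕ := [17, 7, 17, 7]
def rw398 : List ℕ := [17, 15, 17, 15, 17, 15]
def rw399 : List ℕ := [17, 11, 17, 11]
def rw400 : List ℕ := [17, 3, 17, 3]
def rw401 : List ℕ := [18, 6, 19, 6]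
def rw402 : List ℕ := [18, 10, 19, 10]
def rw403 : List ℕ := [18, 12, 19, 12]
def rw404 : List ℕ := [18, 14, 19, 14]
def rw405 : List ℕ := [18, 8, 19, 8]
def rw406 : List ℕ := [18, 16, 19, 16]
def rw407 : List ℕ := [18, 3, 5, 9, 13, 11, 9, 1, 7, 9, 3, 5, 9, 13, 11, 9, 1, 7, 9, 3, 5, 9, 13, 11, 9, 1, 7, 9, 3, 5, 9, 13, 11, 9, 1, 7, 9, 3, 5, 9, 13, 11, 9, 1, 7, 9, 3, 5, 9, 13, 11, 9, 1, 7, 9, 3, 5, 9, 13, 11, 9, 1, 7, 9, 3, 5, 9, 13, 11, 9, 1, 7, 9, 3, 5, 9, 13, 11, 9, 1, 7, 9, 3, 5, 9, 13, 11, 9, 1, 7, 9]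
def rw408 : List ℕ := [18, 2, 19, 2]
def rw409 : List ℕ := [18, 4, 19, 4]
def rw410 : List ℕ := [18, 0, 19, 0]
def rw411 : List ℕ := [18, 11, 19, 11]
def rw412 : List ℕ := [18, 3, 19, 3]
def rw413 : List ℕ := [18, 13, 19, 13]
def rw414 : List ℕ := [18, 9, 19, 9]
def rw415 : List ℕ := [18, 1, 19, 1]
def rw416 : List ℕ := [18, 5, 19, 5]
def rw417 : List ℕ := [19, 0, 18, 0]
def rw418 : List ℕ := [19, 8, 18, 8]
def rw419 : List ℕ := [19, 4, 18, 4]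
def rw420 : List ℕ := [19, 10, 18, 10]
def rw421 : List ℕ := [19, 6, 18, 6]
def rw422 : List ℕ := [19, 12, 18, 12]
def rw423 : List ℕ := [19, 14, 18, 14]
def rw424 : List ℕ := [19, 2, 18, 2]
def rw425 : List ℕ := [19, 16, 18, 16]
def rw426 : List ℕ := [19, 8, 6, 0, 8, 10, 12, 8, 4, 2, 8, 6, 0, 8, 10, 12, 8, 4, 2, 8, 6, 0, 8, 10, 12, 8, 4, 2, 8, 6, 0, 8, 10, 12, 8, 4, 2, 8, 6, 0, 8, 10, 12, 8, 4, 2, 8, 6, 0, 8, 10, 12, 8, 4, 2, 8, 6, 0, 8, 10, 12, 8, 4, 2, 8, 6, 0, 8, 10, 12, 8, 4, 2, 8, 6, 0, 8, 10, 12, 8, 4, 2, 8, 6, 0, 8, 10, 12, 8, 4, 2]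
def rw427 : List ℕ := [19, 9, 18, 9]
def rw428 : List ℕ := [19, 7, 18, 7]
def rw429 : List ℕ := [19, 1, 18, 1]
def rw430 : List ℕ := [19, 5, 18, 5]
def rw431 : List ℕ := [19, 11, 18, 11]
def rw432 : List ℕ := [19, 3, 18, 3]
def rw433 : List ℕ := [19, 13, 18, 13]
def rw434 : List ℕ := [19, 15, 18, 15]
def rw435 : List ℕ := [9, 13, 11, 9, 1, 7, 9, 3, 5, 9, 13, 11, 9, 1, 7, 9, 3, 5, 9, 13, 11, 9, 1, 7, 9, 3, 5, 9, 13, 11, 9, 1, 7, 9, 3, 5, 9, 13, 11, 9, 1, 7, 9, 3, 5, 9, 13, 11, 9, 1, 7, 9, 3, 5, 9, 13, 11, 9, 1, 7, 9, 3, 5, 9, 13, 11, 9, 1, 7, 9, 3, 5, 9, 13, 11, 9, 1, 7, 9, 18, 3, 5, 9, 13, 11, 9, 1, 7, 9, 3, 5]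
def rw436 : List ℕ := [6, 0, 8, 10, 12, 8, 4, 2, 19, 8, 6, 0, 8, 10, 12, 8, 4, 2, 8, 6, 0, 8, 10, 12, 8, 4, 2, 8, 6, 0, 8, 10, 12, 8, 4, 2, 8, 6, 0, 8, 10, 12, 8, 4, 2, 8, 6, 0, 8, 10, 12, 8, 4, 2, 8, 6, 0, 8, 10, 12, 8, 4, 2, 8, 6, 0, 8, 10, 12, 8, 4, 2, 8, 6, 0, 8, 10, 12, 8, 4, 2, 8, 6, 0, 8, 10, 12, 8, 4, 2, 8]
def rw437 : List ℕ := [8, 4, 2, 8, 6, 0, 8, 10, 12, 8, 4, 2, 8, 6, 0, 8, 10, 12, 8, 4, 2, 8, 6, 0, 8, 10, 12, 8, 4, 2, 19, 8, 6, 0, 8, 10, 12, 8, 4, 2, 8, 6, 0, 8, 10, 12, 8, 4, 2, 8, 6, 0, 8, 10, 12, 8, 4, 2, 8, 6, 0, 8, 10, 12, 8, 4, 2, 8, 6, 0, 8, 10, 12, 8, 4, 2, 8, 6, 0, 8, 10, 12, 8, 4, 2, 8, 6, 0, 8, 10, 12]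
def rw438 : List ℕ := [5, 9, 13, 11, 9, 1, 7, 9, 3, 5, 9, 13, 11, 9, 1, 7, 9, 18, 3, 5, 9, 13, 11, 9, 1, 7, 9, 3, 5, 9, 13, 11, 9, 1, 7, 9, 3, 5, 9, 13, 11, 9, 1, 7, 9, 3, 5, 9, 13, 11, 9, 1, 7, 9, 3, 5, 9, 13, 11, 9, 1, 7, 9, 3, 5, 9, 13, 11, 9, 1, 7, 9, 3, 5, 9, 13, 11, 9, 1, 7, 9, 3, 5, 9, 13, 11, 9, 1, 7, 9, 3]
noncomputable def relW (i : ℕ) : List ℕ := (Bool.rec (motive := fun _ => List ℕ) (Bool.rec (motive := fun _ => List ℕ) (Bool.rec (motive := fun _ => List ℕ) (Bool.rec (motive := fun _ => List ℕ) (Bool.rec (motive := fun _ => List ℕ) (Bool.rec (motive := fun _ => List ℕ) (Bool.rec (motive := fun _ => List ℕ) (Bool.rec (motive := fun _ => List ℕ) (Bool.rec (motive := fun _ => List ℕ) (rw0) (rw1) (Nat.ble 1 i)) (Bool.rec (motive := fun _ => List ℕ) (rw2) (rw3) (Nat.ble 3 i)) (Nat.ble 2 i)) (Bool.rec (motive := fun _ => List ℕ) (Bool.rec (motive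 := fun _ => List ℕ) (rw4) (rw5) (Nat.ble 5 i)) (Bool.rec (motive := fun _ => List ℕ) (rw6) (rw7) (Nat.ble 7 i)) (Nat.ble 6 i)) (Nat.ble 4 i)) (Bool.rec (motive := fun _ => List ℕ) (Bool.rec (motive := fun _ => List ℕ) (Bool.rec (motive := fun _ => List ℕ) (rw8) (rw9) (Nat.ble 9 i)) (Bool.rec (motive := fun _ => List ℕ) (rw10) (rw11) (Nat.ble 11 i)) (Nat.ble 10 i)) (Bool.rec (motive := fun _ => List ℕ) (Bool.rec (motive := fun _ => List ℕ) (rw12) (rw13) (Nat.ble 13 i)) (Bool.rec (motive := fun _ => List ℕ) (rw14) (rw15) (Nat.ble 15 i)) (Nat.ble 14 i)) (Nat.ble 12 i)) (Nat.ble 8 i)) (Bool.rec (motive := fun _ => List ℕ) (Bool.rec (motive := fun _ => List ℕ) (Bool.rec (motive := fun _ => List ℕ) (Bool.rec (motive := fun _ => List ℕ) (rw16) (rw17) (Nat.ble 17 i)) (Bool.rec (motive := fun _ => List ℕ) (rw18) (rw19) (Nat.ble 19 i)) (Nat.ble 18 i)) (Bool.rec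 (motive := fun _ => List ℕ) (Bool.rec (motive := fun _ => List ℕ) (rw20) (rw21) (Nat.ble 21 i)) (Bool.rec (motive := fun _ => List ℕ) (rw22) (rw23) (Nat.ble 23 i)) (Nat.ble 22 i)) (Nat.ble 20 i)) (Bool.rec (motive := fun _ => List ℕ) (Bool.rec (motive := fun _ => List ℕ) (Bool.rec (motive := fun _ => List ℕ) (rw24) (rw25) (Nat.ble 25 i)) (Bool.rec (motive := fun _ => List ℕ) (rw26) (rw27) (Nat.ble 27 i)) (Nat.ble 26 i)) (Bool.rec (motive := fun _ => List ℕ) (Bool.rec (motive := fun _ => List ℕ) (rw28) (rw29) (Nat.ble 29 i)) (Bool.rec (motive := fun _ => List ℕ) (rw30) (rw31) (Nat.ble 31 i)) (Nat.ble 30 i)) (Nat.ble 28 i)) (Nat.ble 24 i)) (Nat.ble 16 i)) (Bool.rec (motive := fun _ => List ℕ) (Bool.rec (motive := fun _ => List ℕ) (Bool.rec (motive := fun _ => List ℕ) (Bool.rec (motive := fun _ => List ℕ) (Bool.rec (motive := fun _ => List ℕ) (rw32) (rw33)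 (Nat.ble 33 i)) (Bool.rec (motive := fun _ => List ℕ) (rw34) (rw35) (Nat.ble 35 i)) (Nat.ble 34 i)) (Bool.rec (motive := fun _ => List ℕ) (Bool.rec (motive := fun _ => List ℕ) (rw36) (rw37) (Nat.ble 37 i)) (Bool.rec (motive := fun _ => List ℕ) (rw38) (rw39) (Nat.ble 39 i)) (Nat.ble 38 i)) (Nat.ble 36 i)) (Bool.rec (motive := fun _ => List ℕ) (Bool.rec (motive := fun _ => List ℕ) (Bool.rec (motive := fun _ => List ℕ) (rw40) (rw41) (Nat.ble 41 i)) (Bool.rec (motive := fun _ => List ℕ) (rw42) (rw43) (Nat.ble 43 i)) (Nat.ble 42 i)) (Bool.rec (motive := fun _ => List ℕ) (Bool.rec (motive := fun _ => List ℕ) (rw44) (rw45) (Nat.ble 45 i)) (Bool.rec (motive := fun _ => List ℕ) (rw46) (rw47) (Nat.ble 47 i)) (Nat.ble 46 i)) (Nat.ble 44 i)) (Nat.ble 40 i)) (Bool.rec (motive := fun _ => List ℕ) (Bool.rec (motive := fun _ => List ℕ) (Bool.rec (motive := fun _ => List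 ℕ) (Bool.rec (motive := fun _ => List ℕ) (rw48) (rw49) (Nat.ble 49 i)) (Bool.rec (motive := fun _ => List ℕ) (rw50) (rw51) (Nat.ble 51 i)) (Nat.ble 50 i)) (Bool.rec (motive := fun _ => List ℕ) (Bool.rec (motive := fun _ => List ℕ) (rw52) (rw53) (Nat.ble 53 i)) (Bool.rec (motive := fun _ => List ℕ) (rw54) (rw55) (Nat.ble 55 i)) (Nat.ble 54 i)) (Nat.ble 52 i)) (Bool.rec (motive := fun _ => List ℕ) (Bool.rec (motive := fun _ => List ℕ) (Bool.rec (motive := fun _ => List ℕ) (rw56) (rw57) (Nat.ble 57 i)) (Bool.rec (motive := fun _ => List ℕ) (rw58) (rw59) (Nat.ble 59 i)) (Nat.ble 58 i)) (Bool.rec (motive := fun _ => List ℕ) (Bool.rec (motive := fun _ => List ℕ) (rw60) (rw61) (Nat.ble 61 i)) (Bool.rec (motive := fun _ => List ℕ) (rw62) (rw63) (Nat.ble 63 i)) (Nat.ble 62 i)) (Nat.ble 60 i)) (Nat.ble 56 i)) (Nat.ble 48 i)) (Nat.ble 32 i)) (Bool.rec (motive :=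 fun _ => List ℕ) (Bool.rec (motive := fun _ => List ℕ) (Bool.rec (motive := fun _ => List ℕ) (Bool.rec (motive := fun _ => List ℕ) (Bool.rec (motive := fun _ => List ℕ) (Bool.rec (motive := fun _ => List ℕ) (rw64) (rw65) (Nat.ble 65 i)) (Bool.rec (motive := fun _ => List ℕ) (rw66) (rw67) (Nat.ble 67 i)) (Nat.ble 66 i)) (Bool.rec (motive := fun _ => List ℕ) (Bool.rec (motive := fun _ => List ℕ) (rw68) (rw69) (Nat.ble 69 i)) (Bool.rec (motive := fun _ => List ℕ) (rw70) (rw71) (Nat.ble 71 i)) (Nat.ble 70 i)) (Nat.ble 68 i)) (Bool.rec (motive := fun _ => List ℕ) (Bool.rec (motive := fun _ => List ℕ) (Bool.rec (motive := fun _ => List ℕ) (rw72) (rw73) (Nat.ble 73 i)) (Bool.rec (motive := fun _ => List ℕ) (rw74) (rw75) (Nat.ble 75 i)) (Nat.ble 74 i)) (Bool.rec (motive := fun _ => List ℕ) (Bool.rec (motive := fun _ => List ℕ) (rw76) (rw77) (Nat.ble 77 i)) (Bool.rec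 (motive := fun _ => List ℕ) (rw78) (rw79) (Nat.ble 79 i)) (Nat.ble 78 i)) (Nat.ble 76 i)) (Nat.ble 72 i)) (Bool.rec (motive := fun _ => List ℕ) (Bool.rec (motive := fun _ => List ℕ) (Bool.rec (motive := fun _ => List ℕ) (Bool.rec (motive := fun _ => List ℕ) (rw80) (rw81) (Nat.ble 81 i)) (Bool.rec (motive := fun _ => List ℕ) (rw82) (rw83) (Nat.ble 83 i)) (Nat.ble 82 i)) (Bool.rec (motive := fun _ => List ℕ) (Bool.rec (motive := fun _ => List ℕ) (rw84) (rw85) (Nat.ble 85 i)) (Bool.rec (motive := fun _ => List ℕ) (rw86) (rw87) (Nat.ble 87 i)) (Nat.ble 86 i)) (Nat.ble 84 i)) (Bool.rec (motive := fun _ => List ℕ) (Bool.rec (motive := fun _ => List ℕ) (Bool.rec (motive := fun _ => List ℕ) (rw88) (rw89) (Nat.ble 89 i)) (Bool.rec (motive := fun _ => List ℕ) (rw90) (rw91) (Nat.ble 91 i)) (Nat.ble 90 i)) (Bool.rec (motive := fun _ => List ℕ) (Bool.rec (motive :=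 fun _ => List ℕ) (rw92) (rw93) (Nat.ble 93 i)) (Bool.rec (motive := fun _ => List ℕ) (rw94) (rw95) (Nat.ble 95 i)) (Nat.ble 94 i)) (Nat.ble 92 i)) (Nat.ble 88 i)) (Nat.ble 80 i)) (Bool.rec (motive := fun _ => List ℕ) (Bool.rec (motive := fun _ => List ℕ) (Bool.rec (motive := fun _ => List ℕ) (Bool.rec (motive := fun _ => List ℕ) (Bool.rec (motive := fun _ => List ℕ) (rw96) (rw97) (Nat.ble 97 i)) (Bool.rec (motive := fun _ => List ℕ) (rw98) (rw99) (Nat.ble 99 i)) (Nat.ble 98 i)) (Bool.rec (motive := fun _ => List ℕ) (Bool.rec (motive := fun _ => List ℕ) (rw100) (rw101) (Nat.ble 101 i)) (Bool.rec (motive := fun _ => List ℕ) (rw102) (rw103) (Nat.ble 103 i)) (Nat.ble 102 i)) (Nat.ble 100 i)) (Bool.rec (motive := fun _ => List ℕ) (Bool.rec (motive := fun _ => List ℕ) (Bool.rec (motive := fun _ => List ℕ) (rw104) (rw105) (Nat.ble 105 i)) (Bool.rec (motive :=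 fun _ => List ℕ) (rw106) (rw107) (Nat.ble 107 i)) (Nat.ble 106 i)) (Bool.rec (motive := fun _ => List ℕ) (Bool.rec (motive := fun _ => List ℕ) (rw108) (rw109) (Nat.ble 109 i)) (Bool.rec (motive := fun _ => List ℕ) (rw110) (rw111) (Nat.ble 111 i)) (Nat.ble 110 i)) (Nat.ble 108 i)) (Nat.ble 104 i)) (Bool.rec (motive := fun _ => List ℕ) (Bool.rec (motive := fun _ => List ℕ) (Bool.rec (motive := fun _ => List ℕ) (Bool.rec (motive := fun _ => List ℕ) (rw112) (rw113) (Nat.ble 113 i)) (Bool.rec (motive := fun _ => List ℕ) (rw114) (rw115) (Nat.ble 115 i)) (Nat.ble 114 i)) (Bool.rec (motive := fun _ => List ℕ) (Bool.rec (motive := fun _ => List ℕ) (rw116) (rw117) (Nat.ble 117 i)) (Bool.rec (motive := fun _ => List ℕ) (rw118) (rw119) (Nat.ble 119 i)) (Nat.ble 118 i)) (Nat.ble 116 i)) (Bool.rec (motive := fun _ => List ℕ) (Bool.rec (motive := fun _ => List ℕ) (Bool.rec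 (motive := fun _ => List ℕ) (rw120) (rw121) (Nat.ble 121 i)) (Bool.rec (motive := fun _ => List ℕ) (rw122) (rw123) (Nat.ble 123 i)) (Nat.ble 122 i)) (Bool.rec (motive := fun _ => List ℕ) (Bool.rec (motive := fun _ => List ℕ) (rw124) (rw125) (Nat.ble 125 i)) (Bool.rec (motive := fun _ => List ℕ) (rw126) (rw127) (Nat.ble 127 i)) (Nat.ble 126 i)) (Nat.ble 124 i)) (Nat.ble 120 i)) (Nat.ble 112 i)) (Nat.ble 96 i)) (Nat.ble 64 i)) (Bool.rec (motive := fun _ => List ℕ) (Bool.rec (motive := fun _ => List ℕ) (Bool.rec (motive := fun _ => List ℕ) (Bool.rec (motive := fun _ => List ℕ) (Bool.rec (motive := fun _ => List ℕ) (Bool.rec (motive := fun _ => List ℕ) (Bool.rec (motive := fun _ => List ℕ) (rw128) (rw129) (Nat.ble 129 i)) (Bool.rec (motive := fun _ => List ℕ) (rw130) (rw131) (Nat.ble 131 i)) (Nat.ble 130 i)) (Bool.rec (motive := fun _ => List ℕ) (Bool.rec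 (motive := fun _ => List ℕ) (rw132) (rw133) (Nat.ble 133 i)) (Bool.rec (motive := fun _ => List ℕ) (rw134) (rw135) (Nat.ble 135 i)) (Nat.ble 134 i)) (Nat.ble 132 i)) (Bool.rec (motive := fun _ => List ℕ) (Bool.rec (motive := fun _ => List ℕ) (Bool.rec (motive := fun _ => List ℕ) (rw136) (rw137) (Nat.ble 137 i)) (Bool.rec (motive := fun _ => List ℕ) (rw138) (rw139) (Nat.ble 139 i)) (Nat.ble 138 i)) (Bool.rec (motive := fun _ => List ℕ) (Bool.rec (motive := fun _ => List ℕ) (rw140) (rw141) (Nat.ble 141 i)) (Bool.rec (motive := fun _ => List ℕ) (rw142) (rw143) (Nat.ble 143 i)) (Nat.ble 142 i)) (Nat.ble 140 i)) (Nat.ble 136 i)) (Bool.rec (motive := fun _ => List ℕ) (Bool.rec (motive := fun _ => List ℕ) (Bool.rec (motive := fun _ => List ℕ) (Bool.rec (motive := fun _ => List ℕ) (rw144) (rw145) (Nat.ble 145 i)) (Bool.rec (motive := fun _ => List ℕ) (rw146) (rw147)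 (Nat.ble 147 i)) (Nat.ble 146 i)) (Bool.rec (motive := fun _ => List ℕ) (Bool.rec (motive := fun _ => List ℕ) (rw148) (rw149) (Nat.ble 149 i)) (Bool.rec (motive := fun _ => List ℕ) (rw150) (rw151) (Nat.ble 151 i)) (Nat.ble 150 i)) (Nat.ble 148 i)) (Bool.rec (motive := fun _ => List ℕ) (Bool.rec (motive := fun _ => List ℕ) (Bool.rec (motive := fun _ => List ℕ) (rw152) (rw153) (Nat.ble 153 i)) (Bool.rec (motive := fun _ => List ℕ) (rw154) (rw155) (Nat.ble 155 i)) (Nat.ble 154 i)) (Bool.rec (motive := fun _ => List ℕ) (Bool.rec (motive := fun _ => List ℕ) (rw156) (rw157) (Nat.ble 157 i)) (Bool.rec (motive := fun _ => List ℕ) (rw158) (rw159) (Nat.ble 159 i)) (Nat.ble 158 i)) (Nat.ble 156 i)) (Nat.ble 152 i)) (Nat.ble 144 i)) (Bool.rec (motive := fun _ => List ℕ) (Bool.rec (motive := fun _ => List ℕ) (Bool.rec (motive := fun _ => List ℕ) (Bool.rec (motive :=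 fun _ => List ℕ) (Bool.rec (motive := fun _ => List ℕ) (rw160) (rw161) (Nat.ble 161 i)) (Bool.rec (motive := fun _ => List ℕ) (rw162) (rw163) (Nat.ble 163 i)) (Nat.ble 162 i)) (Bool.rec (motive := fun _ => List ℕ) (Bool.rec (motive := fun _ => List ℕ) (rw164) (rw165) (Nat.ble 165 i)) (Bool.rec (motive := fun _ => List ℕ) (rw166) (rw167) (Nat.ble 167 i)) (Nat.ble 166 i)) (Nat.ble 164 i)) (Bool.rec (motive := fun _ => List ℕ) (Bool.rec (motive := fun _ => List ℕ) (Bool.rec (motive := fun _ => List ℕ) (rw168) (rw169) (Nat.ble 169 i)) (Bool.rec (motive := fun _ => List ℕ) (rw170) (rw171) (Nat.ble 171 i)) (Nat.ble 170 i)) (Bool.rec (motive := fun _ => List ℕ) (Bool.rec (motive := fun _ => List ℕ) (rw172) (rw173) (Nat.ble 173 i)) (Bool.rec (motive := fun _ => List ℕ) (rw174) (rw175) (Nat.ble 175 i)) (Nat.ble 174 i)) (Nat.ble 172 i)) (Nat.ble 168 i)) (Bool.rec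 (motive := fun _ => List ℕ) (Bool.rec (motive := fun _ => List ℕ) (Bool.rec (motive := fun _ => List ℕ) (Bool.rec (motive := fun _ => List ℕ) (rw176) (rw177) (Nat.ble 177 i)) (Bool.rec (motive := fun _ => List ℕ) (rw178) (rw179) (Nat.ble 179 i)) (Nat.ble 178 i)) (Bool.rec (motive := fun _ => List ℕ) (Bool.rec (motive := fun _ => List ℕ) (rw180) (rw181) (Nat.ble 181 i)) (Bool.rec (motive := fun _ => List ℕ) (rw182) (rw183) (Nat.ble 183 i)) (Nat.ble 182 i)) (Nat.ble 180 i)) (Bool.rec (motive := fun _ => List ℕ) (Bool.rec (motive := fun _ => List ℕ) (Bool.rec (motive := fun _ => List ℕ) (rw184) (rw185) (Nat.ble 185 i)) (Bool.rec (motive := fun _ => List ℕ) (rw186) (rw187) (Nat.ble 187 i)) (Nat.ble 186 i)) (Bool.rec (motive := fun _ => List ℕ) (Bool.rec (motive := fun _ => List ℕ) (rw188) (rw189) (Nat.ble 189 i)) (Bool.rec (motive := fun _ => List ℕ) (rw190)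 (rw191) (Nat.ble 191 i)) (Nat.ble 190 i)) (Nat.ble 188 i)) (Nat.ble 184 i)) (Nat.ble 176 i)) (Nat.ble 160 i)) (Bool.rec (motive := fun _ => List ℕ) (Bool.rec (motive := fun _ => List ℕ) (Bool.rec (motive := fun _ => List ℕ) (Bool.rec (motive := fun _ => List ℕ) (Bool.rec (motive := fun _ => List ℕ) (Bool.rec (motive := fun _ => List ℕ) (rw192) (rw193) (Nat.ble 193 i)) (Bool.rec (motive := fun _ => List ℕ) (rw194) (rw195) (Nat.ble 195 i)) (Nat.ble 194 i)) (Bool.rec (motive := fun _ => List ℕ) (Bool.rec (motive := fun _ => List ℕ) (rw196) (rw197) (Nat.ble 197 i)) (Bool.rec (motive := fun _ => List ℕ) (rw198) (rw199) (Nat.ble 199 i)) (Nat.ble 198 i)) (Nat.ble 196 i)) (Bool.rec (motive := fun _ => List ℕ) (Bool.rec (motive := fun _ => List ℕ) (Bool.rec (motive := fun _ => List ℕ) (rw200) (rw201) (Nat.ble 201 i)) (Bool.rec (motive := fun _ => List ℕ) (rw202)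 (rw203) (Nat.ble 203 i)) (Nat.ble 202 i)) (Bool.rec (motive := fun _ => List ℕ) (Bool.rec (motive := fun _ => List ℕ) (rw204) (rw205) (Nat.ble 205 i)) (Bool.rec (motive := fun _ => List ℕ) (rw206) (rw207) (Nat.ble 207 i)) (Nat.ble 206 i)) (Nat.ble 204 i)) (Nat.ble 200 i)) (Bool.rec (motive := fun _ => List ℕ) (Bool.rec (motive := fun _ => List ℕ) (Bool.rec (motive := fun _ => List ℕ) (Bool.rec (motive := fun _ => List ℕ) (rw208) (rw209) (Nat.ble 209 i)) (Bool.rec (motive := fun _ => List ℕ) (rw210) (rw211) (Nat.ble 211 i)) (Nat.ble 210 i)) (Bool.rec (motive := fun _ => List ℕ) (Bool.rec (motive := fun _ => List ℕ) (rw212) (rw213) (Nat.ble 213 i)) (Bool.rec (motive := fun _ => List ℕ) (rw214) (rw215) (Nat.ble 215 i)) (Nat.ble 214 i)) (Nat.ble 212 i)) (Bool.rec (motive := fun _ => List ℕ) (Bool.rec (motive := fun _ => List ℕ) (Bool.rec (motive := fun _ =>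 List ℕ) (rw216) (rw217) (Nat.ble 217 i)) (Bool.rec (motive := fun _ => List ℕ) (rw218) (rw219) (Nat.ble 219 i)) (Nat.ble 218 i)) (Bool.rec (motive := fun _ => List ℕ) (Bool.rec (motive := fun _ => List ℕ) (rw220) (rw221) (Nat.ble 221 i)) (Bool.rec (motive := fun _ => List ℕ) (rw222) (rw223) (Nat.ble 223 i)) (Nat.ble 222 i)) (Nat.ble 220 i)) (Nat.ble 216 i)) (Nat.ble 208 i)) (Bool.rec (motive := fun _ => List ℕ) (Bool.rec (motive := fun _ => List ℕ) (Bool.rec (motive := fun _ => List ℕ) (Bool.rec (motive := fun _ => List ℕ) (Bool.rec (motive := fun _ => List ℕ) (rw224) (rw225) (Nat.ble 225 i)) (Bool.rec (motive := fun _ => List ℕ) (rw226) (rw227) (Nat.ble 227 i)) (Nat.ble 226 i)) (Bool.rec (motive := fun _ => List ℕ) (Bool.rec (motive := fun _ => List ℕ) (rw228) (rw229) (Nat.ble 229 i)) (Bool.rec (motive := fun _ => List ℕ) (rw230) (rw231) (Nat.ble 231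 i)) (Nat.ble 230 i)) (Nat.ble 228 i)) (Bool.rec (motive := fun _ => List ℕ) (Bool.rec (motive := fun _ => List ℕ) (Bool.rec (motive := fun _ => List ℕ) (rw232) (rw233) (Nat.ble 233 i)) (Bool.rec (motive := fun _ => List ℕ) (rw234) (rw235) (Nat.ble 235 i)) (Nat.ble 234 i)) (Bool.rec (motive := fun _ => List ℕ) (Bool.rec (motive := fun _ => List ℕ) (rw236) (rw237) (Nat.ble 237 i)) (Bool.rec (motive := fun _ => List ℕ) (rw238) (rw239) (Nat.ble 239 i)) (Nat.ble 238 i)) (Nat.ble 236 i)) (Nat.ble 232 i)) (Bool.rec (motive := fun _ => List ℕ) (Bool.rec (motive := fun _ => List ℕ) (Bool.rec (motive := fun _ => List ℕ) (Bool.rec (motive := fun _ => List ℕ) (rw240) (rw241) (Nat.ble 241 i)) (Bool.rec (motive := fun _ => List ℕ) (rw242) (rw243) (Nat.ble 243 i)) (Nat.ble 242 i)) (Bool.rec (motive := fun _ => List ℕ) (Bool.rec (motive := fun _ => List ℕ) (rw244) (rw245)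 (Nat.ble 245 i)) (Bool.rec (motive := fun _ => List ℕ) (rw246) (rw247) (Nat.ble 247 i)) (Nat.ble 246 i)) (Nat.ble 244 i)) (Bool.rec (motive := fun _ => List ℕ) (Bool.rec (motive := fun _ => List ℕ) (Bool.rec (motive := fun _ => List ℕ) (rw248) (rw249) (Nat.ble 249 i)) (Bool.rec (motive := fun _ => List ℕ) (rw250) (rw251) (Nat.ble 251 i)) (Nat.ble 250 i)) (Bool.rec (motive := fun _ => List ℕ) (Bool.rec (motive := fun _ => List ℕ) (rw252) (rw253) (Nat.ble 253 i)) (Bool.rec (motive := fun _ => List ℕ) (rw254) (rw255) (Nat.ble 255 i)) (Nat.ble 254 i)) (Nat.ble 252 i)) (Nat.ble 248 i)) (Nat.ble 240 i)) (Nat.ble 224 i)) (Nat.ble 192 i)) (Nat.ble 128 i)) (Bool.rec (motive := fun _ => List ℕ) (Bool.rec (motive := fun _ => List ℕ) (Bool.rec (motive := fun _ => List ℕ) (Bool.rec (motive := fun _ => List ℕ) (Bool.rec (motive := fun _ => List ℕ) (Bool.rec (motive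 := fun _ => List ℕ) (Bool.rec (motive := fun _ => List ℕ) (Bool.rec (motive := fun _ => List ℕ) (rw256) (rw257) (Nat.ble 257 i)) (Bool.rec (motive := fun _ => List ℕ) (rw258) (rw259) (Nat.ble 259 i)) (Nat.ble 258 i)) (Bool.rec (motive := fun _ => List ℕ) (Bool.rec (motive := fun _ => List ℕ) (rw260) (rw261) (Nat.ble 261 i)) (Bool.rec (motive := fun _ => List ℕ) (rw262) (rw263) (Nat.ble 263 i)) (Nat.ble 262 i)) (Nat.ble 260 i)) (Bool.rec (motive := fun _ => List ℕ) (Bool.rec (motive := fun _ => List ℕ) (Bool.rec (motive := fun _ => List ℕ) (rw264) (rw265) (Nat.ble 265 i)) (Bool.rec (motive := fun _ => List ℕ) (rw266) (rw267) (Nat.ble 267 i)) (Nat.ble 266 i)) (Bool.rec (motive := fun _ => List ℕ) (Bool.rec (motive := fun _ => List ℕ) (rw268) (rw269) (Nat.ble 269 i)) (Bool.rec (motive := fun _ => List ℕ) (rw270) (rw271) (Nat.ble 271 i)) (Nat.ble 270 i)) (Nat.ble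 268 i)) (Nat.ble 264 i)) (Bool.rec (motive := fun _ => List ℕ) (Bool.rec (motive := fun _ => List ℕ) (Bool.rec (motive := fun _ => List ℕ) (Bool.rec (motive := fun _ => List ℕ) (rw272) (rw273) (Nat.ble 273 i)) (Bool.rec (motive := fun _ => List ℕ) (rw274) (rw275) (Nat.ble 275 i)) (Nat.ble 274 i)) (Bool.rec (motive := fun _ => List ℕ) (Bool.rec (motive := fun _ => List ℕ) (rw276) (rw277) (Nat.ble 277 i)) (Bool.rec (motive := fun _ => List ℕ) (rw278) (rw279) (Nat.ble 279 i)) (Nat.ble 278 i)) (Nat.ble 276 i)) (Bool.rec (motive := fun _ => List ℕ) (Bool.rec (motive := fun _ => List ℕ) (Bool.rec (motive := fun _ => List ℕ) (rw280) (rw281) (Nat.ble 281 i)) (Bool.rec (motive := fun _ => List ℕ) (rw282) (rw283) (Nat.ble 283 i)) (Nat.ble 282 i)) (Bool.rec (motive := fun _ => List ℕ) (Bool.rec (motive := fun _ => List ℕ) (rw284) (rw285) (Nat.ble 285 i)) (Bool.rec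 (motive := fun _ => List ℕ) (rw286) (rw287) (Nat.ble 287 i)) (Nat.ble 286 i)) (Nat.ble 284 i)) (Nat.ble 280 i)) (Nat.ble 272 i)) (Bool.rec (motive := fun _ => List ℕ) (Bool.rec (motive := fun _ => List ℕ) (Bool.rec (motive := fun _ => List ℕ) (Bool.rec (motive := fun _ => List ℕ) (Bool.rec (motive := fun _ => List ℕ) (rw288) (rw289) (Nat.ble 289 i)) (Bool.rec (motive := fun _ => List ℕ) (rw290) (rw291) (Nat.ble 291 i)) (Nat.ble 290 i)) (Bool.rec (motive := fun _ => List ℕ) (Bool.rec (motive := fun _ => List ℕ) (rw292) (rw293) (Nat.ble 293 i)) (Bool.rec (motive := fun _ => List ℕ) (rw294) (rw295) (Nat.ble 295 i)) (Nat.ble 294 i)) (Nat.ble 292 i)) (Bool.rec (motive := fun _ => List ℕ) (Bool.rec (motive := fun _ => List ℕ) (Bool.rec (motive := fun _ => List ℕ) (rw296) (rw297) (Nat.ble 297 i)) (Bool.rec (motive := fun _ => List ℕ) (rw298) (rw299) (Nat.ble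 299 i)) (Nat.ble 298 i)) (Bool.rec (motive := fun _ => List ℕ) (Bool.rec (motive := fun _ => List ℕ) (rw300) (rw301) (Nat.ble 301 i)) (Bool.rec (motive := fun _ => List ℕ) (rw302) (rw303) (Nat.ble 303 i)) (Nat.ble 302 i)) (Nat.ble 300 i)) (Nat.ble 296 i)) (Bool.rec (motive := fun _ => List ℕ) (Bool.rec (motive := fun _ => List ℕ) (Bool.rec (motive := fun _ => List ℕ) (Bool.rec (motive := fun _ => List ℕ) (rw304) (rw305) (Nat.ble 305 i)) (Bool.rec (motive := fun _ => List ℕ) (rw306) (rw307) (Nat.ble 307 i)) (Nat.ble 306 i)) (Bool.rec (motive := fun _ => List ℕ) (Bool.rec (motive := fun _ => List ℕ) (rw308) (rw309) (Nat.ble 309 i)) (Bool.rec (motive := fun _ => List ℕ) (rw310) (rw311) (Nat.ble 311 i)) (Nat.ble 310 i)) (Nat.ble 308 i)) (Bool.rec (motive := fun _ => List ℕ) (Bool.rec (motive := fun _ => List ℕ) (Bool.rec (motive := fun _ => List ℕ) (rw312)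 (rw313) (Nat.ble 313 i)) (Bool.rec (motive := fun _ => List ℕ) (rw314) (rw315) (Nat.ble 315 i)) (Nat.ble 314 i)) (Bool.rec (motive := fun _ => List ℕ) (Bool.rec (motive := fun _ => List ℕ) (rw316) (rw317) (Nat.ble 317 i)) (Bool.rec (motive := fun _ => List ℕ) (rw318) (rw319) (Nat.ble 319 i)) (Nat.ble 318 i)) (Nat.ble 316 i)) (Nat.ble 312 i)) (Nat.ble 304 i)) (Nat.ble 288 i)) (Bool.rec (motive := fun _ => List ℕ) (Bool.rec (motive := fun _ => List ℕ) (Bool.rec (motive := fun _ => List ℕ) (Bool.rec (motive := fun _ => List ℕ) (Bool.rec (motive := fun _ => List ℕ) (Bool.rec (motive := fun _ => List ℕ) (rw320) (rw321) (Nat.ble 321 i)) (Bool.rec (motive := fun _ => List ℕ) (rw322) (rw323) (Nat.ble 323 i)) (Nat.ble 322 i)) (Bool.rec (motive := fun _ => List ℕ) (Bool.rec (motive := fun _ => List ℕ) (rw324) (rw325) (Nat.ble 325 i)) (Bool.rec (motive := fun _ =>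 List ℕ) (rw326) (rw327) (Nat.ble 327 i)) (Nat.ble 326 i)) (Nat.ble 324 i)) (Bool.rec (motive := fun _ => List ℕ) (Bool.rec (motive := fun _ => List ℕ) (Bool.rec (motive := fun _ => List ℕ) (rw328) (rw329) (Nat.ble 329 i)) (Bool.rec (motive := fun _ => List ℕ) (rw330) (rw331) (Nat.ble 331 i)) (Nat.ble 330 i)) (Bool.rec (motive := fun _ => List ℕ) (Bool.rec (motive := fun _ => List ℕ) (rw332) (rw333) (Nat.ble 333 i)) (Bool.rec (motive := fun _ => List ℕ) (rw334) (rw335) (Nat.ble 335 i)) (Nat.ble 334 i)) (Nat.ble 332 i)) (Nat.ble 328 i)) (Bool.rec (motive := fun _ => List ℕ) (Bool.rec (motive := fun _ => List ℕ) (Bool.rec (motive := fun _ => List ℕ) (Bool.rec (motive := fun _ => List ℕ) (rw336) (rw337) (Nat.ble 337 i)) (Bool.rec (motive := fun _ => List ℕ) (rw338) (rw339) (Nat.ble 339 i)) (Nat.ble 338 i)) (Bool.rec (motive := fun _ => List ℕ) (Bool.rec (motive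 := fun _ => List ℕ) (rw340) (rw341) (Nat.ble 341 i)) (Bool.rec (motive := fun _ => List ℕ) (rw342) (rw343) (Nat.ble 343 i)) (Nat.ble 342 i)) (Nat.ble 340 i)) (Bool.rec (motive := fun _ => List ℕ) (Bool.rec (motive := fun _ => List ℕ) (Bool.rec (motive := fun _ => List ℕ) (rw344) (rw345) (Nat.ble 345 i)) (Bool.rec (motive := fun _ => List ℕ) (rw346) (rw347) (Nat.ble 347 i)) (Nat.ble 346 i)) (Bool.rec (motive := fun _ => List ℕ) (Bool.rec (motive := fun _ => List ℕ) (rw348) (rw349) (Nat.ble 349 i)) (Bool.rec (motive := fun _ => List ℕ) (rw350) (rw351) (Nat.ble 351 i)) (Nat.ble 350 i)) (Nat.ble 348 i)) (Nat.ble 344 i)) (Nat.ble 336 i)) (Bool.rec (motive := fun _ => List ℕ) (Bool.rec (motive := fun _ => List ℕ) (Bool.rec (motive := fun _ => List ℕ) (Bool.rec (motive := fun _ => List ℕ) (Bool.rec (motive := fun _ => List ℕ) (rw352) (rw353) (Nat.ble 353 i))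 (Bool.rec (motive := fun _ => List ℕ) (rw354) (rw355) (Nat.ble 355 i)) (Nat.ble 354 i)) (Bool.rec (motive := fun _ => List ℕ) (Bool.rec (motive := fun _ => List ℕ) (rw356) (rw357) (Nat.ble 357 i)) (Bool.rec (motive := fun _ => List ℕ) (rw358) (rw359) (Nat.ble 359 i)) (Nat.ble 358 i)) (Nat.ble 356 i)) (Bool.rec (motive := fun _ => List ℕ) (Bool.rec (motive := fun _ => List ℕ) (Bool.rec (motive := fun _ => List ℕ) (rw360) (rw361) (Nat.ble 361 i)) (Bool.rec (motive := fun _ => List ℕ) (rw362) (rw363) (Nat.ble 363 i)) (Nat.ble 362 i)) (Bool.rec (motive := fun _ => List ℕ) (Bool.rec (motive := fun _ => List ℕ) (rw364) (rw365) (Nat.ble 365 i)) (Bool.rec (motive := fun _ => List ℕ) (rw366) (rw367) (Nat.ble 367 i)) (Nat.ble 366 i)) (Nat.ble 364 i)) (Nat.ble 360 i)) (Bool.rec (motive := fun _ => List ℕ) (Bool.rec (motive := fun _ => List ℕ) (Bool.rec (motive :=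 fun _ => List ℕ) (Bool.rec (motive := fun _ => List ℕ) (rw368) (rw369) (Nat.ble 369 i)) (Bool.rec (motive := fun _ => List ℕ) (rw370) (rw371) (Nat.ble 371 i)) (Nat.ble 370 i)) (Bool.rec (motive := fun _ => List ℕ) (Bool.rec (motive := fun _ => List ℕ) (rw372) (rw373) (Nat.ble 373 i)) (Bool.rec (motive := fun _ => List ℕ) (rw374) (rw375) (Nat.ble 375 i)) (Nat.ble 374 i)) (Nat.ble 372 i)) (Bool.rec (motive := fun _ => List ℕ) (Bool.rec (motive := fun _ => List ℕ) (Bool.rec (motive := fun _ => List ℕ) (rw376) (rw377) (Nat.ble 377 i)) (Bool.rec (motive := fun _ => List ℕ) (rw378) (rw379) (Nat.ble 379 i)) (Nat.ble 378 i)) (Bool.rec (motive := fun _ => List ℕ) (Bool.rec (motive := fun _ => List ℕ) (rw380) (rw381) (Nat.ble 381 i)) (Bool.rec (motive := fun _ => List ℕ) (rw382) (rw383) (Nat.ble 383 i)) (Nat.ble 382 i)) (Nat.ble 380 i)) (Nat.ble 376 i)) (Nat.ble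 368 i)) (Nat.ble 352 i)) (Nat.ble 320 i)) (Bool.rec (motive := fun _ => List ℕ) (Bool.rec (motive := fun _ => List ℕ) (Bool.rec (motive := fun _ => List ℕ) (Bool.rec (motive := fun _ => List ℕ) (Bool.rec (motive := fun _ => List ℕ) (Bool.rec (motive := fun _ => List ℕ) (Bool.rec (motive := fun _ => List ℕ) (rw384) (rw385) (Nat.ble 385 i)) (Bool.rec (motive := fun _ => List ℕ) (rw386) (rw387) (Nat.ble 387 i)) (Nat.ble 386 i)) (Bool.rec (motive := fun _ => List ℕ) (Bool.rec (motive := fun _ => List ℕ) (rw388) (rw389) (Nat.ble 389 i)) (Bool.rec (motive := fun _ => List ℕ) (rw390) (rw391) (Nat.ble 391 i)) (Nat.ble 390 i)) (Nat.ble 388 i)) (Bool.rec (motive := fun _ => List ℕ) (Bool.rec (motive := fun _ => List ℕ) (Bool.rec (motive := fun _ => List ℕ) (rw392) (rw393) (Nat.ble 393 i)) (Bool.rec (motive := fun _ => List ℕ) (rw394) (rw395) (Nat.ble 395 i)) (Nat.ble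 394 i)) (Bool.rec (motive := fun _ => List ℕ) (Bool.rec (motive := fun _ => List ℕ) (rw396) (rw397) (Nat.ble 397 i)) (Bool.rec (motive := fun _ => List ℕ) (rw398) (rw399) (Nat.ble 399 i)) (Nat.ble 398 i)) (Nat.ble 396 i)) (Nat.ble 392 i)) (Bool.rec (motive := fun _ => List ℕ) (Bool.rec (motive := fun _ => List ℕ) (Bool.rec (motive := fun _ => List ℕ) (Bool.rec (motive := fun _ => List ℕ) (rw400) (rw401) (Nat.ble 401 i)) (Bool.rec (motive := fun _ => List ℕ) (rw402) (rw403) (Nat.ble 403 i)) (Nat.ble 402 i)) (Bool.rec (motive := fun _ => List ℕ) (Bool.rec (motive := fun _ => List ℕ) (rw404) (rw405) (Nat.ble 405 i)) (Bool.rec (motive := fun _ => List ℕ) (rw406) (rw407) (Nat.ble 407 i)) (Nat.ble 406 i)) (Nat.ble 404 i)) (Bool.rec (motive := fun _ => List ℕ) (Bool.rec (motive := fun _ => List ℕ) (Bool.rec (motive := fun _ => List ℕ) (rw408) (rw409) (Nat.ble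 409 i)) (Bool.rec (motive := fun _ => List ℕ) (rw410) (rw411) (Nat.ble 411 i)) (Nat.ble 410 i)) (Bool.rec (motive := fun _ => List ℕ) (Bool.rec (motive := fun _ => List ℕ) (rw412) (rw413) (Nat.ble 413 i)) (Bool.rec (motive := fun _ => List ℕ) (rw414) (rw415) (Nat.ble 415 i)) (Nat.ble 414 i)) (Nat.ble 412 i)) (Nat.ble 408 i)) (Nat.ble 400 i)) (Bool.rec (motive := fun _ => List ℕ) (Bool.rec (motive := fun _ => List ℕ) (Bool.rec (motive := fun _ => List ℕ) (Bool.rec (motive := fun _ => List ℕ) (Bool.rec (motive := fun _ => List ℕ) (rw416) (rw417) (Nat.ble 417 i)) (Bool.rec (motive := fun _ => List ℕ) (rw418) (rw419) (Nat.ble 419 i)) (Nat.ble 418 i)) (Bool.rec (motive := fun _ => List ℕ) (Bool.rec (motive := fun _ => List ℕ) (rw420) (rw421) (Nat.ble 421 i)) (Bool.rec (motive := fun _ => List ℕ) (rw422) (rw423) (Nat.ble 423 i)) (Nat.ble 422 i)) (Nat.ble 420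 i)) (Bool.rec (motive := fun _ => List ℕ) (Bool.rec (motive := fun _ => List ℕ) (Bool.rec (motive := fun _ => List ℕ) (rw424) (rw425) (Nat.ble 425 i)) (Bool.rec (motive := fun _ => List ℕ) (rw426) (rw427) (Nat.ble 427 i)) (Nat.ble 426 i)) (Bool.rec (motive := fun _ => List ℕ) (Bool.rec (motive := fun _ => List ℕ) (rw428) (rw429) (Nat.ble 429 i)) (Bool.rec (motive := fun _ => List ℕ) (rw430) (rw431) (Nat.ble 431 i)) (Nat.ble 430 i)) (Nat.ble 428 i)) (Nat.ble 424 i)) (Bool.rec (motive := fun _ => List ℕ) (Bool.rec (motive := fun _ => List ℕ) (Bool.rec (motive := fun _ => List ℕ) (Bool.rec (motive := fun _ => List ℕ) (rw432) (rw433) (Nat.ble 433 i)) (Bool.rec (motive := fun _ => List ℕ) (rw434) (rw435) (Nat.ble 435 i)) (Nat.ble 434 i)) (Bool.rec (motive := fun _ => List ℕ) (Bool.rec (motive := fun _ => List ℕ) (rw436) (rw437) (Nat.ble 437 i)) (Bool.rec (motive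 := fun _ => List ℕ) (rw438) ([]) (Nat.ble 439 i)) (Nat.ble 438 i)) (Nat.ble 436 i)) ([]) (Nat.ble 440 i)) (Nat.ble 432 i)) (Nat.ble 416 i)) ([]) (Nat.ble 448 i)) (Nat.ble 384 i)) (Nat.ble 256 i))
def sw0 : List ℕ := [6]
def sw1 : List ℕ := [8]
def sw2 : List ℕ := [10]
def sw3 : List ℕ := [12]
def sw4 : List ℕ := [14]
def sw5 : List ℕ := [16]
def sw6 : List ℕ := [4]
def sw7 : List ℕ := [2]
noncomputable def subW (i : ℕ) : List ℕ := (Bool.rec (motive := fun _ => List ℕ) (Bool.rec (motive := fun _ => List ℕ) (Bool.rec (motive := fun _ => List ℕ) (sw0) (sw1) (Nat.ble 1 i)) (Bool.rec (motive := fun _ => List ℕ) (sw2) (sw3) (Nat.ble 3 i)) (Nat.ble 2 i)) (Bool.rec (motive := fun _ => List ℕ) (Bool.rec (motive := fun _ => List ℕ) (sw4) (sw5) (Nat.ble 5 i)) (Bool.rec (motive := fun _ => List ℕ) (sw6) (sw7) (Nat.ble 7 i)) (Nat.ble 6 i)) (Nat.ble 4 i))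

noncomputable def data : Data where
  w := 17
  mask := 131071
  tw := 20
  tmask := 1048575
  hsh := 37
  lsh := 54
  ew := 57
  emask := 144115188075855871
  mw := 59
  mmask := 576460752303423487
  jw := 25
  jmask := 33554431
  bsh := 9
  bmask := 511
  nc := 20
  fuel := 4
  E := eT
  J := jT
  Mg := mgT
  JM := jmT
  relW := relW
  nrot := 439
  subW := subW
  nsub := 8

def M : ℕ := 85618
def n : ℕ := 28431

def bases : List (List ℕ) := [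
  [0, 0],
  [1, 1],
  [2, 2],
  [4, 4],
  [5, 5],
  [6, 6],
  [7, 7],
  [8, 8],
  [9, 9],
  [10, 10],
  [11, 11],
  [12, 12],
  [13, 13],
  [14, 14],
  [16, 16],
  [0, 2, 0, 2],
  [3, 1, 3, 1],
  [0, 4, 0, 4],
  [5, 1, 5, 1],
  [0, 6, 0, 6, 0, 6],
  [7, 1, 7, 1, 7, 1],
  [0, 8, 0, 8],
  [9, 1, 9, 1],
  [0, 10, 0, 10],
  [11, 1, 11, 1],
  [0, 12, 0, 12],
  [13, 1, 13, 1],
  [0, 14, 0, 14],
  [15, 1, 15, 1],
  [0, 16, 0, 16],
  [17, 1, 17, 1],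
  [2, 4, 2, 4, 2, 4],
  [5, 3, 5, 3, 5, 3],
  [2, 6, 2, 6],
  [7, 3, 7, 3],
  [2, 8, 2, 8],
  [9, 3, 9, 3],
  [2, 10, 2, 10],
  [11, 3, 11, 3],
  [2, 12, 2, 12],
  [13, 3, 13, 3],
  [2, 14, 2, 14],
  [15, 3, 15, 3],
  [2, 16, 2, 16],
  [17, 3, 17, 3],
  [4, 6, 4, 6],
  [7, 5, 7, 5],
  [4, 8, 4, 8, 4, 8],
  [9, 5, 9, 5, 9, 5],
  [4, 10, 4, 10],
  [11, 5, 11, 5],
  [4, 12, 4, 12],
  [13, 5, 13, 5],
  [4, 14, 4, 14],
  [15, 5, 15, 5],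
  [4, 16, 4, 16],
  [17, 5, 17, 5],
  [6, 8, 6, 8, 6, 8],
  [9, 7, 9, 7, 9, 7],
  [6, 10, 6, 10],
  [11, 7, 11, 7],
  [6, 12, 6, 12],
  [13, 7, 13, 7],
  [6, 14, 6, 14],
  [15, 7, 15, 7],
  [6, 16, 6, 16],
  [17, 7, 17, 7],
  [8, 10, 8, 10, 8, 10],
  [11, 9, 11, 9, 11, 9],
  [8, 12, 8, 12],
  [13, 9, 13, 9],
  [8, 14, 8, 14],
  [15, 9, 15, 9],
  [8, 16, 8, 16],
  [17, 9, 17, 9],
  [10, 12, 10, 12, 10, 12],
  [13, 11, 13, 11, 13, 11],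
  [10, 14, 10, 14],
  [15, 11, 15, 11],
  [10, 16, 10, 16],
  [17, 11, 17, 11],
  [12, 14, 12, 14, 12, 14],
  [15, 13, 15, 13, 15, 13],
  [12, 16, 12, 16],
  [17, 13, 17, 13],
  [14, 16, 14, 16, 14, 16],
  [17, 15, 17, 15, 17, 15],
  [8, 6, 0, 8, 10, 12, 8, 4, 2, 8, 6, 0, 8, 10, 12, 8, 4, 2, 8, 6, 0, 8, 10, 12, 8, 4, 2, 8, 6, 0, 8, 10, 12, 8, 4, 2, 8, 6, 0, 8, 10, 12, 8, 4, 2, 8, 6, 0, 8, 10, 12, 8, 4, 2, 8, 6, 0, 8, 10, 12, 8, 4, 2, 8, 6, 0, 8, 10, 12, 8, 4, 2, 8, 6, 0, 8, 10, 12, 8, 4, 2, 8, 6, 0, 8, 10, 12, 8, 4, 2, 19],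
  [18, 3, 5, 9, 13, 11, 9, 1, 7, 9, 3, 5, 9, 13, 11, 9, 1, 7, 9, 3, 5, 9, 13, 11, 9, 1, 7, 9, 3, 5, 9, 13, 11, 9, 1, 7, 9, 3, 5, 9, 13, 11, 9, 1, 7, 9, 3, 5, 9, 13, 11, 9, 1, 7, 9, 3, 5, 9, 13, 11, 9, 1, 7, 9, 3, 5, 9, 13, 11, 9, 1, 7, 9, 3, 5, 9, 13, 11, 9, 1, 7, 9, 3, 5, 9, 13, 11, 9, 1, 7, 9],
  [18, 0, 19, 0],
  [1, 18, 1, 19],
  [18, 2, 19, 2],
  [3, 18, 3, 19],
  [18, 4, 19, 4],
  [5, 18, 5, 19],
  [18, 6, 19, 6],
  [7, 18, 7, 19],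
  [18, 8, 19, 8],
  [9, 18, 9, 19],
  [18, 10, 19, 10],
  [11, 18, 11, 19],
  [18, 12, 19, 12],
  [13, 18, 13, 19],
  [18, 14, 19, 14],
  [15, 18, 15, 19],
  [18, 16, 19, 16],
  [17, 18, 17, 19]]

def rots : List (ℕ × ℕ) := [(0, 1), (19, 2), (21, 2), (17, 2), (23, 2), (15, 2), (25, 2), (27, 2), (29, 2), (25, 0), (23, 0), (27, 0), (21, 0), (29, 0), (17, 0), (15, 0), (19, 0), (89, 1), (19, 4), (89, 3), (87, 2), (87, 29), (87, 20), (87, 74), (87, 11), (18, 3), (28, 3), (26, 3), (24, 3), (88, 61), (90, 2), (30, 1), (26, 1), (24, 1), (22, 1), (20, 3), (88, 7), (20, 5), (22, 3), (18, 1), (16, 3), (1, 1), (90, 0), (28, 1), (88, 88), (15, 1), (33, 2), (35, 2), (37, 2), (2, 1), (37, 0), (39, 2), (35, 0), (39, 0), (41, 2), (33, 0), (41, 0), (43, 2), (31, 2), (15, 3), (43, 0), (31, 0), (31, 4), (91, 1), (87, 17), (87, 44), (91, 3), (87, 8), (38, 1), (36, 1), (40,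 1), (16, 2), (88, 46), (38, 3), (36, 3), (44, 3), (42, 3), (34, 3), (32, 3), (88, 19), (92, 0), (16, 0), (92, 2), (44, 1), (40, 3), (17, 1), (45, 2), (3, 1), (49, 0), (31, 1), (49, 2), (51, 0), (47, 2), (51, 2), (53, 0), (53, 2), (55, 0), (45, 0), (55, 2), (17, 3), (31, 5), (47, 0), (87, 16), (31, 3), (87, 61), (47, 4), (93, 1), (87, 25), (87, 43), (93, 3), (87, 7), (52, 3), (52, 1), (4, 1), (94, 2), (18, 2), (88, 29), (46, 3), (48, 5), (48, 3), (56, 3), (50, 3), (54, 1), (54, 3), (50, 1), (18, 0), (88, 11), (56, 1), (46, 1), (5, 1), (57, 2), (45, 1), (59, 2), (33, 1), (61, 2), (63, 2), (61, 0), (65, 2), (19, 1), (59, 0), (63, 0), (65, 0), (19, 5), (57, 0), (45, 3), (33, 3), (57, 4), (87, 73), (95, 1), (87, 37), (87, 1), (95, 3), (19, 3), (87, 55), (87, 10), (62, 3), (64, 3), (46, 2), (46, 0), (20, 0), (60, 1), (64, 1), (20, 2), (66, 3), (88, 62), (88,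 89), (88, 71), (58, 3), (60, 3), (58, 5), (62, 1), (6, 1), (96, 2), (34, 0), (66, 1), (88, 80), (88, 35), (20, 4), (21, 1), (7, 1), (47, 1), (67, 2), (35, 1), (69, 2), (69, 0), (71, 2), (57, 1), (71, 0), (73, 2), (73, 0), (57, 5), (47, 5), (21, 3), (35, 3), (67, 0), (47, 3), (87, 33), (87, 9), (87, 72), (87, 15), (57, 3), (97, 1), (87, 3), (87, 57), (67, 4), (97, 3), (87, 21), (87, 27), (87, 84), (87, 36), (87, 0), (70, 3), (68, 5), (68, 3), (98, 2), (74, 1), (58, 4), (88, 33), (22, 2), (74, 3), (36, 0), (72, 3), (70, 1), (88, 63), (72, 1), (8, 1), (88, 66), (22, 0), (58, 2), (88, 18), (58, 0), (23, 1), (59, 1), (9, 1), (75, 2), (67, 1), (77, 2), (79, 2), (49, 1), (77, 0), (79, 0), (67, 5), (37, 1), (49, 3), (59, 3), (37, 3), (23, 3), (75, 0), (75, 4), (87, 22), (87, 58), (67, 3), (87, 4), (99, 1), (87, 49), (87, 67), (87, 85), (87, 13), (87, 31), (99,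 3), (76, 5), (88, 50), (50, 2), (100, 0), (50, 0), (68, 4), (88, 86), (76, 1), (24, 0), (60, 2), (78, 1), (88, 14), (68, 2), (80, 3), (78, 3), (10, 1), (38, 0), (60, 0), (88, 5), (80, 1), (76, 3), (88, 23), (68, 0), (38, 2), (25, 1), (61, 1), (69, 1), (51, 1), (39, 1), (11, 1), (81, 2), (83, 2), (75, 1), (83, 0), (75, 5), (69, 3), (51, 3), (61, 3), (39, 3), (25, 3), (81, 0), (75, 3), (101, 1), (87, 14), (81, 4), (87, 50), (87, 59), (101, 3), (87, 5), (87, 86), (76, 4), (52, 0), (82, 5), (88, 31), (88, 13), (88, 40), (26, 2), (88, 58), (40, 2), (62, 2), (82, 3), (40, 0), (70, 2), (76, 2), (62, 0), (84, 3), (52, 2), (26, 0), (70, 0), (102, 2), (12, 1), (84, 1), (88, 4), (76, 0), (27, 1), (63, 1), (71, 1), (53, 1), (77, 1), (41, 1), (13, 1), (85, 2), (81, 1), (81, 5), (77, 3), (71, 3), (63, 3), (53, 3), (27, 3), (41, 3), (81, 3), (103, 1), (85, 0), (85, 4),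 (103, 3), (82, 2), (78, 2), (64, 0), (28, 2), (42, 0), (64, 2), (54, 0), (72, 2), (54, 2), (72, 0), (104, 2), (86, 1), (42, 2), (78, 0), (82, 0), (29, 1), (65, 1), (73, 1), (55, 1), (79, 1), (43, 1), (83, 1), (14, 1), (85, 1), (85, 5), (83, 3), (79, 3), (73, 3), (55, 3), (65, 3), (29, 3), (43, 3), (105, 1), (85, 3), (105, 3), (74, 0), (106, 2), (30, 0), (86, 0), (30, 2), (56, 2), (44, 2), (66, 0), (86, 2), (80, 2), (44, 0), (95, 0), (99, 0), (101, 0), (103, 0), (97, 0), (105, 0), (88, 0), (91, 0), (93, 0), (89, 0), (100, 1), (92, 1), (102, 1), (98, 1), (90, 1), (94, 1), (89, 2), (97, 2), (93, 2), (99, 2), (95, 2), (101, 2), (103, 2), (91, 2), (105, 2), (87, 90), (98, 3), (96, 3), (90, 3), (94, 3), (100, 3), (92, 3), (102, 3), (104, 3), (88, 12), (87, 82), (87, 60), (88, 74)]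

def subsL : List (List ℕ) := [
  [6],
  [8],
  [10],
  [12],
  [14],
  [16],
  [4],
  [2]]

end Cfsg.Agent.Lib.Helper5.Fi23TC.B
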